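import Cfsg.Agent.Lib.Core.Fitting
import Mathlib.GroupTheory.SpecificGroups.Cyclic

/-!
Elementary facts on finite nilpotent groups and subnormal subgroups.
-/

set_option autoImplicit false

namespace Cfsg.Lib.Solv

open Subgroup Cfsg.Lib.Core

variable {G : Type*} [Group G]

/-- A nontrivial normal subgroup of a nilpotent group meets the centre. -/
theorem inf_center_ne_bot_of_isNilpotent [hG : Group.IsNilpotent G] {N : Subgroup G} [N.Normal]
    (hN : N ≠ ⊥) : N ⊓ center G ≠ ⊥ := by
  intro hbot
  have key : ∀ k, N ⊓ Subgroup.upperCentralSeries G k = ⊥ := by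
    intro k
    induction k with
    | zero => simp
    | succ k ih =>
      refine eq_bot_iff.2 fun x hx => ?_
      rw [← hbot]
      refine ⟨hx.1, mem_center_iff.2 fun g => ?_⟩
      have h1 : x * g * x⁻¹ * g⁻¹ ∈ Subgroup.upperCentralSeries G k :=
        Subgroup.mem_upperCentralSeries_succ_iff.1 hx.2 g
      have h2 : x * g * x⁻¹ * g⁻¹ ∈ N := by
        have := mul_mem hx.1 (‹N.Normal›.conj_mem _ (inv_mem hx.1) g)
        simpa [mul_assoc] using this
      have h3 : x * g * x⁻¹ * g⁻¹ = 1 := by
        have := ih ▸ (show x * g * x⁻¹ * g⁻¹ ∈ N ⊓ Subgroup.upperCentralSeries G k from ⟨h2, h1⟩)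
        simpa using this
      rw [mul_inv_eq_one, mul_inv_eq_iff_eq_mul] at h3
      exact h3.symm
  obtain ⟨n, hn⟩ := hG.nilpotent
  exact hN (by simpa [hn] using key n)

/-- A finite group is nilpotent iff all its subgroups are subnormal. -/
theorem isNilpotent_iff_forall_isSubnormal [Finite G] :
    Group.IsNilpotent G ↔ ∀ H : Subgroup G, H.IsSubnormal := by
  constructor
  · intro h H
    induction H using WellFoundedGT.induction with
    | _ H ih =>
      by_cases hH : H = ⊤
      · exact hH ▸ IsSubnormal.top
      · exact IsSubnormal.step _ _ le_normalizer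
          (ih _ (Group.normalizerCondition_of_isNilpotent H (lt_top_iff_ne_top.2 hH)))
          normal_in_normalizer
  · intro h
    refine (Group.isNilpotent_of_finite_tfae.out 0 2 rfl rfl).2 fun M hM => ?_
    obtain ⟨K, hKn, hMK, hK⟩ := (h M).exists_normal_and_le_and_lt_top_of_ne hM.1
    rcases hM.le_iff.1 hMK with h' | h'
    · exact absurd h' hK.ne
    · exact h' ▸ hKn

/-- A maximal abelian normal subgroup of a nilpotent group is self-centralizing. -/
theorem centralizer_eq_of_maximal_abelian_normal [Finite G] [Group.IsNilpotent G]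
    (N : Subgroup G) [N.Normal] [IsMulCommutative N]
    (hmax : ∀ M : Subgroup G, M.Normal → IsMulCommutative M → N ≤ M → M = N) :
    centralizer (N : Set G) = N := by
  refine le_antisymm ?_ (le_centralizer N)
  by_contra hle
  set f := QuotientGroup.mk' N
  have hs := QuotientGroup.mk'_surjective N
  have : ((centralizer (N : Set G)).map f).Normal := Subgroup.Normal.map inferInstance f hs
  have hne : (centralizer (N : Set G)).map f ≠ ⊥ := by
    rwa [Ne, Subgroup.map_eq_bot_iff, QuotientGroup.ker_mk']
  obtain ⟨⟨y, ⟨x, hx, rfl⟩, hy⟩, hy1'⟩ :=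
    Subgroup.ne_bot_iff_exists_ne_one.1 (inf_center_ne_bot_of_isNilpotent hne)
  have hy1 : f x ≠ 1 := fun h => hy1' (Subtype.ext h)
  have hxN : x ∉ N := fun h => hy1 ((QuotientGroup.eq_one_iff x).2 h)
  set M := N ⊔ zpowers x with hM
  have hcomm : IsMulCommutative M := by
    rw [← le_centralizer_iff_isMulCommutative, hM]
    refine sup_le ?_ (zpowers_le.2 ?_)
    · rw [le_centralizer_iff]
      exact sup_le (le_centralizer N) (zpowers_le.2 hx)
    · rw [← zpowers_le, le_centralizer_iff]
      refine sup_le ?_ (le_centralizer _)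
      rw [le_centralizer_iff]
      exact zpowers_le.2 hx
  have hMn : M.Normal := ⟨fun m hm g => by
    have hc : f m ∈ center (G ⧸ N) := by
      have : M.map f ≤ center (G ⧸ N) := by
        rw [hM, Subgroup.map_sup, MonoidHom.map_zpowers]
        exact sup_le (by simp [f, QuotientGroup.map_mk'_self]) (zpowers_le.2 hy)
      exact this (mem_map_of_mem f hm)
    have h1 : f (g * m * g⁻¹ * m⁻¹) = 1 := by
      rw [map_mul, map_mul, map_mul, mem_center_iff.1 hc (f g), map_inv, map_inv]
      group
    have h2 : g * m * g⁻¹ * m⁻¹ ∈ M := (le_sup_left : N ≤ M) ((QuotientGroup.eq_one_iff _).1 h1)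
    simpa using mul_mem h2 hm⟩
  exact hxN (hmax M hMn hcomm le_sup_left ▸ le_sup_right (a := N) (mem_zpowers x))

/-- A group of order `p ^ m` with `1 < m` has class at most `m - 1`. -/
theorem nilpotencyClass_le_of_card_eq_pow (m : ℕ) : ∀ {G : Type*} [Group G] [Finite G] {p : ℕ}
    [Fact p.Prime], Nat.card G = p ^ m → 1 < m → Group.nilpotencyClass G ≤ m - 1 := by
  induction m using Nat.strong_induction_on with
  | _ m ih =>
    intro G _ _ p hp hG hm
    have hpg : IsPGroup p G := IsPGroup.of_card hG
    have : Group.IsNilpotent G := hpg.isNilpotent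
    have : Nontrivial G := Finite.one_lt_card_iff_nontrivial.1
      (hG ▸ Nat.one_lt_pow (by omega) hp.out.one_lt)
    have hq : IsPGroup p (G ⧸ center G) := hpg.to_quotient _
    obtain ⟨k, hk⟩ := IsPGroup.iff_card.1 hq
    have hlt : k < m := by
      have h1 : Nat.card (G ⧸ center G) < Nat.card G := by
        have := card_eq_card_quotient_mul_card_subgroup (center G)
        have hc : 1 < Nat.card (center G) :=
          Finite.one_lt_card_iff_nontrivial.2 hpg.center_nontrivial
        rw [this]
        exact lt_mul_right Nat.card_pos hc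
      rw [hk, hG] at h1
      exact (Nat.pow_lt_pow_iff_right hp.out.one_lt).1 h1
    have hcls := Group.nilpotencyClass_quotient_center (G := G)
    rcases Nat.lt_or_ge 1 k with hk1 | hk1
    · have := ih k hlt (G := G ⧸ center G) hk hk1
      omega
    · have hcyc : IsCyclic (G ⧸ center G) := by
        rcases Nat.le_one_iff_eq_zero_or_eq_one.1 hk1 with rfl | rfl
        · have : Subsingleton (G ⧸ center G) :=
            (Nat.card_eq_one_iff_unique.1 (by simpa using hk)).1
          infer_instance
        · exact isCyclic_of_prime_card (by simpa using hk)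
      have hab : IsMulCommutative G :=
        (QuotientGroup.mk' (center G)).isMulCommutative_of_isCyclic_of_ker_le_center
          (by rw [QuotientGroup.ker_mk'])
      have htop : center G = ⊤ := eq_top_iff.2 fun x _ =>
        mem_center_iff.2 fun g => mul_comm' g x
      have : Subsingleton (G ⧸ center G) := by
        rw [htop]; exact QuotientGroup.subsingleton_quotient_top
      have h0 : Group.nilpotencyClass (G ⧸ center G) = 0 :=
        Group.nilpotencyClass_zero_iff_subsingleton.2 this
      omega

/-- A Sylow subgroup meets a subnormal subgroup in a Sylow subgroup. -/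
theorem not_dvd_relIndex_of_isSubnormal [Finite G] {p : ℕ} [hp : Fact p.Prime] (S : Sylow p G)
    {H : Subgroup G} (hH : H.IsSubnormal) : ¬ p ∣ ((S : Subgroup G)).relIndex H := by
  induction hH with
  | top => rw [relIndex_top_right]; exact S.not_dvd_index
  | step H K hle hK hN ih =>
    set P := (S : Subgroup G).subgroupOf K
    set N := H.subgroupOf K
    have := hN
    have h1 : P.relIndex N = (S : Subgroup G).relIndex H := relIndex_subgroupOf hle
    intro hd
    apply ih
    rw [← h1] at hd
    refine hd.trans ?_
    have hc1 := card_mul_index P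
    have e : P.relIndex N = P.relIndex (P ⊔ N) := by
      have hA := relIndex_mul_relIndex ⊥ (P ⊓ N) N bot_le inf_le_right
      have hB := relIndex_mul_relIndex ⊥ (N ⊓ P) P bot_le inf_le_right
      have hC := relIndex_mul_relIndex ⊥ P (P ⊔ N) bot_le le_sup_left
      have hD := relIndex_mul_relIndex ⊥ N (P ⊔ N) bot_le le_sup_right
      rw [relIndex_sup_right] at hD
      simp only [relIndex_bot_left, inf_relIndex_right] at hA hB hC hD
      rw [inf_comm N P] at hB
      apply Nat.eq_of_mul_eq_mul_left (Nat.card_pos (α := P))
      rw [hC, ← hD, ← hA, ← hB]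
      ring
    rw [e]
    exact relIndex_dvd_index_of_le le_sup_left

end Cfsg.Lib.Solv
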