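import Cfsg.Agent.Lib.Solv.FrobeniusBasic
import Cfsg.Agent.Lib.Coprime.Generation
import Mathlib.GroupTheory.PGroup

/-!
Groups acting fixed point freely: coprimality, no elementary abelian subgroup of rank two,
no Frobenius subgroup.
-/

set_option autoImplicit false

namespace Cfsg.Lib.Solv

open Cfsg Cfsg.Lib.Core
open scoped Pointwise IsMulCommutative

universe u v

section Abstract

variable {B : Type u} [Group B]

/-- Two groups, the first acting without fixed points on the second, have coprime orders. -/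
theorem coprime_of_fpf_hom [Finite B] {V : Type v} [Group V] [Finite V] (φ : B →* MulAut V)
    (hfpf : ∀ b : B, b ≠ 1 → ∀ v : V, φ b v = v → v = 1) :
    (Nat.card B).Coprime (Nat.card V) := by
  refine Nat.coprime_of_dvd' fun r hr hB hV => ?_
  have := Fact.mk hr
  obtain ⟨b, hb⟩ := exists_prime_orderOf_dvd_card' r hB
  have hb1 : b ≠ 1 := by rintro rfl; rw [orderOf_one] at hb; exact hr.ne_one hb.symm
  letI : MulAction (Subgroup.zpowers b) V :=
    MulAction.compHom V (φ.comp (Subgroup.zpowers b).subtype)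
  have hp : IsPGroup r (Subgroup.zpowers b) :=
    IsPGroup.of_card (n := 1) (by rw [Nat.card_zpowers, hb, pow_one])
  have hmod := hp.card_modEq_card_fixedPoints V
  have hfix : Nat.card (MulAction.fixedPoints (Subgroup.zpowers b) V) = 1 := by
    rw [Nat.card_eq_one_iff_unique]
    refine ⟨⟨fun x y => Subtype.ext ?_⟩, ⟨⟨1, fun c => map_one (φ (c : B))⟩⟩⟩
    rw [hfpf b hb1 _ (x.2 ⟨b, Subgroup.mem_zpowers b⟩), hfpf b hb1 _ (y.2 ⟨b, Subgroup.mem_zpowers b⟩)]
  rw [hfix] at hmod
  exact (Nat.ModEq.dvd_iff hmod dvd_rfl).1 hV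

variable {V : Type v} [CommGroup V]

open scoped Classical in
/-- If a group is partitioned by `k` subgroups, none of them fixing a nontrivial element of the
abelian group `V`, then `v ^ k = v` on `V`. -/
theorem pow_eq_self_of_partition [Fintype B] {ι : Type*} [Fintype ι] (φ : B →* MulAut V)
    (S : ι → Subgroup B) (hcover : ∀ b : B, b ≠ 1 → ∃! i, b ∈ S i)
    (hfix : ∀ i (v : V), (∀ b ∈ S i, φ b v = v) → v = 1)
    (hfixB : ∀ v : V, (∀ b, φ b v = v) → v = 1) (v : V) : v ^ Fintype.card ι = v := by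
  have hN : ∏ b : B, φ b v = 1 := hfixB _ fun a => by
    rw [map_prod]
    exact Fintype.prod_equiv (Equiv.mulLeft a) _ _ fun b => by simp [map_mul]
  have hS : ∀ i, ∏ b : B, (if b ∈ S i then φ b v else 1) = 1 := fun i => hfix i _ fun a ha => by
    rw [map_prod]
    refine Fintype.prod_equiv (Equiv.mulLeft a) _ _ fun b => ?_
    by_cases hb : b ∈ S i
    · simp [hb, Subgroup.mul_mem_cancel_left _ ha, map_mul]
    · simp [hb, Subgroup.mul_mem_cancel_left _ ha]
  have hsplit : ∀ f : B → V, ∏ b : B, f b = f 1 * ∏ b ∈ Finset.univ.erase (1 : B), f b := fun f =>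
    (Finset.mul_prod_erase _ _ (Finset.mem_univ 1)).symm
  have hrest : ∏ b ∈ Finset.univ.erase (1 : B), φ b v = v⁻¹ := by
    rw [hsplit, map_one, MulAut.one_apply] at hN
    exact eq_inv_of_mul_eq_one_right hN
  have hall : ∏ i, ∏ b : B, (if b ∈ S i then φ b v else 1) = 1 :=
    Finset.prod_eq_one fun i _ => hS i
  simp only [hsplit, Subgroup.one_mem, if_true, map_one, MulAut.one_apply] at hall
  rw [Finset.prod_mul_distrib, Finset.prod_const, Finset.card_univ, Finset.prod_comm] at hall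
  have heach : ∀ b ∈ Finset.univ.erase (1 : B), ∏ i, (if b ∈ S i then φ b v else 1) = φ b v := by
    intro b hb
    obtain ⟨i, hi, huniq⟩ := hcover b (Finset.ne_of_mem_erase hb)
    rw [Finset.prod_eq_single i (fun j _ hj => if_neg fun h => hj (huniq j h)) (by simp), if_pos hi]
  rw [Finset.prod_congr rfl heach, hrest, mul_inv_eq_one] at hall
  exact hall

theorem norm_eq_one_of_fpf (φ : B →* MulAut V) (hfpf : ∀ b : B, b ≠ 1 → ∀ v : V, φ b v = v → v = 1)
    {c : B} {p : ℕ} (hc : c ^ p = 1) (hc1 : c ≠ 1) (v : V) :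
    ∏ i ∈ Finset.range p, φ (c ^ i) v = 1 := by
  refine hfpf c hc1 _ ?_
  rw [map_prod]
  have h : ∀ i, φ c (φ (c ^ i) v) = φ (c ^ (i + 1)) v := fun i => by
    rw [pow_succ', map_mul]; rfl
  simp only [h]
  have h1 := Finset.prod_range_succ' (fun i => φ (c ^ i) v) p
  have h2 := Finset.prod_range_succ (fun i => φ (c ^ i) v) p
  rw [h1, hc, pow_zero, map_one, MulAut.one_apply] at h2
  exact mul_right_cancel h2

/-- Two commuting independent elements of prime order `p` acting fixed point freely force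
exponent `p`. -/
theorem pow_eq_one_of_commuting_fpf (φ : B →* MulAut V)
    (hfpf : ∀ b : B, b ≠ 1 → ∀ v : V, φ b v = v → v = 1)
    {a b : B} (hab : Commute a b) {p : ℕ} (hp : p.Prime) (ha : a ^ p = 1) (hb : b ^ p = 1)
    (hne : ∀ i j : ℕ, i < p → j < p → a ^ i * b ^ j = 1 → i = 0 ∧ j = 0) (v : V) : v ^ p = 1 := by
  have hp1 : 1 < p := hp.one_lt
  have h1 : ∀ j < p, ∏ i ∈ Finset.range p, φ ((a * b ^ j) ^ i) v = 1 := fun j hj =>
    norm_eq_one_of_fpf φ hfpf
      (by rw [(hab.pow_right j).mul_pow, ha, one_mul, ← pow_mul, mul_comm j, pow_mul, hb, one_pow])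
      (fun h => absurd (hne 1 j hp1 hj (by rwa [pow_one])).1 one_ne_zero) v
  have hall : ∏ j ∈ Finset.range p, ∏ i ∈ Finset.range p, φ ((a * b ^ j) ^ i) v = 1 :=
    Finset.prod_eq_one fun j hj => h1 j (Finset.mem_range.1 hj)
  rw [Finset.prod_comm, Finset.prod_eq_single 0] at hall
  · simpa using hall
  · intro i hi hi0
    have h2 : ∀ j, φ ((a * b ^ j) ^ i) v = φ (a ^ i) (φ ((b ^ i) ^ j) v) := fun j => by
      rw [(hab.pow_right j).mul_pow, map_mul, ← pow_mul, ← pow_mul, mul_comm j]; rfl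
    simp only [h2]
    rw [← map_prod, norm_eq_one_of_fpf φ hfpf (c := b ^ i), map_one]
    · rw [← pow_mul, mul_comm i, pow_mul, hb, one_pow]
    · exact fun h => hi0 (hne 0 i hp.pos (Finset.mem_range.1 hi) (by rwa [pow_zero, one_mul])).2
  · simp [hp.pos]

end Abstract

variable {G : Type u} [Group G]

/-- Conjugation action of `B ≤ N(V)` on `V`. -/
def conjAut {B V : Subgroup G} (hBV : B ≤ Subgroup.normalizer (V : Set G)) : B →* MulAut V :=
  V.normalizerMonoidHom.comp (Subgroup.inclusion hBV)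

theorem conjAut_apply {B V : Subgroup G} (hBV : B ≤ Subgroup.normalizer (V : Set G)) (b : B) (v : V) :
    ((conjAut hBV b v : V) : G) = (b : G) * v * (b : G)⁻¹ := rfl

theorem fpf_conjAut {B V : Subgroup G} (hBV : B ≤ Subgroup.normalizer (V : Set G))
    (hfpf : ∀ b ∈ B, b ≠ 1 → V ⊓ Subgroup.centralizer {b} = ⊥) (b : B) (hb : b ≠ 1) (v : V)
    (h : conjAut hBV b v = v) : v = 1 := by
  have h' : (b : G) * v * (b : G)⁻¹ = v := congrArg Subtype.val h
  have hmem : (v : G) ∈ V ⊓ Subgroup.centralizer {(b : G)} :=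
    ⟨v.2, Subgroup.mem_centralizer_singleton_iff.2 (mul_inv_eq_iff_eq_mul.1 h').symm⟩
  rw [hfpf b b.2 (fun h => hb (Subtype.ext h)), Subgroup.mem_bot] at hmem
  exact Subtype.ext hmem

theorem coprime_of_fpf [Finite G] {B V : Subgroup G} (hBV : B ≤ Subgroup.normalizer (V : Set G))
    (hfpf : ∀ b ∈ B, b ≠ 1 → V ⊓ Subgroup.centralizer {b} = ⊥) :
    (Nat.card B).Coprime (Nat.card V) :=
  coprime_of_fpf_hom (conjAut hBV) (fpf_conjAut hBV hfpf)

theorem eq_bot_of_pow_eq_one [Finite G] {B V : Subgroup G} (hBV : B ≤ Subgroup.normalizer (V : Set G))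
    (hfpf : ∀ b ∈ B, b ≠ 1 → V ⊓ Subgroup.centralizer {b} = ⊥) {n : ℕ} (hn : n ∣ Nat.card B)
    (h : ∀ v : V, v ^ n = 1) : V = ⊥ := by
  refine eq_bot_iff.2 fun v hv => ?_
  have hd : orderOf (⟨v, hv⟩ : V) ∣ Nat.gcd (Nat.card B) (Nat.card V) :=
    Nat.dvd_gcd ((orderOf_dvd_of_pow_eq_one (h _)).trans hn) (orderOf_dvd_natCard _)
  rw [coprime_of_fpf hBV hfpf, Nat.dvd_one, orderOf_eq_one_iff] at hd
  exact Subgroup.mem_bot.2 (congrArg Subtype.val hd)

/-- An abelian group acting fixed point freely on a nontrivial abelian group is cyclic. -/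
theorem isCyclic_of_fpf_abelian [Finite G] {B V : Subgroup G} [IsMulCommutative V]
    [IsMulCommutative B] (hV : V ≠ ⊥) (hBV : B ≤ Subgroup.normalizer (V : Set G))
    (hfpf : ∀ b ∈ B, b ≠ 1 → V ⊓ Subgroup.centralizer {b} = ⊥) : IsCyclic B := by
  by_contra hnc
  obtain ⟨p, a, b, hp, ha1, ha, hb, hind⟩ :=
    Cfsg.Lib.Coprime.exists_two_independent_of_not_isCyclic hnc
  have := Fact.mk hp
  refine hV (eq_bot_of_pow_eq_one hBV hfpf (n := p) ?_ fun v => ?_)
  · exact (orderOf_eq_prime ha ha1) ▸ orderOf_dvd_natCard a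
  · refine pow_eq_one_of_commuting_fpf (conjAut hBV) (fpf_conjAut hBV hfpf) (Commute.all a b) hp ha hb
      (fun i j hi hj h => ?_) v
    have hj0 : j = 0 := by
      by_contra hj0
      apply hind
      have hbj : b ^ j ∈ Subgroup.zpowers a := by
        rw [eq_inv_of_mul_eq_one_right h]
        exact inv_mem (Subgroup.npow_mem_zpowers a i)
      have hcop : (orderOf b).Coprime j := by
        have hd := orderOf_dvd_of_pow_eq_one hb
        exact Nat.Coprime.coprime_dvd_left hd
          ((hp.coprime_iff_not_dvd).2 fun hd' => absurd (Nat.le_of_dvd (Nat.pos_of_ne_zero hj0) hd') (by omega))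
      obtain ⟨m, hm⟩ := exists_pow_eq_self_of_coprime hcop.symm
      rw [← hm]
      exact pow_mem hbj m
    refine ⟨?_, hj0⟩
    rw [hj0, pow_zero, mul_one] at h
    by_contra hi0
    have := Nat.le_of_dvd (Nat.pos_of_ne_zero hi0) ((orderOf_eq_prime ha ha1) ▸ orderOf_dvd_of_pow_eq_one h)
    omega

/-- A group with a Frobenius complement does not act fixed point freely on a nontrivial abelian
group. -/
theorem not_fpf_frobenius_abelian [Finite G] {B V : Subgroup G} [IsMulCommutative V] (hV : V ≠ ⊥)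
    (hBV : B ≤ Subgroup.normalizer (V : Set G))
    (hfpf : ∀ b ∈ B, b ≠ 1 → V ⊓ Subgroup.centralizer {b} = ⊥)
    (A : Subgroup B) (hA : IsFrobeniusComplement A) : False := by
  classical
  letI := Fintype.ofFinite B
  letI := Fintype.ofFinite (B ⧸ A)
  obtain ⟨E, hE, -, hc⟩ := frobenius_theorem hA
  let S : Option (B ⧸ A) → Subgroup B := fun o => o.elim E fun q => MulAut.conj q.out • A
  have hcover : ∀ b : B, b ≠ 1 → ∃! i, b ∈ S i := by
    intro b hb
    by_cases hbE : b ∈ E
    · refine ⟨none, hbE, ?_⟩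
      rintro (_ | q) hq
      · rfl
      · exfalso
        have h1 : b ∈ frobeniusKernel A := hE ▸ hbE
        exact (mem_frobeniusKernel_iff.1 h1).resolve_left hb q.out (mem_conj_smul.1 hq)
    · have h1 : b ∉ frobeniusKernel A := hE ▸ hbE
      rw [mem_frobeniusKernel_iff, not_or, not_forall] at h1
      obtain ⟨-, g, hg⟩ := h1
      rw [not_not] at hg
      obtain ⟨k, hk⟩ := QuotientGroup.mk_out_eq_mul A g
      have hmem : b ∈ S (some (g : B ⧸ A)) := by
        refine mem_conj_smul.2 ?_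
        rw [hk]
        have := A.mul_mem (A.mul_mem (A.inv_mem k.2) hg) k.2
        simpa [mul_assoc] using this
      refine ⟨_, hmem, ?_⟩
      rintro (_ | q) hq
      · exact absurd hq hbE
      · by_contra hne
        have hne' : (g : B ⧸ A).out⁻¹ * q.out ∉ A := fun hm => hne (by
          congr 1
          rw [← q.out_eq, ← (g : B ⧸ A).out_eq]
          exact (QuotientGroup.eq.2 hm).symm)
        have h2 := frob_eq_one hA hne' (mem_conj_smul.1 hq)
          (by simpa [mul_assoc] using mem_conj_smul.1 hmem)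
        exact hb (by simpa [mul_assoc] using congrArg (fun z => q.out * z * q.out⁻¹) h2)
  have hne : ∀ i, S i ≠ ⊥ := by
    rintro (_ | q)
    · change E ≠ ⊥
      rintro rfl
      exact hA.2.1 (by simpa using hc.sup_eq_top)
    · exact (frobenius_conj hA q.out).1
  have hfix : ∀ i (v : V), (∀ b ∈ S i, conjAut hBV b v = v) → v = 1 := by
    intro i v hv
    obtain ⟨b, hb, hb1⟩ := (S i).bot_or_exists_ne_one.resolve_left (hne i)
    exact fpf_conjAut hBV hfpf b hb1 v (hv b hb)
  refine hV (eq_bot_of_pow_eq_one hBV hfpf (n := A.index) A.index_dvd_card fun v => ?_)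
  have h := pow_eq_self_of_partition (conjAut hBV) S hcover hfix
    (fun v hv => hfix none v fun b _ => hv b) v
  rw [Fintype.card_option, pow_succ, mul_eq_right, ← Nat.card_eq_fintype_card] at h
  exact h

end Cfsg.Lib.Solv
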