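import Cfsg.Agent.Lib.Solv.Frobenius
import Cfsg.Agent.Lib.Core.Basic
import Mathlib.GroupTheory.Sylow

/-!
Consequences of Frobenius' theorem: fixed-point-free criterion, TI properties, subgroups.
-/

set_option autoImplicit false

namespace Cfsg.Lib.Solv

open Cfsg Cfsg.Lib.Core
open scoped Pointwise

universe u

variable {G : Type u} [Group G] {H : Subgroup G}

theorem fpf_of_frobenius (hH : IsFrobeniusComplement H) {K : Subgroup G} (hd : Disjoint K H)
    {h k : G} (hh : h ∈ H) (hh1 : h ≠ 1) (hk : k ∈ K) (hc : k * h = h * k) : k = 1 := by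
  by_cases hkH : k ∈ H
  · exact Subgroup.mem_bot.1 (hd.le_bot ⟨hk, hkH⟩)
  · exact absurd (frob_eq_one hH hkH hh (by rwa [hc, mul_inv_cancel_right])) hh1

theorem centralizer_le_frobenius (hH : IsFrobeniusComplement H) {h : G} (hh : h ∈ H) (hh1 : h ≠ 1) :
    Subgroup.centralizer {h} ≤ H := by
  intro k hk
  by_contra hkH
  have hc := Subgroup.mem_centralizer_singleton_iff.1 hk
  exact hh1 (frob_eq_one hH hkH hh (by rwa [hc, mul_inv_cancel_right]))

theorem normalizer_le_frobenius (hH : IsFrobeniusComplement H) {P : Subgroup G} (hP : P ≤ H)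
    (hne : P ≠ ⊥) : Subgroup.normalizer (P : Set G) ≤ H := by
  intro g hg
  by_contra hgH
  obtain ⟨x, hx, hx1⟩ := P.bot_or_exists_ne_one.resolve_left hne
  exact hx1 (frob_eq_one hH hgH (hP hx) (hP ((Subgroup.mem_normalizer_iff.1 hg x).1 hx)))

theorem frobenius_conj (hH : IsFrobeniusComplement H) (a : G) :
    IsFrobeniusComplement (MulAut.conj a • H) := by
  refine ⟨fun h => hH.1 (eq_bot_iff.2 fun x hx => ?_), fun h => hH.2.1 (eq_top_iff.2 fun x _ => ?_),
    fun g hg => eq_bot_iff.2 fun x hx => ?_⟩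
  · have h1 : a * x * a⁻¹ ∈ MulAut.conj a • H := mem_conj_smul.2 (by simpa [mul_assoc] using hx)
    rw [h, Subgroup.mem_bot] at h1
    simpa using h1
  · have h1 : a * x * a⁻¹ ∈ MulAut.conj a • H := h ▸ Subgroup.mem_top _
    simpa [mul_assoc] using mem_conj_smul.1 h1
  · obtain ⟨h1, h2⟩ := hx
    have h2' := mem_conj_smul.1 (mem_conj_smul.1 h2)
    have hg' : a⁻¹ * g * a ∉ H := fun hm => hg (mem_conj_smul.2 hm)
    have h4 := frob_eq_one hH hg' h2'
      (by simpa [mul_assoc] using mem_conj_smul.1 h1)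
    rw [Subgroup.mem_bot]
    have := congrArg (fun z => g * (a * z * a⁻¹) * g⁻¹) h4
    simpa [mul_assoc] using this

theorem frobenius_subgroupOf (hH : IsFrobeniusComplement H) {L : Subgroup G} (hne : H ⊓ L ≠ ⊥)
    (hnot : ¬ L ≤ H) : IsFrobeniusComplement (H.subgroupOf L) := by
  refine ⟨fun h => hne ?_, fun h => hnot (Subgroup.subgroupOf_eq_top.1 h), fun g hg => ?_⟩
  · rwa [Subgroup.subgroupOf_eq_bot, disjoint_iff] at h
  · refine eq_bot_iff.2 fun x ⟨hx, hx'⟩ => ?_
    have h2 := mem_conj_smul.1 hx'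
    have hg' : (g : G) ∉ H := fun h => hg h
    have h3 : (((g⁻¹ * x * g : L) : G)) = 1 := by
      refine frob_eq_one hH hg' h2 ?_
      simpa [mul_assoc, Subgroup.mem_subgroupOf] using hx
    rw [Subgroup.mem_bot]
    have h4 : g⁻¹ * x * g = 1 := Subtype.ext h3
    simpa [mul_assoc] using congrArg (fun z => g * z * g⁻¹) h4

theorem isFrobeniusComplement_of_fpf {K : Subgroup G} [K.Normal] (hc : K.IsComplement' H)
    (hK : K ≠ ⊥) (hH : H ≠ ⊥)
    (hfpf : ∀ h ∈ H, h ≠ 1 → K ⊓ Subgroup.centralizer {h} = ⊥) : IsFrobeniusComplement H := by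
  refine ⟨hH, fun htop => hK ?_, fun g hg => ?_⟩
  · subst htop
    simpa using hc.disjoint.eq_bot
  · obtain ⟨⟨⟨k, hk⟩, ⟨h₀, hh₀⟩⟩, rfl⟩ := hc.2 g
    refine eq_bot_iff.2 fun x ⟨hx, hx'⟩ => ?_
    have hxy : (k * h₀)⁻¹ * x * (k * h₀) ∈ H := mem_conj_smul.1 hx'
    have hy : k⁻¹ * x * k ∈ H := by
      have := H.mul_mem (H.mul_mem hh₀ hxy) (H.inv_mem hh₀)
      simpa [mul_assoc] using this
    have h1 : x⁻¹ * (k⁻¹ * x * k) = 1 := by
      refine hc.disjoint.le_bot ⟨?_, H.mul_mem (H.inv_mem hx) hy⟩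
      have := K.mul_mem (‹K.Normal›.conj_mem _ (K.inv_mem hk) x⁻¹) hk
      simpa [mul_assoc] using this
    have hcomm : x * k = k * x := by
      have h2 : x = k⁻¹ * x * k := inv_mul_eq_one.1 h1
      calc x * k = k * (k⁻¹ * x * k) := by group
        _ = k * x := by rw [← h2]
    rw [Subgroup.mem_bot]
    by_contra hx1
    have hk1 : k = 1 := by
      have hmem : k ∈ K ⊓ Subgroup.centralizer {x} :=
        ⟨hk, Subgroup.mem_centralizer_singleton_iff.2 hcomm.symm⟩
      rw [hfpf x hx hx1, Subgroup.mem_bot] at hmem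
      exact hmem
    exact hg (by simpa [hk1] using hh₀)

variable [Finite G]

theorem exists_conj_mem_of_orderOf_dvd (hH : IsFrobeniusComplement H) {x : G} (hx1 : x ≠ 1)
    (hx : orderOf x ∣ Nat.card H) : ∃ g : G, g⁻¹ * x * g ∈ H := by
  by_contra hne
  push Not at hne
  obtain ⟨K, hK, -, hc⟩ := frobenius_theorem hH
  have hxK : x ∈ (K : Set G) := hK ▸ mem_frobeniusKernel_iff.2 (Or.inr hne)
  have h2 : orderOf x ∣ H.index := hc.index_eq_card ▸ Subgroup.orderOf_dvd_natCard K hxK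
  exact hx1 (orderOf_eq_one_iff.1 (Nat.eq_one_of_dvd_coprimes (frob_coprime hH) hx h2))

theorem card_kernel_le_half {M : Subgroup G} (hM : IsFrobeniusComplement M) :
    2 * Nat.card (frobeniusKernel M) ≤ Nat.card G := by
  rw [card_frobeniusKernel hM, ← M.card_mul_index]
  exact Nat.mul_le_mul_right _ (Subgroup.one_lt_card_iff_ne_bot M |>.2 hM.1)

theorem exists_mem_frobeniusKernel_ne_one {M : Subgroup G} (hM : IsFrobeniusComplement M) :
    ∃ y ∈ frobeniusKernel M, y ≠ 1 := by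
  obtain ⟨K, hK, -, hc⟩ := frobenius_theorem hM
  have hKne : K ≠ ⊥ := by
    rintro rfl
    exact hM.2.1 (by simpa using hc.sup_eq_top)
  obtain ⟨y, hy, hy1⟩ := K.bot_or_exists_ne_one.resolve_left hKne
  exact ⟨y, hK ▸ hy, hy1⟩

/-- A subgroup of order dividing the order of a Frobenius complement lies in a conjugate of it. -/
theorem le_conj_of_card_dvd (hH : IsFrobeniusComplement H) {L : Subgroup G}
    (hL : Nat.card L ∣ Nat.card H) : ∃ x : G, L ≤ MulAut.conj x • H := by
  have hmeet : ∀ x ∈ L, x ≠ 1 → ∃ g : G, g⁻¹ * x * g ∈ H := fun x hx hx1 =>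
    exists_conj_mem_of_orderOf_dvd hH hx1 ((L.orderOf_dvd_natCard hx).trans hL)
  rcases L.bot_or_exists_ne_one with h | ⟨x, hx, hx1⟩
  · exact ⟨1, h ▸ bot_le⟩
  by_contra hno
  push Not at hno
  obtain ⟨g, hg⟩ := hmeet x hx hx1
  have hM : IsFrobeniusComplement ((MulAut.conj g • H).subgroupOf L) :=
    frobenius_subgroupOf (frobenius_conj hH g)
      (fun h => hx1 (Subgroup.mem_bot.1 (h ▸ ⟨mem_conj_smul.2 hg, hx⟩))) (hno g)
  obtain ⟨⟨y, hyL⟩, hyk, hy1⟩ := exists_mem_frobeniusKernel_ne_one hM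
  obtain ⟨g', hg'⟩ := hmeet y hyL (fun h => hy1 (Subtype.ext h))
  have hM' : IsFrobeniusComplement ((MulAut.conj g' • H).subgroupOf L) :=
    frobenius_subgroupOf (frobenius_conj hH g')
      (fun h => hy1 (Subtype.ext (Subgroup.mem_bot.1 (h ▸ ⟨mem_conj_smul.2 hg', hyL⟩)))) (hno g')
  have hcov : ∀ z : L, z ∈ frobeniusKernel ((MulAut.conj g • H).subgroupOf L) ∨
      z ∈ frobeniusKernel ((MulAut.conj g' • H).subgroupOf L) := by
    intro z
    simp only [mem_frobeniusKernel_iff]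
    by_contra hz
    rw [not_or, not_or, not_or, not_forall, not_forall] at hz
    obtain ⟨⟨hz1, a, ha⟩, -, b, hb⟩ := hz
    rw [not_not] at ha hb
    have ha' : (z : G) ∈ MulAut.conj ((a : G) * g) • H := by
      rw [Subgroup.mem_subgroupOf, mem_conj_smul] at ha
      rw [mem_conj_smul]
      simpa [mul_assoc] using ha
    have hb' : (z : G) ∈ MulAut.conj ((b : G) * g') • H := by
      rw [Subgroup.mem_subgroupOf, mem_conj_smul] at hb
      rw [mem_conj_smul]
      simpa [mul_assoc] using hb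
    set c := ((b : G) * g')⁻¹ * ((a : G) * g) with hcdef
    have hc : c ∈ H := by
      by_contra hc
      have h1 := frob_eq_one hH hc (mem_conj_smul.1 ha')
        (by simpa [hcdef, mul_assoc] using mem_conj_smul.1 hb')
      exact hz1 (Subtype.ext (by
        simpa [mul_assoc] using congrArg (fun w => (a : G) * g * w * ((a : G) * g)⁻¹) h1))
    have hyk' := (mem_frobeniusKernel_iff.1 hyk).resolve_left hy1
    refine hyk' (b⁻¹ * a) ?_
    rw [Subgroup.mem_subgroupOf, mem_conj_smul]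
    have h5 := H.mul_mem (H.mul_mem (H.inv_mem hc) hg') hc
    simpa [hcdef, mul_assoc] using h5
  have h1 := card_kernel_le_half hM
  have h2 := card_kernel_le_half hM'
  set A := frobeniusKernel ((MulAut.conj g • H).subgroupOf L)
  set B := frobeniusKernel ((MulAut.conj g' • H).subgroupOf L)
  have hu : A ∪ B = Set.univ := Set.eq_univ_of_forall hcov
  have hi : 0 < (A ∩ B).ncard := (Set.ncard_pos (Set.toFinite _)).2 ⟨1, Or.inl rfl, Or.inl rfl⟩
  have hadd := Set.ncard_union_add_ncard_inter A B (Set.toFinite _) (Set.toFinite _)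
  rw [hu, Set.ncard_univ] at hadd
  rw [Nat.card_coe_set_eq] at h1 h2
  omega

end Cfsg.Lib.Solv
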