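import Cfsg.Agent.Lib.Solv.FixedPointFree
import Cfsg.Agent.Lib.Coprime.Action
import Cfsg.Agent.Lib.Core.Fitting

/-!
A Frobenius group does not act fixed point freely; Frobenius complements are conjugate.
-/

set_option autoImplicit false

namespace Cfsg.Lib.Solv

open Cfsg Cfsg.Lib.Core
open scoped Pointwise

universe u

variable {G : Type u} [Group G]

theorem sup_inf_fpf_mono {A V W : Subgroup G} (hW : W ≤ V)
    (h : ∀ b ∈ A, b ≠ 1 → V ⊓ Subgroup.centralizer {b} = ⊥) :
    ∀ b ∈ A, b ≠ 1 → W ⊓ Subgroup.centralizer {b} = ⊥ := fun b hb hb1 =>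
  eq_bot_iff.2 ((inf_le_inf_right _ hW).trans (h b hb hb1).le)

/-- A solvable group acting fixed point freely on a nontrivial group normalizes, and acts fixed
point freely on, a nontrivial abelian subgroup of it. -/
theorem exists_abelian_invariant [Finite G] {B V : Subgroup G} (hV : V ≠ ⊥)
    (hBV : B ≤ Subgroup.normalizer (V : Set G))
    (hfpf : ∀ b ∈ B, b ≠ 1 → V ⊓ Subgroup.centralizer {b} = ⊥)
    (hsol : Group.IsSolvable B ∨ Group.IsSolvable V) :
    ∃ W : Subgroup G, W ≤ V ∧ W ≠ ⊥ ∧ IsMulCommutative W ∧ B ≤ Subgroup.normalizer (W : Set G) := by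
  have hVc : 1 < Nat.card V := (Subgroup.one_lt_card_iff_ne_bot V).2 hV
  obtain ⟨r, hr, hrV⟩ := Nat.exists_prime_and_dvd hVc.ne'
  have := Fact.mk hr
  obtain ⟨P, hP⟩ := Cfsg.Lib.Coprime.exists_invariant_sylow hBV (coprime_of_fpf hBV hfpf) hsol r
  set P' := (P : Subgroup V).map V.subtype with hP'
  have hPpg : IsPGroup r P' := P.isPGroup'.map V.subtype
  have hcard : Nat.card P' = Nat.card (P : Subgroup V) := card_map_subtype _
  have hnt : Nontrivial P' := Finite.one_lt_card_iff_nontrivial.1 (by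
    rw [hcard]
    exact hr.one_lt.trans_le (Nat.le_of_dvd Nat.card_pos (P.dvd_card_of_dvd_card hrV)))
  have hz : Nontrivial (Subgroup.center P') := hPpg.center_nontrivial
  refine ⟨(Subgroup.center P').map P'.subtype,
    (Subgroup.map_subtype_le _).trans (Subgroup.map_subtype_le _), ?_, inferInstance, ?_⟩
  · intro h
    rw [Subgroup.map_eq_bot_iff_of_injective _ P'.subtype_injective] at h
    exact (Subgroup.nontrivial_iff_ne_bot _).1 hz h
  · exact hP.trans (normalizer_le_normalizer_map_char (Subgroup.center P'))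

/-- A group with a Frobenius complement does not act fixed point freely on a nontrivial group. -/
theorem not_fpf_frobenius [Finite G] {B V : Subgroup G} (hV : V ≠ ⊥)
    (hBV : B ≤ Subgroup.normalizer (V : Set G))
    (hfpf : ∀ b ∈ B, b ≠ 1 → V ⊓ Subgroup.centralizer {b} = ⊥)
    (A : Subgroup B) (hA : IsFrobeniusComplement A) : False := by
  obtain ⟨C, -, hCn, hc⟩ := frobenius_theorem hA
  have hcop := frob_coprime hA
  obtain ⟨q, hq, hqA⟩ := Nat.exists_prime_and_dvd ((Subgroup.one_lt_card_iff_ne_bot A).2 hA.1).ne'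
  have := Fact.mk hq
  obtain ⟨⟨a, haA⟩, ha⟩ := exists_prime_orderOf_dvd_card' q hqA
  rw [Subgroup.orderOf_mk] at ha
  have ha1 : a ≠ 1 := by rintro rfl; rw [orderOf_one] at ha; exact hq.ne_one ha.symm
  have hCne : C ≠ ⊥ := by
    rintro rfl
    exact hA.2.1 (by simpa using hc.sup_eq_top)
  have hfpfC : ∀ b ∈ Subgroup.zpowers a, b ≠ 1 → C ⊓ Subgroup.centralizer {b} = ⊥ := by
    intro b hb hb1
    refine eq_bot_iff.2 fun k ⟨hk, hkc⟩ => Subgroup.mem_bot.2 ?_
    exact fpf_of_frobenius hA hc.disjoint (Subgroup.zpowers_le.2 haA hb) hb1 hk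
      (Subgroup.mem_centralizer_singleton_iff.1 hkc)
  have hnC : Subgroup.zpowers a ≤ Subgroup.normalizer (C : Set B) := by
    rw [Subgroup.normalizer_eq_top (H := C)]; exact le_top
  obtain ⟨E, hEC, hEne, hEab, hEn⟩ :=
    exists_abelian_invariant hCne hnC hfpfC (Or.inl (isSolvable_of_isMulCommutative _))
  set D := E ⊔ Subgroup.zpowers a with hD
  have hEnD : (E.subgroupOf D).Normal := by
    rw [Subgroup.normal_subgroupOf_iff_le_normalizer le_sup_left]
    exact sup_le Subgroup.le_normalizer hEn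
  have hdisj : Disjoint E (Subgroup.zpowers a) :=
    (hc.disjoint).mono hEC (Subgroup.zpowers_le.2 haA)
  have hcompl : (E.subgroupOf D).IsComplement' ((Subgroup.zpowers a).subgroupOf D) := by
    refine Subgroup.isComplement'_of_disjoint_and_mul_eq_univ ?_ ?_
    · rw [disjoint_iff, Subgroup.subgroupOf, Subgroup.subgroupOf, ← Subgroup.comap_inf, ← Subgroup.subgroupOf, disjoint_iff.1 hdisj, Subgroup.bot_subgroupOf]
    · refine Set.eq_univ_of_forall fun x => ?_
      have hx2 : (x : B) ∈ Subgroup.zpowers a ⊔ E := by rw [sup_comm]; exact x.2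
      obtain ⟨z, hz, e₀, he₀, hx⟩ := (mem_sup_of_le_normalizer hEn).1 hx2
      obtain ⟨e, he, hx⟩ : ∃ e ∈ E, e * z = (x : B) :=
        ⟨z * e₀ * z⁻¹, (Subgroup.mem_normalizer_iff.1 (hEn hz) e₀).1 he₀, by rw [← hx]; group⟩
      exact Set.mem_mul.2 ⟨⟨e, le_sup_left (b := Subgroup.zpowers a) he⟩, he,
        ⟨z, le_sup_right (a := E) hz⟩, hz, Subtype.ext hx⟩
  have hfrob : IsFrobeniusComplement ((Subgroup.zpowers a).subgroupOf D) := by
    refine isFrobeniusComplement_of_fpf hcompl ?_ ?_ fun h hh hh1 => eq_bot_iff.2 fun k hk => ?_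
    · rw [Ne, Subgroup.subgroupOf_eq_bot, disjoint_iff, inf_of_le_left le_sup_left]; exact hEne
    · rw [Ne, Subgroup.subgroupOf_eq_bot, disjoint_iff, inf_of_le_left le_sup_right,
        Subgroup.zpowers_eq_bot]
      exact ha1
    · have h1 : (k : B) ∈ C ⊓ Subgroup.centralizer {(h : B)} :=
        ⟨hEC hk.1, Subgroup.mem_centralizer_singleton_iff.2
          (congrArg Subtype.val (Subgroup.mem_centralizer_singleton_iff.1 hk.2))⟩
      rw [hfpfC h hh (fun h' => hh1 (Subtype.ext h')), Subgroup.mem_bot] at h1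
      exact Subgroup.mem_bot.2 (Subtype.ext h1)
  have hDsol : Group.IsSolvable D := by
    have : Group.IsSolvable (E.subgroupOf D) := by
      have := isSolvable_of_isMulCommutative E
      exact Group.isSolvable_of_isSolvable_injective (f := (Subgroup.subgroupOfEquivOfLe (le_sup_left : E ≤ D)).toMonoidHom) (MulEquiv.injective _)
    have : Group.IsSolvable (D ⧸ E.subgroupOf D) := by
      have hab : IsMulCommutative ((Subgroup.zpowers a).subgroupOf D) := inferInstance
      have := isSolvable_of_isMulCommutative ((Subgroup.zpowers a).subgroupOf D)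
      exact Group.isSolvable_of_isSolvable_injective
        (f := (hcompl.symm.QuotientMulEquiv).toMonoidHom) (MulEquiv.injective _)
    exact (Group.isSolvable_iff_subgroup_quotient (E.subgroupOf D)).2 ⟨‹_›, ‹_›⟩
  set D' := D.map B.subtype with hD'
  have hD'B : D' ≤ B := Subgroup.map_subtype_le _
  let e : D ≃* D' := D.equivMapOfInjective _ B.subtype_injective
  have hD'sol : Group.IsSolvable D' :=
    have := hDsol
    Group.isSolvable_of_surjective (f := e.toMonoidHom) e.surjective
  have hfpf' : ∀ b ∈ D', b ≠ 1 → V ⊓ Subgroup.centralizer {b} = ⊥ := fun b hb => hfpf b (hD'B hb)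
  obtain ⟨W, hWV, hWne, hWab, hWn⟩ :=
    exists_abelian_invariant hV (hD'B.trans hBV) hfpf' (Or.inl hD'sol)
  refine not_fpf_frobenius_abelian hWne hWn (sup_inf_fpf_mono hWV hfpf')
    (((Subgroup.zpowers a).subgroupOf D).map e.toMonoidHom) ?_
  refine ⟨?_, ?_, fun g hg => ?_⟩
  · rw [Ne, Subgroup.map_eq_bot_iff_of_injective (f := e.toMonoidHom) _ e.injective]; exact hfrob.1
  · intro h
    refine hfrob.2.1 (eq_top_iff.2 fun x _ => ?_)
    have hx : e x ∈ ((Subgroup.zpowers a).subgroupOf D).map e.toMonoidHom := h ▸ Subgroup.mem_top _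
    obtain ⟨y, hy, hxy⟩ := hx
    rwa [← e.injective hxy]
  · refine eq_bot_iff.2 fun x ⟨hx, hx'⟩ => ?_
    obtain ⟨y, hy, rfl⟩ := hx
    have h2 := mem_conj_smul.1 hx'
    obtain ⟨z, hz, hzy⟩ := h2
    obtain ⟨g, rfl⟩ := e.surjective g
    have hg' : g⁻¹ ∉ (Subgroup.zpowers a).subgroupOf D := fun h =>
      hg ⟨g, by simpa using Subgroup.inv_mem _ h, rfl⟩
    have hzy' : g⁻¹ * y * g = z := by
      apply e.injective
      simpa using hzy.symm
    have hy1 := frob_eq_one hfrob hg' hy (by rw [inv_inv, hzy']; exact hz)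
    exact Subgroup.mem_bot.2 (by rw [hy1, map_one])

/-- Frobenius complements: the smaller of two lies in a conjugate of the larger. -/
theorem le_conj_frobenius_of_card_le [Finite G] {H L : Subgroup G} (hH : IsFrobeniusComplement H)
    (hL : IsFrobeniusComplement L) (hle : Nat.card L ≤ Nat.card H) :
    ∃ g : G, L ≤ MulAut.conj g • H := by
  obtain ⟨K, -, hKn, hc⟩ := frobenius_theorem hH
  have hKi : K.index = Nat.card H := hc.symm.index_eq_card
  have hcard : Nat.card (K ⊓ L : Subgroup G) * K.relIndex L = Nat.card L := by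
    rw [← Subgroup.inf_relIndex_right K L, card_mul_relIndex inf_le_right]
  by_cases hA : K ⊓ L = ⊥
  · refine le_conj_of_card_dvd hH ?_
    rw [hA, Subgroup.card_bot, one_mul] at hcard
    rw [← hcard, ← hKi]
    exact Subgroup.relIndex_dvd_index_of_normal K L
  exfalso
  obtain ⟨p, hp, hpA⟩ := Nat.exists_prime_and_dvd ((Subgroup.one_lt_card_iff_ne_bot _).2 hA).ne'
  have := Fact.mk hp
  have hpK : p ∣ Nat.card K := hpA.trans (Subgroup.card_dvd_of_le inf_le_left)
  have hpL : p ∣ Nat.card L := hpA.trans (Subgroup.card_dvd_of_le inf_le_right)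
  have hpH : ¬ p ∣ Nat.card H := fun h => hp.ne_one
    (Nat.eq_one_of_dvd_coprimes (frob_coprime hH) h (by rwa [hc.index_eq_card]))
  obtain ⟨P⟩ : Nonempty (Sylow p L) := inferInstance
  set P' := (P : Subgroup L).map L.subtype with hP'
  have hidx : ¬ p ∣ P'.index := by
    rw [hP', Subgroup.index_map_subtype]
    intro h
    rcases hp.dvd_mul.1 h with h' | h'
    · exact P.not_dvd_index h'
    · exact hp.ne_one (Nat.eq_one_of_dvd_coprimes (frob_coprime hL) hpL h')
  have hP'K : P' ≤ K := by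
    intro x hx
    obtain ⟨n, hn⟩ := (P.isPGroup'.map L.subtype) ⟨x, hx⟩
    have hn' : x ^ p ^ n = 1 := congrArg Subtype.val hn
    rw [← QuotientGroup.eq_one_iff, ← orderOf_eq_one_iff]
    refine Nat.eq_one_of_dvd_coprimes (Nat.Coprime.pow_left n (hp.coprime_iff_not_dvd.2 hpH)) ?_ ?_
    · exact orderOf_dvd_of_pow_eq_one (by rw [← QuotientGroup.mk_pow, hn', QuotientGroup.mk_one])
    · rw [← hKi, Subgroup.index]; exact orderOf_dvd_natCard _
  let Ps : Sylow p K := IsPGroup.toSylow (P := P'.subgroupOf K)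
    (P.isPGroup'.map L.subtype).comap_subtype
    (fun h => hidx (h.trans (Subgroup.relIndex_dvd_index_of_le hP'K)))
  have hfr := Sylow.normalizer_sup_eq_top Ps
  have hPs : (Ps : Subgroup K).map K.subtype = P' := by
    simp only [Ps, IsPGroup.toSylow_coe]
    exact Subgroup.map_subgroupOf_eq_of_le hP'K
  rw [hPs] at hfr
  have hPne : P' ≠ ⊥ := by
    rw [← Subgroup.one_lt_card_iff_ne_bot, hP', card_map_subtype]
    exact hp.one_lt.trans_le (Nat.le_of_dvd Nat.card_pos (P.dvd_card_of_dvd_card hpL))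
  have htop : L ⊔ K = ⊤ := top_le_iff.1 (hfr.ge.trans
    (sup_le_sup_right (normalizer_le_frobenius hL (Subgroup.map_subtype_le _) hPne) _))
  have hrel : K.relIndex L = Nat.card H := by
    rw [← Subgroup.relIndex_sup_right, htop, Subgroup.relIndex_top_right, hKi]
  rw [hrel] at hcard
  have h2 : 2 ≤ Nat.card (K ⊓ L : Subgroup G) := (Subgroup.one_lt_card_iff_ne_bot _).2 hA
  have hpos : 0 < Nat.card H := Nat.card_pos
  have h3 := Nat.mul_le_mul_right (Nat.card H) h2
  omega

/-- All Frobenius complements are conjugate. -/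
theorem frobenius_complements_conj [Finite G] {H L : Subgroup G} (hH : IsFrobeniusComplement H)
    (hL : IsFrobeniusComplement L) (hle : Nat.card L ≤ Nat.card H) :
    ∃ g : G, L = MulAut.conj g • H := by
  obtain ⟨g, hg⟩ := le_conj_frobenius_of_card_le hH hL hle
  refine ⟨g, le_antisymm hg ?_⟩
  by_contra hne
  have hH' := frobenius_conj hH g
  have hF := frobenius_subgroupOf hL (L := MulAut.conj g • H)
    (by rw [inf_of_le_left hg]; exact hL.1) hne
  obtain ⟨K, -, hKn, hc⟩ := frobenius_theorem hH'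
  refine not_fpf_frobenius (B := MulAut.conj g • H) (V := K) ?_ ?_ ?_ _ hF
  · rintro rfl
    exact hH'.2.1 (by simpa using hc.sup_eq_top)
  · rw [Subgroup.normalizer_eq_top (H := K)]; exact le_top
  · exact fun b hb hb1 => eq_bot_iff.2 fun k ⟨hk, hkc⟩ => Subgroup.mem_bot.2
      (fpf_of_frobenius hH' hc.disjoint hb hb1 hk (Subgroup.mem_centralizer_singleton_iff.1 hkc))

end Cfsg.Lib.Solv
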