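import Cfsg.Agent.Lib.Char.TI
import Cfsg.Agent.Lib.Char.Orthogonality
import Cfsg.Agent.Lib.Core.Smul
import Cfsg.Prelude.Def_Solvable
import Mathlib.GroupTheory.GroupAction.Quotient
import Mathlib.Data.Nat.Prime.Basic

/-!
Frobenius complements, the counting of the Frobenius kernel and Frobenius' theorem.
-/

set_option autoImplicit false

namespace Cfsg.Lib.Solv

open Cfsg Cfsg.Lib.Core Cfsg.Lib.Char
open scoped Pointwise ComplexConjugate

universe u

variable {G : Type u} [Group G] {H : Subgroup G}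

theorem frob_eq_one (hH : IsFrobeniusComplement H) {g x : G} (hg : g ∉ H) (hx : x ∈ H)
    (hgx : g * x * g⁻¹ ∈ H) : x = 1 := by
  have h1 : g * x * g⁻¹ ∈ H ⊓ MulAut.conj g • H :=
    ⟨hgx, mem_conj_smul.2 (by simpa [mul_assoc] using hx)⟩
  rw [hH.2.2 g hg, Subgroup.mem_bot] at h1
  simpa using h1

theorem mem_frobeniusKernel_iff {x : G} :
    x ∈ frobeniusKernel H ↔ x = 1 ∨ ∀ g : G, g⁻¹ * x * g ∉ H := by
  simp only [frobeniusKernel, Set.mem_ofPred_eq, mem_conj_smul]

theorem frob_index_mod [Finite G] (hH : IsFrobeniusComplement H) :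
    H.index % Nat.card H = 1 % Nat.card H := by
  classical
  letI := Fintype.ofFinite G
  letI := Fintype.ofFinite (G ⧸ H)
  letI := Fintype.ofFinite H
  letI : Fintype (Quotient (MulAction.orbitRel H (G ⧸ H))) := Fintype.ofFinite _
  have key := MulAction.sum_card_fixedBy_eq_card_orbits_mul_card_group H (G ⧸ H)
  have hfix : ∀ h : H, h ≠ 1 → Fintype.card (MulAction.fixedBy (G ⧸ H) h) = 1 := by
    intro h hh
    rw [Fintype.card_eq_one_iff]
    refine ⟨⟨((1 : G) : G ⧸ H), ?_⟩, ?_⟩
    · show ((((h : G) * 1 : G)) : G ⧸ H) = ((1 : G) : G ⧸ H)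
      rw [mul_one, QuotientGroup.eq]
      simp
    · rintro ⟨q, hq⟩
      induction q using QuotientGroup.induction_on with
      | _ x =>
        have hq' : ((((h : G) * x : G)) : G ⧸ H) = (x : G ⧸ H) := hq
        rw [QuotientGroup.eq] at hq'
        have h1 : x⁻¹ * (h : G) * x ∈ H := by
          have := H.inv_mem hq'
          simpa [mul_assoc] using this
        apply Subtype.ext
        change (x : G ⧸ H) = ((1 : G) : G ⧸ H)
        rw [QuotientGroup.eq, mul_one]
        by_contra hx
        exact hh (Subtype.ext (frob_eq_one hH hx h.2 (by simpa using h1)))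
  have hone : Fintype.card (MulAction.fixedBy (G ⧸ H) (1 : H)) = H.index := by
    rw [Subgroup.index, Nat.card_eq_fintype_card]
    exact Fintype.card_congr (Equiv.subtypeUnivEquiv fun q => one_smul H q)
  rw [Finset.sum_eq_add_sum_sdiff_singleton_of_mem (Finset.mem_univ (1 : H)), hone,
    Finset.sum_congr rfl (fun h hh => hfix h (by simpa using hh)), Finset.sum_const, smul_eq_mul,
    mul_one, Finset.card_sdiff, Finset.inter_univ, Finset.card_univ, Finset.card_singleton,
    ← Nat.card_eq_fintype_card] at key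
  have hpos : 0 < Nat.card H := Nat.card_pos
  have h2 : H.index + Nat.card H = Fintype.card (Quotient (MulAction.orbitRel H (G ⧸ H))) * Nat.card H + 1 := by
    omega
  have h3 := congrArg (· % Nat.card H) h2
  simpa [Nat.add_mod_right, Nat.mul_add_mod'] using h3

theorem frob_coprime [Finite G] (hH : IsFrobeniusComplement H) :
    (Nat.card H).Coprime H.index := by
  rw [Nat.Coprime, Nat.gcd_rec, frob_index_mod hH, ← Nat.gcd_rec, Nat.gcd_one_right]

theorem card_frobeniusKernel [Finite G] (hH : IsFrobeniusComplement H) :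
    Nat.card (frobeniusKernel H) = H.index := by
  classical
  let f : (G ⧸ H) × {h : H // h ≠ 1} → ((frobeniusKernel H)ᶜ : Set G) := fun p =>
    ⟨p.1.out * ((p.2.1 : H) : G) * p.1.out⁻¹, fun hk => by
      rcases mem_frobeniusKernel_iff.1 hk with h | h
      · exact p.2.2 (Subtype.ext (by simpa [mul_assoc] using congrArg (fun z => p.1.out⁻¹ * z * p.1.out) h))
      · exact h p.1.out (by simp [mul_assoc])⟩
  have hinj : Function.Injective f := by
    rintro ⟨q, a⟩ ⟨r, b⟩ he
    have he' : q.out * ((a.1 : H) : G) * q.out⁻¹ = r.out * ((b.1 : H) : G) * r.out⁻¹ :=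
      congrArg Subtype.val he
    have hqr : q = r := by
      by_contra hne
      have hmem : r.out⁻¹ * q.out ∉ H := fun hm => hne (by
        rw [← q.out_eq, ← r.out_eq]
        exact (QuotientGroup.eq.2 hm).symm)
      have h1 : r.out⁻¹ * q.out * ((a.1 : H) : G) * (r.out⁻¹ * q.out)⁻¹ = (b.1 : H) := by
        have := congrArg (fun z => r.out⁻¹ * z * r.out) he'
        simpa [mul_assoc] using this
      exact a.2 (Subtype.ext (frob_eq_one hH hmem (a.1).2 (h1 ▸ (b.1).2)))
    subst hqr
    simp only [mul_left_inj, mul_right_inj, SetLike.coe_eq_coe] at he'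
    rw [Subtype.ext he']
  have hsurj : Function.Surjective f := by
    rintro ⟨x, hx⟩
    rw [Set.mem_compl_iff, mem_frobeniusKernel_iff, not_or, not_forall] at hx
    obtain ⟨hx1, g, hg⟩ := hx
    rw [not_not] at hg
    obtain ⟨k, hk⟩ := QuotientGroup.mk_out_eq_mul H g
    have hkg : k.1⁻¹ * (g⁻¹ * x * g) * k.1 ∈ H := H.mul_mem (H.mul_mem (H.inv_mem k.2) hg) k.2
    refine ⟨⟨(g : G ⧸ H), ⟨⟨_, hkg⟩, fun h => hx1 ?_⟩⟩, Subtype.ext ?_⟩
    · have h' : k.1⁻¹ * (g⁻¹ * x * g) * k.1 = 1 := congrArg Subtype.val h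
      simpa [mul_assoc] using congrArg (fun z => g * k.1 * z * (k.1⁻¹ * g⁻¹)) h'
    · change (g : G ⧸ H).out * (k.1⁻¹ * (g⁻¹ * x * g) * k.1) * (g : G ⧸ H).out⁻¹ = x
      rw [hk]; group
  have hc := Nat.card_congr (Equiv.ofBijective f ⟨hinj, hsurj⟩)
  rw [Nat.card_prod, ← Subgroup.index] at hc
  have hne : Nat.card {h : H // h ≠ 1} + 1 = Nat.card H := by
    have := Nat.card_congr (Equiv.optionSubtypeNe (1 : H))
    rwa [Finite.card_option] at this
  have hsum : Nat.card (frobeniusKernel H) + Nat.card ((frobeniusKernel H)ᶜ : Set G) = Nat.card G := by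
    rw [← Nat.card_sum]; exact Nat.card_congr (Equiv.Set.sumCompl _)
  rw [← Subgroup.card_mul_index H, ← hc, ← hne, add_mul, one_mul, mul_comm H.index] at hsum
  omega

/-- A generalized character of norm one with positive degree is a character. -/
theorem isCharacter_of_norm_one [Fintype G] {f : G → ℂ} (hf : IsGeneralizedCharacter G f)
    (h1 : classInner f f = 1) {d : ℕ} (hd : f 1 = d) (hd0 : 0 < d) : IsCharacter G f := by
  classical
  have hcf := (isGeneralizedCharacter_iff.1 hf).1
  choose n hn using fun χ : IrrCharacter G => (isGeneralizedCharacter_iff.1 hf).2 χ χ.2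
  have hsum : ∑ χ, n χ * n χ = 1 := by
    rw [classInner_eq_sum hcf] at h1
    simp only [hn, map_intCast] at h1
    exact_mod_cast h1
  obtain ⟨χ₀, -, hχ₀⟩ := Finset.exists_ne_zero_of_sum_ne_zero (hsum.trans_ne one_ne_zero)
  have hsplit := Finset.sum_erase_add Finset.univ (fun χ => n χ * n χ) (Finset.mem_univ χ₀)
  have hpos : 0 < n χ₀ * n χ₀ := lt_of_le_of_ne (mul_self_nonneg _) (Ne.symm hχ₀)
  have h0 : ∀ χ, χ ≠ χ₀ → n χ = 0 := by
    intro χ hne
    have hle : n χ * n χ ≤ ∑ y ∈ Finset.univ.erase χ₀, n y * n y :=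
      Finset.single_le_sum (f := fun y => n y * n y) (fun _ _ => mul_self_nonneg _) (by simp [hne])
    have := mul_self_nonneg (n χ)
    exact mul_self_eq_zero.mp (by omega)
  have hexp : f = (n χ₀ : ℂ) • (χ₀ : G → ℂ) := by
    conv_lhs => rw [eq_sum_classInner hcf,
      Finset.sum_eq_single χ₀ (fun χ _ hne => by simp [hn, h0 χ hne]) (by simp), hn]
  rw [Finset.sum_eq_single χ₀ (fun χ _ hne => by simp [h0 χ hne]) (by simp)] at hsum
  rcases mul_self_eq_one_iff.1 hsum with h | h
  · rw [hexp, h, Int.cast_one, one_smul]; exact χ₀.2.isCharacter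
  · exfalso
    obtain ⟨m, -, hm⟩ := χ₀.2.exists_degree
    have h2 : ((d : ℤ) : ℂ) = ((-(m : ℤ) : ℤ) : ℂ) := by
      push_cast
      rw [← hd, hexp, h]; simp [hm]
    have h3 : (d : ℤ) = -(m : ℤ) := Int.cast_injective h2
    omega

/-- Frobenius extension: a nontrivial irreducible character of a Frobenius complement extends
to the group, constantly on the kernel. -/
theorem exists_frobenius_extension [Finite G] (hH : IsFrobeniusComplement H) {θ : H → ℂ}
    (hθ : IsIrrCharacter H θ) (hne : θ ≠ fun _ => 1) :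
    ∃ χ : G → ℂ, IsCharacter G χ ∧ (∀ h : H, χ h = θ h) ∧ ∀ x ∈ frobeniusKernel H, χ x = χ 1 := by
  classical
  letI := Fintype.ofFinite G
  letI := Fintype.ofFinite H
  obtain ⟨d, hd0, hd⟩ := hθ.exists_degree
  set ψ : H → ℂ := θ - (d : ℂ) • fun _ => 1 with hψ
  have hψg : IsGeneralizedCharacter H ψ :=
    ⟨θ, _, hθ.isCharacter, isCharacter_one.natCast_smul d, rfl⟩
  have hψc := hψg.isClassFunction
  have hψ1 : ψ 1 = 0 := by simp [hψ, hd]
  have hT : ∀ x : G, x ∉ H → ∀ t ∈ (H : Set G), t ≠ 1 → x * t * x⁻¹ ∉ (H : Set G) :=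
    fun x hx t ht ht1 hxt => ht1 (frob_eq_one hH hx ht hxt)
  have hψT : ∀ x : H, (x : G) ∉ (H : Set G) → ψ x = 0 := fun x hx => absurd x.2 hx
  set Ψ := indFun H ψ with hΨ
  set χ : G → ℂ := Ψ + (d : ℂ) • fun _ => 1 with hχ
  have hgen : IsGeneralizedCharacter G χ :=
    (isGeneralizedCharacter_indFun H hψg).add (isCharacter_one.natCast_smul d).isGeneralized
  have hone : classInner (fun _ : G => (1 : ℂ)) (fun _ => 1) = 1 := classInner_irr_self isIrrCharacter_one
  have honeH : classInner (fun _ : H => (1 : ℂ)) (fun _ => 1) = 1 := classInner_irr_self isIrrCharacter_one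
  have hθ1 : classInner θ (fun _ => 1) = 0 := classInner_irr_ne hθ isIrrCharacter_one hne
  have h1θ : classInner (fun _ : H => (1 : ℂ)) θ = 0 :=
    classInner_irr_ne isIrrCharacter_one hθ (Ne.symm hne)
  have hΨ1 : classInner Ψ (fun _ => 1) = -(d : ℂ) := by
    rw [hΨ, classInner_indFun H ψ (fun g h => rfl), hψ, classInner_sub_left, classInner_smul_left,
      hθ1, honeH]
    simp
  have h1Ψ : classInner (fun _ => 1) Ψ = -(d : ℂ) := by
    rw [← classInner_conj_symm, hΨ1]; simp
  have hΨΨ : classInner Ψ Ψ = 1 + (d : ℂ) * d := by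
    rw [hΨ, classInner_indFun_TI H (H : Set G) hT hψc hψT hψT hψ1, hψ]
    simp only [classInner_sub_left, classInner_sub_right, classInner_smul_left,
      classInner_smul_right, classInner_irr_self hθ, hθ1, h1θ, honeH, Complex.conj_natCast]
    ring
  have hnorm : classInner χ χ = 1 := by
    simp only [hχ, classInner_add_left, classInner_add_right, classInner_smul_left,
      classInner_smul_right, hΨΨ, hΨ1, h1Ψ, hone, Complex.conj_natCast]
    ring
  have hχ1 : χ 1 = d := by simp [hχ, hΨ, indFun_apply_one, hψ1]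
  refine ⟨χ, isCharacter_of_norm_one hgen hnorm hχ1 hd0, fun h => ?_, fun x hx => ?_⟩
  · by_cases h1 : (h : G) = 1
    · rw [h1, show h = 1 from Subtype.ext h1, hχ1, hd]
    · simp only [hχ, Pi.add_apply, hΨ, indFun_eq_of_TI H (H : Set G) hT hψc hψT h h.2 h1]
      simp [hψ]
  · rcases mem_frobeniusKernel_iff.1 hx with rfl | hx
    · rfl
    · rw [hχ1]
      have h0 : Ψ x = 0 := by
        simp only [hΨ, indFun]
        rw [Finset.sum_eq_zero fun g _ => extendByZero_of_notMem H ψ (hx g), mul_zero]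
      simp [hχ, h0]

/-- **Frobenius' theorem**: the Frobenius kernel is a normal complement. -/
theorem frobenius_theorem [Finite G] (hH : IsFrobeniusComplement H) :
    ∃ K : Subgroup G, (K : Set G) = frobeniusKernel H ∧ K.Normal ∧ K.IsComplement' H := by
  classical
  letI := Fintype.ofFinite H
  choose χ hχ hres hker using fun θ : {θ : H → ℂ // IsIrrCharacter H θ ∧ θ ≠ fun _ => 1} =>
    exists_frobenius_extension hH θ.2.1 θ.2.2
  set K := ⨅ θ, charKer (hχ θ) with hK
  have hKn : K.Normal := Subgroup.normal_iInf_normal fun θ => charKer_normal _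
  have hset : (K : Set G) = frobeniusKernel H := by
    ext x
    simp only [SetLike.mem_coe, hK, Subgroup.mem_iInf, mem_charKer]
    refine ⟨fun hx => ?_, fun hx θ => hker θ x hx⟩
    rw [mem_frobeniusKernel_iff]
    by_contra hne
    rw [not_or, not_forall] at hne
    obtain ⟨hx1, g, hg⟩ := hne
    rw [not_not] at hg
    set h : H := ⟨_, hg⟩ with hh
    have hh1 : h ≠ 1 := by
      intro he
      have he' : g⁻¹ * x * g = 1 := congrArg Subtype.val he
      exact hx1 (by simpa [mul_assoc] using congrArg (fun z => g * z * g⁻¹) he')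
    obtain ⟨θ, hθ⟩ : ∃ θ : IrrCharacter H, (θ : H → ℂ) h ≠ (θ : H → ℂ) 1 := by
      by_contra hall
      push Not at hall
      exact hh1 (isConj_one_left.1 ((isConj_iff_forall_irr h 1).2 hall))
    let θ' : {θ : H → ℂ // IsIrrCharacter H θ ∧ θ ≠ fun _ => 1} :=
      ⟨θ, θ.2, fun he => hθ (by rw [he])⟩
    apply hθ
    rw [← hres θ' h, ← hres θ' 1]
    have hcl := (hχ θ').isClassFunction x g⁻¹
    rw [inv_inv] at hcl
    calc χ θ' (h : G) = χ θ' x := hcl
      _ = χ θ' 1 := hx θ'
      _ = _ := by simp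
  have hdisj : Disjoint K H := by
    rw [disjoint_iff, eq_bot_iff]
    rintro x ⟨hxK, hxH⟩
    have hx : x ∈ frobeniusKernel H := hset ▸ hxK
    rcases mem_frobeniusKernel_iff.1 hx with h | h
    · exact Subgroup.mem_bot.2 h
    · exact absurd (by simpa using hxH) (h 1)
  refine ⟨K, hset, hKn, Subgroup.isComplement'_of_card_mul_and_disjoint ?_ hdisj⟩
  have hc : Nat.card K = H.index := by
    rw [← card_frobeniusKernel hH, ← hset]; rfl
  rw [hc, mul_comm, Subgroup.card_mul_index]

end Cfsg.Lib.Solv
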