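import Cfsg.Agent.Lib.Core.PSolvable
import Cfsg.Agent.Lib.Core.Smul
import Cfsg.Agent.Lib.Core.Cores
import Cfsg.Agent.Lib.Coprime.Action
import Cfsg.Prelude.Def_OddOrderLocal

/-!
Hall's theorems for finite solvable groups.
-/

set_option autoImplicit false

namespace Cfsg.Lib.Solv

open Cfsg Cfsg.Lib.Core
open scoped Pointwise

universe u

theorem hall_main (n : ℕ) : ∀ (G : Type u) [Group G] [Finite G] [Group.IsSolvable G],
    Nat.card G ≤ n → ∀ m k : ℕ, Nat.card G = m * k → m.Coprime k →
      ∃ H : Subgroup G, Nat.card H = m ∧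
        ∀ K : Subgroup G, (Nat.card K).Coprime k → ∃ g : G, K ≤ MulAut.conj g • H := by
  induction n with
  | zero => intro G _ _ _ hc; exact absurd hc (Nat.not_le.2 Nat.card_pos)
  | succ n ih =>
    intro G _ _ _ hle m k hG hmk
    by_cases hm1 : m = 1
    · refine ⟨⊥, by rw [Subgroup.card_bot, hm1], fun K hK => ⟨1, ?_⟩⟩
      have hdvd : Nat.card K ∣ k := by
        have := K.card_subgroup_dvd_card
        rwa [hG, hm1, one_mul] at this
      rw [Subgroup.card_eq_one.1 (Nat.eq_one_of_dvd_coprimes hK dvd_rfl hdvd)]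
      exact bot_le
    have : Nontrivial G := Finite.one_lt_card_iff_nontrivial.1 (by
      have hk : 0 < k := Nat.pos_of_ne_zero fun h => by
        rw [h, mul_zero] at hG; exact Nat.card_pos.ne' hG
      have hm : 0 < m := Nat.pos_of_ne_zero fun h => by
        rw [h, zero_mul] at hG; exact Nat.card_pos.ne' hG
      calc 1 < m := by omega
        _ ≤ m * k := Nat.le_mul_of_pos_right m hk
        _ = _ := hG.symm)
    obtain ⟨M, hM⟩ := exists_isMinNormal_univ (G := G)
    have hMn := hM.1
    obtain ⟨hMab, p, hp, -, hMp⟩ := minimal_solvable_elementary hM inferInstance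
    have := Fact.mk hp
    obtain ⟨j, hj⟩ := IsPGroup.iff_card.1 hMp
    set f := QuotientGroup.mk' M
    have hf := QuotientGroup.mk'_surjective M
    have hker : f.ker = M := QuotientGroup.ker_mk' M
    have hq : Nat.card (G ⧸ M) * Nat.card M = m * k := by
      rw [← hG]; exact (Subgroup.card_eq_card_quotient_mul_card_subgroup M).symm
    have hle' : Nat.card (G ⧸ M) ≤ n := by
      have := card_quotient_lt (N := M) hM.2.1
      omega
    have hsm : ∀ (g : G) (H : Subgroup (G ⧸ M)) (K : Subgroup G),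
        K.map f ≤ MulAut.conj (f g) • H → K ≤ MulAut.conj g • H.comap f := by
      intro g H K h x hx
      have h' := mem_conj_smul.1 (h (Subgroup.mem_map_of_mem f hx))
      rw [← map_inv, ← map_mul, ← map_mul] at h'
      exact mem_conj_smul.2 h'
    by_cases hpk : p ∣ k
    · -- `M` has order prime to `m`
      have hMm : (Nat.card M).Coprime m := by
        rw [hj]
        exact Nat.Coprime.pow_left _ (Nat.Coprime.coprime_dvd_left hpk hmk.symm)
      have hd : Nat.card M ∣ k := hMm.dvd_of_dvd_mul_left ⟨Nat.card (G ⧸ M), by rw [← hq, mul_comm]⟩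
      obtain ⟨k', hk'⟩ := hd
      have hG' : Nat.card (G ⧸ M) = m * k' := by
        apply Nat.eq_of_mul_eq_mul_right (Nat.card_pos (α := M))
        rw [hq, hk']; ring
      have hmk' : m.Coprime k' := Nat.Coprime.coprime_dvd_right ⟨Nat.card M, by rw [hk', mul_comm]⟩ hmk
      obtain ⟨Hb, hHb, hdom⟩ := ih (G ⧸ M) hle' m k' hG' hmk'
      set U := Hb.comap f
      have hMU : M ≤ U := by rw [← hker]; exact Subgroup.ker_le_comap f Hb
      have hU : Nat.card U = Nat.card M * m := by rw [card_comap_eq f hf, hker, hHb]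
      have hrel : M.relIndex U = m := by
        have := card_mul_relIndex hMU
        rw [hU] at this
        exact Nat.eq_of_mul_eq_mul_left Nat.card_pos this
      obtain ⟨H, hHU, hH, hsup⟩ := Cfsg.Lib.Coprime.exists_complement_of_coprime hMU
        (by rw [Subgroup.normalizer_eq_top (H := M)]; exact le_top) (by rw [hrel]; exact hMm)
      rw [hrel] at hH
      refine ⟨H, hH, fun K hK => ?_⟩
      have hKk' : (Nat.card (K.map f)).Coprime k' :=
        Nat.Coprime.coprime_dvd_left (card_map_dvd f K)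
          (Nat.Coprime.coprime_dvd_right ⟨Nat.card M, by rw [hk', mul_comm]⟩ hK)
      obtain ⟨gb, hg⟩ := hdom _ hKk'
      obtain ⟨g, rfl⟩ := hf gb
      have hKU := hsm g Hb K hg
      set H' := MulAut.conj g • H with hH'def
      have hKM : (Nat.card K).Coprime (Nat.card M) :=
        Nat.Coprime.coprime_dvd_right ⟨k', hk'⟩ hK
      have hH'M : (Nat.card H').Coprime (Nat.card M) := by
        rw [hH'def, conj_smul_eq_map, Subgroup.card_map_of_injective (MulAut.conj g).injective, hH]
        exact hMm.symm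
      have hMg : M.map (MulAut.conj g).toMonoidHom = M :=
        map_conj_eq_of_mem_normalizer (by rw [Subgroup.normalizer_eq_top (H := M)]; trivial)
      have hU' : MulAut.conj g • U = M ⊔ H' := by
        rw [hH'def, conj_smul_eq_map, ← hsup, Subgroup.map_sup, hMg, conj_smul_eq_map]
      set A := H' ⊓ (M ⊔ K)
      have hnA : A ≤ Subgroup.normalizer (M : Set G) := by
        rw [Subgroup.normalizer_eq_top (H := M)]; exact le_top
      have hnK : K ≤ Subgroup.normalizer (M : Set G) := by
        rw [Subgroup.normalizer_eq_top (H := M)]; exact le_top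
      have hMAK : M ⊔ A = M ⊔ K := by
        refine le_antisymm (sup_le le_sup_left inf_le_right) fun x hx => ?_
        have hKU' : K ≤ M ⊔ H' := hU' ▸ hKU
        obtain ⟨a, ha, b, hb, rfl⟩ := Cfsg.Lib.Coprime.exists_mul_of_mem_sup
          (N := M) (A := H') (by rw [Subgroup.normalizer_eq_top (H := M)]; exact le_top)
          (sup_le le_sup_left hKU' hx)
        refine Subgroup.mul_mem _ (Subgroup.mem_sup_left ha) (Subgroup.mem_sup_right ⟨hb, ?_⟩)
        have := Subgroup.mul_mem _ (Subgroup.mem_sup_left (S := M) (T := K) (M.inv_mem ha)) hx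
        rwa [inv_mul_cancel_left] at this
      have hdA : Disjoint M A := Cfsg.Lib.Coprime.disjoint_of_coprime_card
        (Nat.Coprime.coprime_dvd_left (Subgroup.card_dvd_of_le inf_le_left) hH'M).symm
      have hdK : Disjoint M K := Cfsg.Lib.Coprime.disjoint_of_coprime_card hKM.symm
      have hcard : Nat.card K = Nat.card A := by
        apply Nat.eq_of_mul_eq_mul_left (Nat.card_pos (α := M))
        rw [← Cfsg.Lib.Coprime.card_sup_of_disjoint hnK hdK, ← hMAK,
          Cfsg.Lib.Coprime.card_sup_of_disjoint hnA hdA]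
      obtain ⟨x, hx, hKx⟩ := Cfsg.Lib.Coprime.exists_conj_of_coprime M A K hnA
        (Nat.Coprime.coprime_dvd_left (Subgroup.card_dvd_of_le inf_le_left) hH'M)
        (Or.inr inferInstance) (le_sup_right.trans hMAK.ge) hcard
      refine ⟨x * g, ?_⟩
      rw [map_mul, mul_smul, hKx]
      refine le_trans (Subgroup.map_mono inf_le_left) ?_
      rw [conj_smul_eq_map (H := MulAut.conj g • H)]
    · -- `M` has order dividing `m`
      have hMk : (Nat.card M).Coprime k := by
        rw [hj]; exact Nat.Coprime.pow_left _ (hp.coprime_iff_not_dvd.2 hpk)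
      have hd : Nat.card M ∣ m := hMk.dvd_of_dvd_mul_right ⟨Nat.card (G ⧸ M), by rw [← hq, mul_comm]⟩
      obtain ⟨m', hm'⟩ := hd
      have hG' : Nat.card (G ⧸ M) = m' * k := by
        apply Nat.eq_of_mul_eq_mul_right (Nat.card_pos (α := M))
        rw [hq, hm']; ring
      have hmk' : m'.Coprime k := Nat.Coprime.coprime_dvd_left ⟨Nat.card M, by rw [hm', mul_comm]⟩ hmk
      obtain ⟨Hb, hHb, hdom⟩ := ih (G ⧸ M) hle' m' k hG' hmk'
      refine ⟨Hb.comap f, by rw [card_comap_eq f hf, hker, hHb, hm'], fun K hK => ?_⟩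
      obtain ⟨gb, hg⟩ := hdom _ (Nat.Coprime.coprime_dvd_left (card_map_dvd f K) hK)
      obtain ⟨g, rfl⟩ := hf gb
      exact ⟨g, hsm g Hb K hg⟩

variable {G : Type u} [Group G] [Finite G]

/-- Hall's existence theorem. -/
theorem hall_exists [Group.IsSolvable G] {m k : ℕ} (hG : Nat.card G = m * k) (hmk : m.Coprime k) :
    ∃ H : Subgroup G, Nat.card H = m :=
  let ⟨H, hH, _⟩ := hall_main (Nat.card G) G le_rfl m k hG hmk
  ⟨H, hH⟩

/-- Hall's containment theorem, for a given Hall subgroup. -/
theorem hall_le_conj [Group.IsSolvable G] {m k : ℕ} (hG : Nat.card G = m * k) (hmk : m.Coprime k)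
    {H K : Subgroup G} (hH : Nat.card H = m) (hK : (Nat.card K).Coprime k) :
    ∃ g : G, K ≤ MulAut.conj g • H := by
  obtain ⟨H₀, hH₀, hdom⟩ := hall_main (Nat.card G) G le_rfl m k hG hmk
  obtain ⟨a, ha⟩ := hdom H (hH ▸ hmk)
  obtain ⟨b, hb⟩ := hdom K hK
  have hcard : Nat.card (MulAut.conj a • H₀ : Subgroup G) = m := by
    rw [conj_smul_eq_map, Subgroup.card_map_of_injective (MulAut.conj a).injective, hH₀]
  have heq : H = MulAut.conj a • H₀ := Subgroup.eq_of_le_of_card_ge ha (by rw [hcard, hH])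
  refine ⟨b * a⁻¹, ?_⟩
  rwa [heq, smul_smul, ← map_mul, inv_mul_cancel_right]

/-- Hall's conjugacy theorem. -/
theorem hall_conj [Group.IsSolvable G] {m k : ℕ} (hG : Nat.card G = m * k) (hmk : m.Coprime k)
    {H K : Subgroup G} (hH : Nat.card H = m) (hK : Nat.card K = m) :
    ∃ g : G, MulAut.conj g • H = K := by
  obtain ⟨g, hg⟩ := hall_le_conj hG hmk hH (K := K) (hK ▸ hmk)
  refine ⟨g, (Subgroup.eq_of_le_of_card_ge hg ?_).symm⟩
  rw [hK, conj_smul_eq_map, Subgroup.card_map_of_injective (MulAut.conj g).injective, hH]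

theorem hall_dominance [Group.IsSolvable G] {m k : ℕ} (hG : Nat.card G = m * k) (hmk : m.Coprime k)
    {K : Subgroup G} (hK : (Nat.card K).Coprime k) :
    ∃ H : Subgroup G, Nat.card H = m ∧ K ≤ H := by
  obtain ⟨H₀, hH₀⟩ := hall_exists hG hmk
  obtain ⟨g, hg⟩ := hall_le_conj hG hmk hH₀ hK
  exact ⟨_, by rw [conj_smul_eq_map, Subgroup.card_map_of_injective (MulAut.conj g).injective, hH₀], hg⟩

theorem coprime_of_isPiHall {π : Set ℕ} {H : Subgroup G} (hH : IsPiHall π H) :
    (Nat.card H).Coprime H.index := by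
  refine Nat.coprime_of_dvd' fun r hr h1 h2 => ?_
  exact absurd h2 (hH.2 r hr (hH.1 r hr h1))

/-- Hall π-subgroups of a solvable group exist. -/
theorem exists_isPiHall (π : Set ℕ) (G : Type u) [Group G] [Finite G] [Group.IsSolvable G] :
    ∃ H : Subgroup G, IsPiHall π H := by
  classical
  set N := Nat.card G
  have hN : N ≠ 0 := Nat.card_pos.ne'
  set m := ∏ q ∈ N.primeFactors with q ∈ π, q ^ N.factorization q with hm
  set k := ∏ q ∈ N.primeFactors with q ∉ π, q ^ N.factorization q with hk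
  have hmk : m * k = N := by
    rw [hm, hk, Finset.prod_filter_mul_prod_filter_not]
    exact Nat.prod_factorization_pow_eq_self hN
  have hmd : ∀ q : ℕ, q.Prime → q ∣ m → q ∈ π := fun q hq hd => by
    obtain ⟨r, hr, hrd⟩ := (hq.prime.dvd_finset_prod_iff _).1 hd
    rw [Finset.mem_filter] at hr
    rw [(Nat.prime_dvd_prime_iff_eq hq (Nat.prime_of_mem_primeFactors hr.1)).1 (hq.dvd_of_dvd_pow hrd)]
    exact hr.2
  have hkd : ∀ q : ℕ, q.Prime → q ∣ k → q ∉ π := fun q hq hd => by
    obtain ⟨r, hr, hrd⟩ := (hq.prime.dvd_finset_prod_iff _).1 hd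
    rw [Finset.mem_filter] at hr
    rw [(Nat.prime_dvd_prime_iff_eq hq (Nat.prime_of_mem_primeFactors hr.1)).1 (hq.dvd_of_dvd_pow hrd)]
    exact hr.2
  obtain ⟨H, hH⟩ := hall_exists (G := G) hmk.symm
    (Nat.coprime_of_dvd fun q hq h1 h2 => hkd q hq h2 (hmd q hq h1))
  have hidx : H.index = k := by
    have h := H.card_mul_index
    rw [hH] at h
    exact Nat.eq_of_mul_eq_mul_left (hH ▸ Nat.card_pos) (h.trans hmk.symm)
  exact ⟨H, fun q hq hd => hmd q hq (hH ▸ hd), fun q hq hqp hd => hkd q hq (hidx ▸ hd) hqp⟩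

/-- A π-subgroup lies in a conjugate of any Hall π-subgroup of a solvable group. -/
theorem le_conj_of_isPiHall [Group.IsSolvable G] {π : Set ℕ} {H K : Subgroup G} (hH : IsPiHall π H)
    (hK : IsPiSub π K) : ∃ g : G, K ≤ MulAut.conj g • H := by
  refine hall_le_conj H.card_mul_index.symm (coprime_of_isPiHall hH) rfl ?_
  exact Nat.coprime_of_dvd fun q hq h1 h2 => hH.2 q hq (hK q hq h1) h2

end Cfsg.Lib.Solv
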