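import Cfsg.Agent.Lib.Core.Fitting
import Mathlib.GroupTheory.Frattini
import Mathlib.GroupTheory.SchurZassenhaus

/-!
The Frattini subgroup and normal subgroups.
-/

set_option autoImplicit false

namespace Cfsg.Lib.Solv

open Subgroup Cfsg.Lib.Core

variable {G : Type*} [Group G]

/-- A normal subgroup contained in the Frattini subgroup of some subgroup lies in the Frattini subgroup. -/
theorem le_frattini_of_le_map_frattini [Finite G] {H D : Subgroup G} [D.Normal]
    (hD : D ≤ (frattini H).map H.subtype) : D ≤ frattini G := by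
  by_contra hne
  obtain ⟨M, hM, hDM⟩ : ∃ M : Subgroup G, IsCoatom M ∧ ¬ D ≤ M := by
    by_contra h
    push Not at h
    exact hne (le_iInf₂ fun M hM => h M hM)
  have htop : M ⊔ D = ⊤ := hM.2 _ (left_lt_sup.2 hDM)
  have hDH : D ≤ H := hD.trans (map_subtype_le _)
  have h : M.subgroupOf H ⊔ frattini H = ⊤ := by
    refine top_le_iff.1 fun x _ => ?_
    have hx : (x : G) ∈ M ⊔ D := htop ▸ mem_top _
    obtain ⟨m, hm, d, hd, hmd⟩ := Subgroup.mem_sup_of_normal_right.1 hx
    have hmH : m ∈ H := by
      have : m = (x : G) * d⁻¹ := by rw [← hmd]; group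
      rw [this]; exact mul_mem x.2 (inv_mem (hDH hd))
    obtain ⟨d', hd', rfl⟩ := hD hd
    have : x = (⟨m, hmH⟩ : H) * d' := Subtype.ext hmd.symm
    rw [this]
    exact mul_mem_sup hm hd'
  have h' : H ≤ M := fun x hx => by
    have := (frattini_nongenerating h) ▸ mem_top (⟨x, hx⟩ : H)
    exact this
  exact hDM (hDH.trans h')

theorem frattini_map_le_of_normal [Finite G] (H : Subgroup G) [H.Normal] :
    (frattini H).map H.subtype ≤ frattini G :=
  have := normal_map_char_of_normal (frattini H)
  le_frattini_of_le_map_frattini (le_refl ((frattini H).map H.subtype))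

/-- If `f` is surjective with kernel in the Frattini subgroup and the image of the normal subgroup `A`
is nilpotent then `A` is nilpotent. -/
theorem isNilpotent_of_map_of_le_frattini [Finite G] {G' : Type*} [Group G'] [Finite G'] (f : G →* G')
    (hf : Function.Surjective f) (hker : f.ker ≤ frattini G) (A : Subgroup G) [A.Normal]
    (h : Group.IsNilpotent (A.map f)) : Group.IsNilpotent A := by
  refine (Group.isNilpotent_of_finite_tfae.out 0 3 rfl rfl).2 fun p hp P => ?_
  have : Fact p.Prime := hp
  set P' := (P : Subgroup A).map A.subtype with hP'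
  have hP'A : P' ≤ A := map_subtype_le _
  have : (A.map f).Normal := Subgroup.Normal.map ‹A.Normal› f hf
  set Qbar := Cfsg.pCore p G' ⊓ A.map f with hQbar
  have hP'Q : P'.map f ≤ Qbar := by
    refine le_inf ?_ (map_mono hP'A)
    have hle : P'.map f ≤ A.map f := map_mono hP'A
    have hsn : (P'.map f).subgroupOf (A.map f) ≤ Cfsg.pCore p ↥(A.map f) := by
      have hpg : IsPGroup p ((P'.map f).subgroupOf (A.map f)) :=
        ((P.isPGroup'.map A.subtype).map f).comap_subtype
      obtain ⟨S, hS⟩ := hpg.exists_le_sylow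
      exact hS.trans (le_pCore' (inferInstance : (S : Subgroup ↥(A.map f)).Normal) S.isPGroup')
    have := map_mono (f := (A.map f).subtype) hsn
    rw [map_subgroupOf_eq_of_le hle] at this
    exact this.trans (pCore_map_le_of_isSubnormal (Subgroup.Normal.isSubnormal inferInstance))
  set Q := Qbar.comap f ⊓ A with hQ
  have hQn : Q.Normal := by
    have : Qbar.Normal := inferInstance
    exact inferInstance
  have hPQ : P' ≤ Q := le_inf (map_le_iff_le_comap.1 hP'Q) hP'A
  have hQle : Q ≤ P' ⊔ f.ker := by
    have h1 : (P' ⊔ f.ker).relIndex Q ∣ P'.relIndex A := by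
      calc (P' ⊔ f.ker).relIndex Q ∣ P'.relIndex Q := relIndex_dvd_of_le_left Q le_sup_left
        _ ∣ P'.relIndex A := by
          rw [← relIndex_mul_relIndex P' Q A hPQ inf_le_right]; exact dvd_mul_right _ _
    have h2 : (P' ⊔ f.ker).relIndex Q ∣ Nat.card (Q.map f) := by
      calc (P' ⊔ f.ker).relIndex Q ∣ f.ker.relIndex Q := relIndex_dvd_of_le_left Q le_sup_right
        _ = Nat.card (Q.map f) := by rw [← MonoidHom.comap_bot, relIndex_comap, relIndex_bot_left]
    have h3 : ¬ p ∣ P'.relIndex A := by
      rw [hP', relIndex, subgroupOf, comap_map_eq_self_of_injective A.subtype_injective]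
      exact P.not_dvd_index
    have hQp : IsPGroup p (Q.map f) :=
      (pCore_isPGroup p G').to_le ((map_mono inf_le_left).trans ((map_comap_le f _).trans inf_le_left))
    obtain ⟨n, hn⟩ := IsPGroup.iff_card.1 hQp
    rw [hn] at h2
    obtain ⟨j, -, hj⟩ := (Nat.dvd_prime_pow hp.out).1 h2
    refine relIndex_eq_one.1 ?_
    rcases Nat.eq_zero_or_pos j with rfl | hj0
    · simpa using hj
    · exact absurd ((hj ▸ dvd_pow_self p hj0.ne' : p ∣ _).trans h1) h3
  -- Frattini argument
  have hnorm : normalizer (P' : Set G) = ⊤ := by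
    refine frattini_nongenerating (top_le_iff.1 ?_)
    have hpg : IsPGroup p (P'.subgroupOf Q) := (P.isPGroup'.map A.subtype).comap_subtype
    have h3 : ¬ p ∣ P'.relIndex A := by
      rw [hP', relIndex, subgroupOf, comap_map_eq_self_of_injective A.subtype_injective]
      exact P.not_dvd_index
    have hidx : ¬ p ∣ (P'.subgroupOf Q).index := fun hd =>
      h3 (hd.trans (by rw [← relIndex_mul_relIndex P' Q A hPQ inf_le_right]; exact dvd_mul_right _ _))
    set Ps : Sylow p Q := hpg.toSylow hidx with hPs
    have hfr := Sylow.normalizer_sup_eq_top Ps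
    have heq : (Ps : Subgroup Q).map Q.subtype = P' := by
      rw [hPs, IsPGroup.toSylow_coe]
      exact map_subgroupOf_eq_of_le hPQ
    rw [heq] at hfr
    rw [← hfr]
    exact sup_le le_sup_left (hQle.trans (sup_le (le_normalizer.trans le_sup_left) (hker.trans le_sup_right)))
  exact (normalizer_eq_top_iff.1 hnorm).of_map_subtype

theorem isNilpotent_of_quotient_frattini [Finite G] (h : Group.IsNilpotent (G ⧸ frattini G)) :
    Group.IsNilpotent G := by
  have h1 : Group.IsNilpotent ((⊤ : Subgroup G).map (QuotientGroup.mk' (frattini G))) := by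
    rw [Subgroup.map_top_of_surjective _ (QuotientGroup.mk'_surjective _)]
    exact Group.isNilpotent_top.2 h
  exact Group.isNilpotent_top.1 (isNilpotent_of_map_of_le_frattini _ (QuotientGroup.mk'_surjective _)
    (by rw [QuotientGroup.ker_mk']) ⊤ h1)

/-- An abelian normal subgroup meeting the Frattini subgroup trivially is complemented. -/
theorem exists_complement_of_abelian [Finite G] (A : Subgroup G) [A.Normal] [IsMulCommutative A]
    (hA : A ⊓ frattini G = ⊥) : ∃ H : Subgroup G, IsComplement' A H := by
  obtain ⟨H, hH, hmin⟩ := Set.Finite.exists_minimal (s := {H : Subgroup G | A ⊔ H = ⊤})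
    (Set.toFinite _) ⟨⊤, sup_top_eq A⟩
  have hD : (A ⊓ H).Normal := by
    rw [← normalizer_eq_top_iff, eq_top_iff, ← hH]
    refine sup_le ?_ ?_
    · intro a ha
      refine centralizer_le_normalizer _ (mem_centralizer_iff.2 fun x hx => ?_)
      exact congrArg Subtype.val (mul_comm' (⟨x, hx.1⟩ : A) ⟨a, ha⟩)
    · exact le_normalizer_iff.2 fun h hh x hx =>
        ⟨‹A.Normal›.conj_mem x hx.1 h, mul_mem (mul_mem hh hx.2) (H.inv_mem hh)⟩
  have hle : (A ⊓ H).subgroupOf H ≤ frattini H := by
    refine le_iInf₂ fun M hM => ?_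
    by_contra hne
    have htop : M ⊔ (A ⊓ H).subgroupOf H = ⊤ := hM.2 _ (left_lt_sup.2 hne)
    have h2 : H ≤ A ⊔ M.map H.subtype := by
      intro x hx
      have hmem : (⟨x, hx⟩ : H) ∈ M ⊔ (A ⊓ H).subgroupOf H := htop ▸ mem_top _
      have hmap := mem_map_of_mem H.subtype hmem
      rw [Subgroup.map_sup] at hmap
      refine (sup_le le_sup_right ?_ : _ ≤ A ⊔ M.map H.subtype) hmap
      exact le_sup_of_le_left (by rw [map_subgroupOf_eq_of_le inf_le_right]; exact inf_le_left)
    have hHle : H ≤ M.map H.subtype :=
      hmin (show A ⊔ M.map H.subtype = ⊤ from top_le_iff.1 (hH ▸ sup_le le_sup_left h2)) (map_subtype_le M)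
    refine hM.1 (top_le_iff.1 fun x _ => ?_)
    obtain ⟨y, hy, hxy⟩ := hHle x.2
    rwa [← Subtype.ext hxy]
  have hbot : A ⊓ H = ⊥ := by
    refine eq_bot_iff.2 (le_trans ?_ hA.le)
    refine le_inf inf_le_left (le_frattini_of_le_map_frattini (H := H) ?_)
    calc A ⊓ H = ((A ⊓ H).subgroupOf H).map H.subtype := (map_subgroupOf_eq_of_le inf_le_right).symm
      _ ≤ _ := map_mono hle
  refine ⟨H, isComplement'_of_disjoint_and_mul_eq_univ (disjoint_iff.2 hbot) ?_⟩
  have hH' : A ⊔ H = ⊤ := hH
  rw [← coe_mul_of_right_le_normalizer_left A H le_normalizer_of_normal, hH', coe_top]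

/-- A prime dividing the order of a finite group divides the index of the Frattini subgroup. -/
theorem dvd_index_frattini [Finite G] {p : ℕ} [Fact p.Prime] (hd : p ∣ Nat.card G) :
    p ∣ (frattini G).index := by
  by_contra hne
  obtain ⟨P⟩ : Nonempty (Sylow p (frattini G)) := inferInstance
  have hnil : Group.IsNilpotent (frattini G) := frattini_nilpotent
  have := Sylow.characteristic_of_normal P inferInstance
  have hn := normal_map_char_of_normal (P : Subgroup (frattini G))
  have hidx : ¬ p ∣ ((P : Subgroup (frattini G)).map (frattini G).subtype).index := by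
    rw [Subgroup.index_map_subtype]
    intro h
    rcases (Fact.out : p.Prime).dvd_mul.1 h with h' | h'
    · exact P.not_dvd_index h'
    · exact hne h'
  set S : Sylow p G := (P.isPGroup'.map (frattini G).subtype).toSylow hidx
  have : (S : Subgroup G).Normal := by
    simp only [S, IsPGroup.toSylow_coe]
    exact hn
  obtain ⟨H, hH⟩ := Subgroup.exists_right_complement'_of_coprime (N := (S : Subgroup G))
    S.card_coprime_index
  have htop : H ⊔ frattini G = ⊤ := by
    refine top_le_iff.1 (hH.sup_eq_top.symm.le.trans ?_)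
    exact sup_le (le_sup_of_le_right (map_subtype_le _)) le_sup_left
  have := frattini_nongenerating htop
  subst this
  have hbot : (S : Subgroup G) = ⊥ := by
    simpa using hH.disjoint.eq_bot
  have := S.not_dvd_index
  rw [hbot, Subgroup.index_bot] at this
  exact this hd

end Cfsg.Lib.Solv
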