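import Cfsg.Agent.Lib.Solv.FittingLength
import Cfsg.Agent.Lib.Core.Layer
import Cfsg.Agent.Lib.Coprime.Generation
import Cfsg.Agent.Lib.PGroup.Basic

/-!
Coprime action of an abelian group of exponent `p` on a solvable group: some subgroup of index
dividing `p ^ m` has a fixed-point subgroup as long as the whole group, up to `m`.
-/

set_option autoImplicit false

namespace Cfsg.Lib.Solv.WardRank

open Subgroup
open scoped commutatorElement

universe u v

section Basics

variable {G : Type u} [Group G] {A : Type v} [CommGroup A]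

/-- `K` is invariant under the action. -/
def Inv (φ : A →* MulAut G) (K : Subgroup G) : Prop := ∀ a, ∀ x ∈ K, φ a x ∈ K

variable {φ : A →* MulAut G}

theorem inv_apply (a : A) (x : G) : φ a⁻¹ (φ a x) = x := by
  rw [← MulAut.mul_apply, ← map_mul, inv_mul_cancel, map_one, MulAut.one_apply]

theorem apply_inv (a : A) (x : G) : φ a (φ a⁻¹ x) = x := by
  rw [← MulAut.mul_apply, ← map_mul, mul_inv_cancel, map_one, MulAut.one_apply]

theorem apply_comm (a b : A) (x : G) : φ a (φ b x) = φ b (φ a x) := by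
  rw [← MulAut.mul_apply, ← MulAut.mul_apply, ← map_mul, ← map_mul, mul_comm]

theorem Inv.map_eq {K : Subgroup G} (h : Inv φ K) (a : A) : K.map (φ a).toMonoidHom = K := by
  refine le_antisymm ?_ fun x hx => ⟨φ a⁻¹ x, h _ _ hx, apply_inv a x⟩
  rintro _ ⟨x, hx, rfl⟩
  exact h a x hx

theorem inv_of_map_eq {K : Subgroup G} (h : ∀ a, K.map (φ a).toMonoidHom = K) : Inv φ K :=
  fun a x hx => (h a).le ⟨x, hx, rfl⟩

theorem inv_of_characteristic (K : Subgroup G) [hK : K.Characteristic] : Inv φ K :=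
  inv_of_map_eq fun a => characteristic_iff_map_eq.1 hK (φ a)

/-- The restricted action. -/
def subAct (φ : A →* MulAut G) (K : Subgroup G) (h : Inv φ K) : A →* MulAut K where
  toFun a :=
    { toFun := fun x => ⟨φ a x, h a x x.2⟩
      invFun := fun x => ⟨φ a⁻¹ x, h a⁻¹ x x.2⟩
      left_inv := fun x => Subtype.ext (inv_apply a (x : G))
      right_inv := fun x => Subtype.ext (apply_inv a (x : G))
      map_mul' := fun x y => Subtype.ext (map_mul (φ a) (x : G) y) }
  map_one' := MulEquiv.ext fun x => Subtype.ext (by show φ 1 (x : G) = x; simp)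
  map_mul' a b := MulEquiv.ext fun x => Subtype.ext (by
    show φ (a * b) (x : G) = φ a (φ b x)
    rw [map_mul, MulAut.mul_apply])

theorem subAct_apply {K : Subgroup G} (h : Inv φ K) (a : A) (x : K) :
    ((subAct φ K h a x : K) : G) = φ a x := rfl

theorem Inv.map_subtype {K : Subgroup G} (h : Inv φ K) {H : Subgroup K}
    (hH : Inv (subAct φ K h) H) : Inv φ (H.map K.subtype) := by
  rintro a _ ⟨x, hx, rfl⟩
  exact ⟨subAct φ K h a x, hH a x hx, rfl⟩

theorem Inv.inf {K L : Subgroup G} (hK : Inv φ K) (hL : Inv φ L) : Inv φ (K ⊓ L) :=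
  fun a x hx => mem_inf.2 ⟨hK a x (mem_inf.1 hx).1, hL a x (mem_inf.1 hx).2⟩

theorem Inv.sup {K L : Subgroup G} (hK : Inv φ K) (hL : Inv φ L) : Inv φ (K ⊔ L) :=
  inv_of_map_eq fun a => by rw [Subgroup.map_sup, hK.map_eq, hL.map_eq]

theorem Inv.normalizer {K : Subgroup G} (hK : Inv φ K) : Inv φ (normalizer (K : Set G)) := by
  intro a x hx
  rw [Subgroup.mem_normalizer_iff] at hx ⊢
  intro y
  obtain ⟨z, rfl⟩ := (φ a).surjective y
  rw [← map_inv, ← map_mul, ← map_mul]
  constructor
  · intro hz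
    have := (hx z).1 (by simpa [inv_apply] using hK a⁻¹ _ hz)
    exact hK a _ this
  · intro hz
    have := (hx z).2 (by simpa [inv_apply] using hK a⁻¹ _ hz)
    exact hK a _ this

/-- The fixed points of a subgroup of the operator group. -/
def fix (φ : A →* MulAut G) (B : Subgroup A) : Subgroup G where
  carrier := {x | ∀ b ∈ B, φ b x = x}
  mul_mem' {x y} hx hy b hb := by rw [map_mul, hx b hb, hy b hb]
  one_mem' b _ := map_one _
  inv_mem' {x} hx b hb := by rw [map_inv, hx b hb]

theorem mem_fix {B : Subgroup A} {x : G} : x ∈ fix φ B ↔ ∀ b ∈ B, φ b x = x := Iff.rfl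

theorem inv_fix (B : Subgroup A) : Inv φ (fix φ B) :=
  fun a x hx b hb => by rw [apply_comm, hx b hb]

/-- The action on a quotient. -/
def quoAct (φ : A →* MulAut G) (N : Subgroup G) [N.Normal] (h : Inv φ N) : A →* MulAut (G ⧸ N) where
  toFun a := QuotientGroup.congr N N (φ a) (h.map_eq a)
  map_one' := MulEquiv.ext fun x => by
    obtain ⟨g, rfl⟩ := QuotientGroup.mk'_surjective N x
    show ((φ 1 g : G) : G ⧸ N) = g
    rw [map_one]; rfl
  map_mul' a b := MulEquiv.ext fun x => by
    obtain ⟨g, rfl⟩ := QuotientGroup.mk'_surjective N x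
    show ((φ (a * b) g : G) : G ⧸ N) = ((φ a (φ b g) : G) : G ⧸ N)
    rw [map_mul]; rfl

theorem quoAct_mk {N : Subgroup G} [N.Normal] (h : Inv φ N) (a : A) (g : G) :
    quoAct φ N h a (QuotientGroup.mk' N g) = QuotientGroup.mk' N (φ a g) := rfl

theorem Inv.comap_mk {N : Subgroup G} [N.Normal] {h : Inv φ N} {K : Subgroup (G ⧸ N)}
    (hK : Inv (quoAct φ N h) K) : Inv φ (K.comap (QuotientGroup.mk' N)) :=
  fun a x hx => by
    rw [mem_comap, ← quoAct_mk h]
    exact hK a _ hx

variable [Finite G] {p : ℕ} [hp : Fact p.Prime]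

/-- A coset which is fixed contains a fixed point. -/
theorem exists_fixed_in_coset (hA : IsPGroup p A) (hG : ¬ p ∣ Nat.card G) {N : Subgroup G}
    (hN : Inv φ N) (B : Subgroup A) {g : G} (hg : ∀ b ∈ B, g⁻¹ * φ b g ∈ N) :
    ∃ x ∈ fix φ B, g⁻¹ * x ∈ N := by
  let X := {x : G // g⁻¹ * x ∈ N}
  let act : MulAction B X :=
    { smul := fun b x => ⟨φ b x, by
        have h1 : φ b (g⁻¹ * x) ∈ N := hN b _ x.2
        rw [map_mul, map_inv] at h1
        have h2 := mul_mem (hg b b.2) h1
        rwa [mul_assoc, mul_inv_cancel_left] at h2⟩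
      one_smul := fun x => Subtype.ext (by show φ 1 (x : G) = x; simp)
      mul_smul := fun b c x => Subtype.ext (by
        show φ ((b : A) * c) (x : G) = φ b (φ c x)
        rw [map_mul, MulAut.mul_apply]) }
  have hcard : Nat.card X = Nat.card N := Nat.card_congr
    { toFun := fun x => ⟨g⁻¹ * x, x.2⟩
      invFun := fun n => ⟨g * n, by simp⟩
      left_inv := fun x => by ext; simp
      right_inv := fun n => by ext; simp }
  have hnd : ¬ p ∣ Nat.card X := fun hd => hG (hd.trans (hcard ▸ card_subgroup_dvd_card N))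
  obtain ⟨⟨x, hx⟩, hfix⟩ := (hA.to_subgroup B).nonempty_fixed_point_of_prime_not_dvd_card X hnd
  exact ⟨x, fun b hb => congrArg Subtype.val (hfix ⟨b, hb⟩), hx⟩

theorem fix_quoAct (hA : IsPGroup p A) (hG : ¬ p ∣ Nat.card G) {N : Subgroup G} [N.Normal]
    (hN : Inv φ N) (B : Subgroup A) :
    fix (quoAct φ N hN) B = (fix φ B).map (QuotientGroup.mk' N) := by
  refine le_antisymm (fun x hx => ?_) ?_
  · obtain ⟨g, rfl⟩ := QuotientGroup.mk'_surjective N x
    obtain ⟨y, hy, hyN⟩ := exists_fixed_in_coset hA hG hN B (g := g) fun b hb =>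
      QuotientGroup.eq.1 (hx b hb).symm
    exact ⟨y, hy, (QuotientGroup.eq.2 hyN).symm⟩
  · rintro _ ⟨y, hy, rfl⟩ b hb
    rw [quoAct_mk, hy b hb]

/-- Invariant Sylow subgroups exist. -/
theorem exists_inv_sylow (hA : IsPGroup p A) (hG : ¬ p ∣ Nat.card G) (s : ℕ) [Fact s.Prime]
    {K : Subgroup G} (hK : Inv φ K) :
    ∃ S : Sylow s K, Inv φ ((S : Subgroup K).map K.subtype) := by
  letI : MulDistribMulAction A K := MulDistribMulAction.compHom K (subAct φ K hK)
  obtain ⟨S0⟩ : Nonempty (Sylow s K) := inferInstance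
  have hnd : ¬ p ∣ Nat.card (Sylow s K) := fun hd =>
    hG (hd.trans ((Sylow.card_dvd_index S0).trans ((index_dvd_card _).trans (card_subgroup_dvd_card K))))
  obtain ⟨S, hS⟩ := hA.nonempty_fixed_point_of_prime_not_dvd_card (Sylow s K) hnd
  refine ⟨S, hK.map_subtype fun a x hx => ?_⟩
  have h : ((a • S : Sylow s K) : Subgroup K) = (S : Subgroup K) := congrArg _ (hS a)
  rw [Sylow.pointwise_smul_def, Subgroup.pointwise_smul_def] at h
  exact h.le ⟨x, hx, rfl⟩

end Basics

section Norm

variable {G : Type u} [Group G] [Finite G] {A : Type v} [CommGroup A] [Finite A]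
  {φ : A →* MulAut G} {p : ℕ} [hp : Fact p.Prime]

/-- The operators in `B` centralizing an invariant abelian normal subgroup: all or nothing. -/
theorem le_fix_or_eq_bot (hA : IsPGroup p A) (hG : ¬ p ∣ Nat.card G) (F L : Subgroup G) [F.Normal]
    (hFi : Inv φ F) (hab : ∀ x ∈ F, ∀ y ∈ F, x * y = y * x) (hFL : F ⊔ L = ⊤)
    (huniq : ∀ M N : Subgroup G, M.Normal → N.Normal → Inv φ M → Inv φ N → M ⊓ N = ⊥ → M = ⊥ ∨ N = ⊥)
    (B : Subgroup A) (hL : L ≤ fix φ B) : F ⊓ fix φ B = ⊥ ∨ F ≤ fix φ B := by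
  classical
  have := Fintype.ofFinite B
  letI : CommGroup F := { (inferInstance : Group F) with
    mul_comm := fun x y => Subtype.ext (hab x x.2 y y.2) }
  set ψ := subAct φ F hFi with hψ
  -- conjugation commutes with the action of `B`
  have hconj : ∀ g : G, ∀ b ∈ B, ∀ x ∈ F, φ b (g * x * g⁻¹) = g * φ b x * g⁻¹ := by
    intro g b hb x hx
    have hg : g ∈ F ⊔ L := hFL ▸ mem_top g
    obtain ⟨f, hf, l, hl, rfl⟩ := mem_sup_of_normal_left.1 hg
    have h1 : ∀ y ∈ F, f * l * y * (f * l)⁻¹ = l * y * l⁻¹ := fun y hy => by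
      have hy' : l * y * l⁻¹ ∈ F := ‹F.Normal›.conj_mem y hy l
      calc f * l * y * (f * l)⁻¹ = f * (l * y * l⁻¹) * f⁻¹ := by group
        _ = l * y * l⁻¹ := by rw [hab f hf _ hy', mul_inv_cancel_right]
    rw [h1 x hx, h1 _ (hFi b x hx), map_mul, map_mul, map_inv, hL hl b hb]
  let T : F →* F :=
    { toFun := fun v => ∏ b : B, ψ b v
      map_one' := by simp
      map_mul' := fun v w => by simp [Finset.prod_mul_distrib] }
  have hTfix : ∀ v, ∀ b ∈ B, φ b ((T v : F) : G) = T v := by
    intro v b hb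
    refine congrArg Subtype.val (show ψ b (T v) = T v from ?_)
    show ψ b (∏ c : B, ψ c v) = ∏ c : B, ψ c v
    rw [map_prod]
    exact Fintype.prod_equiv (Equiv.mulLeft (⟨b, hb⟩ : B)) _ _ fun c => by
      show ψ b (ψ c v) = ψ (b * c : A) v
      rw [map_mul, MulAut.mul_apply]
  have hTinv : ∀ a v, T (ψ a v) = ψ a (T v) := by
    intro a v
    show ∏ b : B, ψ b (ψ a v) = ψ a (∏ b : B, ψ b v)
    rw [map_prod]
    refine Finset.prod_congr rfl fun b _ => ?_
    rw [← MulAut.mul_apply, ← MulAut.mul_apply, ← map_mul, ← map_mul, mul_comm]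
  have hTconj : ∀ (g : G) (v : F), T (MulAut.conjNormal g v) = MulAut.conjNormal g (T v) := by
    intro g v
    show ∏ b : B, ψ b (MulAut.conjNormal g v) = MulAut.conjNormal g (∏ b : B, ψ b v)
    rw [map_prod]
    refine Finset.prod_congr rfl fun b _ => Subtype.ext ?_
    rw [subAct_apply, MulAut.conjNormal_apply, MulAut.conjNormal_apply, subAct_apply]
    exact hconj g b b.2 v v.2
  set D := T.ker.map F.subtype with hD
  have hDn : D.Normal := by
    refine ⟨?_⟩
    rintro _ ⟨v, hv, rfl⟩ g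
    refine ⟨MulAut.conjNormal g v, ?_, MulAut.conjNormal_apply _ _⟩
    rw [SetLike.mem_coe, MonoidHom.mem_ker] at hv ⊢
    rw [hTconj, hv, map_one]
  have hDi : Inv φ D := hFi.map_subtype fun a v hv => by
    rw [MonoidHom.mem_ker] at hv ⊢
    rw [hTinv, hv, map_one]
  have hCn : (F ⊓ fix φ B).Normal := by
    refine ⟨fun x hx g => mem_inf.2 ⟨‹F.Normal›.conj_mem x (mem_inf.1 hx).1 g, fun b hb => ?_⟩⟩
    rw [hconj g b hb x (mem_inf.1 hx).1, (mem_inf.1 hx).2 b hb]
  have hdisj : (F ⊓ fix φ B) ⊓ D = ⊥ := by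
    rw [eq_bot_iff]
    rintro _ ⟨⟨hxF, hxB⟩, v, hv, rfl⟩
    rw [SetLike.mem_coe, MonoidHom.mem_ker] at hv
    have hTv : T v = v ^ Nat.card B := by
      show ∏ b : B, ψ b v = _
      rw [Finset.prod_congr rfl (fun (b : B) _ => (Subtype.ext (hxB b b.2) : ψ b v = v)), Finset.prod_const,
        Finset.card_univ, Nat.card_eq_fintype_card]
    rw [hTv] at hv
    obtain ⟨k, hk⟩ := IsPGroup.iff_card.1 (hA.to_subgroup B)
    have hco : (Nat.card F).Coprime (Nat.card B) := by
      rw [hk]
      exact ((hp.out.coprime_iff_not_dvd.2 fun h => hG (h.trans (card_subgroup_dvd_card F))).symm).pow_right k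
    have : v = 1 := (powCoprime hco).injective (show v ^ _ = (1 : F) ^ _ by rw [hv, one_pow])
    rw [this]; rfl
  rcases huniq _ _ hCn hDn (hFi.inf (inv_fix B)) hDi hdisj with h | h
  · exact Or.inl h
  · right
    intro x hx
    have hinj : Function.Injective T := by
      rw [← MonoidHom.ker_eq_bot_iff]
      exact (map_eq_bot_iff_of_injective _ F.subtype_injective).1 h
    obtain ⟨v, hv⟩ := (Finite.surjective_of_injective hinj) ⟨x, hx⟩
    intro b hb
    have := hTfix v b hb
    rwa [hv] at this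

theorem exists_cocyclic_le_fix (hexp : ∀ a : A, a ^ p = 1) (hG : ¬ p ∣ Nat.card G)
    (F L : Subgroup G) [F.Normal] (hFne : F ≠ ⊥)
    (hFi : Inv φ F) (hab : ∀ x ∈ F, ∀ y ∈ F, x * y = y * x) (hFL : F ⊔ L = ⊤)
    (huniq : ∀ M N : Subgroup G, M.Normal → N.Normal → Inv φ M → Inv φ N → M ⊓ N = ⊥ → M = ⊥ ∨ N = ⊥)
    (B : Subgroup A) (hL : L ≤ fix φ B) :
    ∃ B1 : Subgroup A, B1.index ∣ B.index * p ∧ fix φ B1 = ⊤ := by
  have hA : IsPGroup p A := fun a => ⟨1, by rw [pow_one, hexp]⟩
  letI : CommGroup F := { (inferInstance : Group F) with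
    mul_comm := fun x y => Subtype.ext (hab x x.2 y y.2) }
  let E : MulAut F →* Monoid.End F :=
    { toFun := fun e => e.toMonoidHom, map_one' := rfl, map_mul' := fun _ _ => rfl }
  let ψ : B →* Monoid.End F := E.comp ((subAct φ F hFi).comp B.subtype)
  have hco : (Nat.card B).Coprime (Nat.card F) := by
    obtain ⟨k, hk⟩ := IsPGroup.iff_card.1 (hA.to_subgroup B)
    rw [hk]
    exact (hp.out.coprime_iff_not_dvd.2 fun h => hG (h.trans (card_subgroup_dvd_card F))).pow_left k
  obtain ⟨B0, ⟨a, ha⟩, hB0⟩ : ∃ B0 ∈ {B0 : Subgroup B | ∃ a : B, B0 ⊔ zpowers a = ⊤},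
      Coprime.fixedBy ψ B0 ≠ ⊥ := by
    by_contra hcon
    refine hFne (eq_bot_iff.2 fun x hx => ?_)
    have h1 := Coprime.mem_iSup_fixedBy ψ hco ⊥ (v := ⟨x, hx⟩) (fun b hb => by
      rw [mem_bot.1 hb, map_one]; rfl)
    have h2 : (⨆ B0 ∈ {B0 : Subgroup B | ∃ a : B, B0 ⊔ zpowers a = ⊤}, Coprime.fixedBy ψ B0) = ⊥ :=
      iSup₂_eq_bot.2 fun B0 hB0 => by_contra fun hne => hcon ⟨B0, hB0, hne⟩
    rw [h2, mem_bot] at h1
    exact congrArg Subtype.val h1
  have hmap : ∀ b ∈ B0.map B.subtype, ∀ l ∈ fix φ B, φ b l = l := by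
    rintro _ ⟨b, -, rfl⟩ l hl
    exact hl b b.2
  refine ⟨B0.map B.subtype, ?_, ?_⟩
  · rw [Subgroup.index_map_subtype, mul_comm]
    refine Nat.mul_dvd_mul_left _ ?_
    have h : B0.index = B0.relIndex (zpowers a) := by
      rw [← relIndex_top_right, ← ha, sup_comm, relIndex_sup_right]
    rw [h]
    refine (relIndex_dvd_card B0 (zpowers a)).trans ?_
    rw [Nat.card_zpowers]
    exact orderOf_dvd_of_pow_eq_one (Subtype.ext (by simp [hexp]))
  · have hL' : L ≤ fix φ (B0.map B.subtype) := fun l hl b hb => hmap b hb l (hL hl)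
    rcases le_fix_or_eq_bot hA hG F L hFi hab hFL huniq _ hL' with h | h
    · exfalso
      refine hB0 (eq_bot_iff.2 fun v hv => mem_bot.2 (Subtype.ext ?_))
      refine (Subgroup.eq_bot_iff_forall _).1 h _ (mem_inf.2 ⟨v.2, ?_⟩)
      rintro _ ⟨b, hb, rfl⟩
      exact congrArg Subtype.val (hv b hb)
    · exact top_le_iff.1 (hFL ▸ sup_le h hL')

end Norm

section Structure

variable {G : Type u} [Group G] [Finite G] [Group.IsSolvable G]

theorem exists_pCore_ne_bot [Nontrivial G] : ∃ r, r.Prime ∧ Cfsg.pCore r G ≠ ⊥ := by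
  by_contra hcon
  push Not at hcon
  have h : Cfsg.fittingSubgroup G = ⊥ := by
    rw [Core.fittingSubgroup_eq_iSup_pCore]
    exact iSup_eq_bot.2 fun r => hcon r r.2
  have h1 := Core.centralizer_fitting_le_of_isSolvable (G := G)
  have h2 : (⊤ : Subgroup G) ≤ centralizer ((⊥ : Subgroup G) : Set G) := fun x _ =>
    mem_centralizer_iff.2 fun y hy => by rw [mem_bot.1 hy]; simp
  rw [h] at h1
  exact top_ne_bot (le_bot_iff.1 (h2.trans h1))

end Structure

section Main

variable {A : Type v} [CommGroup A] [Finite A] {p : ℕ} [hp : Fact p.Prime]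

theorem minimal_step {G : Type u} [Group G] [Finite G] [Group.IsSolvable G]
    (hexp : ∀ a : A, a ^ p = 1) (hG : ¬ p ∣ Nat.card G) (φ : A →* MulAut G) {q m : ℕ}
    [Fact q.Prime] (hlong : Long q (m + 1) G)
    (hsub : ∀ K, Inv φ K → K ≠ ⊤ → FQ q m K)
    (hquo : ∀ (N : Subgroup G) [N.Normal], Inv φ N → N ≠ ⊥ → FQ q m (G ⧸ N))
    (ih : ∀ (H : Type u) [Group H] [Finite H], Group.IsSolvable H → ¬ p ∣ Nat.card H →
      ∀ (ψ : A →* MulAut H) (r : ℕ) [Fact r.Prime], Long r m H →
        ∃ B : Subgroup A, B.index ∣ p ^ m ∧ Long r m (fix ψ B)) :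
    ∃ B : Subgroup A, B.index ∣ p ^ (m + 1) ∧ fix φ B = ⊤ := by
  have hA : IsPGroup p A := fun a => ⟨1, by rw [pow_one, hexp]⟩
  have hnq : ¬ FQ q m G := hlong m (Nat.lt_succ_self m)
  have hOq : Cfsg.pCore q G = ⊥ := by
    by_contra hne
    exact hnq (FQ.fle (hquo _ (inv_of_characteristic _) hne) Core.pCore_quotient_pCore_eq_bot)
  have hnf : ¬ FLe m G := fun h => hnq (h.fq q)
  have : Nontrivial G := not_subsingleton_iff_nontrivial.1 fun h => hnf ((fle_zero_iff.2 h).mono m.zero_le)
  have huniq : ∀ M N : Subgroup G, M.Normal → N.Normal → Inv φ M → Inv φ N → M ⊓ N = ⊥ →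
      M = ⊥ ∨ N = ⊥ := by
    intro M N hMn hNn hMi hNi hMN
    by_contra hcon
    push Not at hcon
    set f := (QuotientGroup.mk' (Cfsg.pCore q (G ⧸ M))).comp (QuotientGroup.mk' M) with hf
    set g := (QuotientGroup.mk' (Cfsg.pCore q (G ⧸ N))).comp (QuotientGroup.mk' N) with hg
    refine hnf ((FLe.prod (hquo M hMi hcon.1) (hquo N hNi hcon.2)).of_injective (f.prod g) ?_)
    rw [← MonoidHom.ker_eq_bot_iff, MonoidHom.ker_prod, ← le_bot_iff, ← hOq]
    refine Core.le_pCore' inferInstance fun x => ?_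
    obtain ⟨i, hi⟩ := Core.pCore_isPGroup q (G ⧸ M) ⟨QuotientGroup.mk' M (x : G), by
      exact (QuotientGroup.eq_one_iff _).1 (mem_inf.1 x.2).1⟩
    obtain ⟨j, hj⟩ := Core.pCore_isPGroup q (G ⧸ N) ⟨QuotientGroup.mk' N (x : G), by
      exact (QuotientGroup.eq_one_iff _).1 (mem_inf.1 x.2).2⟩
    have h1 : (x : G) ^ q ^ i ∈ M := (QuotientGroup.eq_one_iff _).1 (congrArg Subtype.val hi)
    have h2 : (x : G) ^ q ^ j ∈ N := (QuotientGroup.eq_one_iff _).1 (congrArg Subtype.val hj)
    refine ⟨i + j, Subtype.ext ((Subgroup.eq_bot_iff_forall _).1 hMN _ (mem_inf.2 ⟨?_, ?_⟩))⟩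
    · rw [SubmonoidClass.coe_pow, pow_add, pow_mul]; exact pow_mem h1 _
    · rw [SubmonoidClass.coe_pow, pow_add, mul_comm, pow_mul]; exact pow_mem h2 _
  -- the Fitting subgroup
  obtain ⟨r, hr, hOr⟩ := exists_pCore_ne_bot (G := G)
  have : Fact r.Prime := ⟨hr⟩
  have hother : ∀ s : ℕ, s.Prime → s ≠ r → Cfsg.pCore s G = ⊥ := fun s hs hsr => by
    have : Fact s.Prime := ⟨hs⟩
    exact (huniq _ _ inferInstance inferInstance (inv_of_characteristic _) (inv_of_characteristic _)
      (disjoint_iff.1 (IsPGroup.disjoint_of_ne s r hsr _ _ (Core.pCore_isPGroup s G)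
        (Core.pCore_isPGroup r G)))).resolve_right hOr
  set F := Cfsg.fittingSubgroup G with hF
  have hFeq : F = Cfsg.pCore r G := by
    refine le_antisymm ?_ (Core.pCore_le_fittingSubgroup r G)
    rw [hF, Core.fittingSubgroup_eq_iSup_pCore]
    refine iSup_le fun s => ?_
    by_cases hs : (s : ℕ) = r
    · rw [hs]
    · rw [hother s s.2 hs]; exact bot_le
  have hFn : F.Normal := Core.fittingSubgroup_normal' G
  have hFi : Inv φ F := inv_of_characteristic _
  have hFne : F ≠ ⊥ := hFeq ▸ hOr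
  have hFp : IsPGroup r F := hFeq ▸ Core.pCore_isPGroup r G
  have hCF : centralizer (F : Set G) ≤ F := Core.centralizer_fitting_le_of_isSolvable
  have hFnil : Group.IsNilpotent F := hFp.isNilpotent
  -- trivial Frattini subgroup
  have hPhi : frattini G = ⊥ := by
    by_contra hne
    refine hnf (FLe.of_quotient_frattini ((hquo _ (inv_of_characteristic _) hne).fle ?_))
    set R := Cfsg.pCore q (G ⧸ frattini G) with hR
    have hqr : q ≠ r := fun h => hOr (h ▸ hOq)
    have hRn : (R.comap (QuotientGroup.mk' (frattini G))).Normal :=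
      (inferInstance : R.Normal).comap _
    have h1 : R.comap (QuotientGroup.mk' (frattini G)) ≤ F := by
      refine Core.le_fittingSubgroup' hRn (isNilpotent_of_map_of_le_frattini (QuotientGroup.mk' (frattini G))
        (QuotientGroup.mk'_surjective _) (by rw [QuotientGroup.ker_mk']) _ ?_)
      rw [map_comap_eq_self_of_surjective (QuotientGroup.mk'_surjective _)]
      exact (Core.pCore_isPGroup q _).isNilpotent
    have h2 : R ≤ F.map (QuotientGroup.mk' (frattini G)) := by
      rw [← map_comap_eq_self_of_surjective (QuotientGroup.mk'_surjective (frattini G)) R]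
      exact map_mono h1
    exact le_bot_iff.1 (((IsPGroup.disjoint_of_ne q r hqr _ _ (Core.pCore_isPGroup q _) (hFp.map _))).le_bot.trans'
      (le_inf le_rfl h2))
  have hab : ∀ x ∈ F, ∀ y ∈ F, x * y = y * x := by
    intro x hx y hy
    have h0 := frattini_map_le_of_normal F
    rw [hPhi, le_bot_iff, map_eq_bot_iff_of_injective _ F.subtype_injective] at h0
    have h1 := PGroup.commutator_le_frattini hFp
    rw [h0, le_bot_iff] at h1
    have h2 : ⁅(⟨x, hx⟩ : F), ⟨y, hy⟩⁆ ∈ _root_.commutator F :=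
      Subgroup.commutator_mem_commutator (mem_top _) (mem_top _)
    rw [h1, mem_bot, commutatorElement_eq_one_iff_mul_comm] at h2
    exact congrArg Subtype.val h2
  -- an invariant complement
  obtain ⟨L, hLi, hLF, hFL⟩ : ∃ L : Subgroup G, Inv φ L ∧ L ⊓ F = ⊥ ∧ F ⊔ L = ⊤ := by
    by_cases hFt : F = ⊤
    · exact ⟨⊥, inv_of_characteristic _, bot_inf_eq _, by rw [hFt, top_sup_eq]⟩
    have : Nontrivial (G ⧸ F) := not_subsingleton_iff_nontrivial.1 fun h =>
      hFt (QuotientGroup.subsingleton_iff.1 h)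
    obtain ⟨s, hs, hOs⟩ := exists_pCore_ne_bot (G := G ⧸ F)
    have : Fact s.Prime := ⟨hs⟩
    set M := (Cfsg.pCore s (G ⧸ F)).comap (QuotientGroup.mk' F) with hM
    have hMn : M.Normal := (inferInstance : (Cfsg.pCore s (G ⧸ F)).Normal).comap _
    have hMi : Inv φ M := Inv.comap_mk (h := hFi) (inv_of_characteristic _)
    have hFM : F ≤ M := (QuotientGroup.ker_mk' F).ge.trans (comap_mono bot_le)
    have hMF : ∀ x ∈ M, ∃ i, x ^ s ^ i ∈ F := fun x hx => by
      obtain ⟨i, hi⟩ := Core.pCore_isPGroup s (G ⧸ F) ⟨_, hx⟩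
      exact ⟨i, (QuotientGroup.eq_one_iff _).1 (congrArg Subtype.val hi)⟩
    have hMne : ¬ M ≤ F := fun h => hOs (by
      rw [← map_comap_eq_self_of_surjective (QuotientGroup.mk'_surjective F) (Cfsg.pCore s (G ⧸ F)),
        Subgroup.map_eq_bot_iff, QuotientGroup.ker_mk']
      exact h)
    have hsr : s ≠ r := by
      rintro rfl
      refine hMne (hFeq ▸ Core.le_pCore' hMn fun x => ?_)
      obtain ⟨i, hi⟩ := hMF x x.2
      obtain ⟨j, hj⟩ := hFp ⟨_, hi⟩
      exact ⟨i + j, Subtype.ext (by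
        rw [SubmonoidClass.coe_pow, pow_add, pow_mul]; exact congrArg Subtype.val hj)⟩
    obtain ⟨S, hSi⟩ := exists_inv_sylow hA hG s hMi
    set S' := (S : Subgroup M).map M.subtype with hS'
    have hS'M : S' ≤ M := map_subtype_le _
    have hS'p : IsPGroup s S' := S.isPGroup'.map _
    -- `M = F S`
    have hMle : M ≤ F ⊔ S' := by
      have hFS : (F.subgroupOf M ⊔ (S : Subgroup M)) = ⊤ := by
        rw [← index_eq_one]
        have h1 : (F.subgroupOf M ⊔ (S : Subgroup M)).index ∣ (F.subgroupOf M).index :=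
          index_dvd_of_le le_sup_left
        have h2 : (F.subgroupOf M ⊔ (S : Subgroup M)).index ∣ (S : Subgroup M).index :=
          index_dvd_of_le le_sup_right
        have h3 : IsPGroup s (M ⧸ F.subgroupOf M) := fun z => by
          obtain ⟨x, rfl⟩ := QuotientGroup.mk'_surjective _ z
          obtain ⟨i, hi⟩ := hMF x x.2
          exact ⟨i, by rw [← map_pow]; exact (QuotientGroup.eq_one_iff _).mpr (mem_subgroupOf.mpr (by simpa using hi))⟩
        obtain ⟨e, he⟩ := IsPGroup.iff_card.mp h3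
        rw [Subgroup.index_eq_card (F.subgroupOf M), he] at h1
        obtain ⟨i, -, hi⟩ := (Nat.dvd_prime_pow hs).mp h1
        rw [hi] at h2 ⊢
        by_contra hne
        exact S.not_dvd_index ((dvd_pow_self s (fun h => hne (by rw [h, pow_zero]))).trans h2)
      have h := congrArg (Subgroup.map M.subtype) hFS
      rw [Subgroup.map_sup, map_subgroupOf_eq_of_le hFM, ← MonoidHom.range_eq_map, range_subtype] at h
      exact h.ge
    set L := normalizer (S' : Set G) with hL
    have hMS : M ≤ F ⊔ L := hMle.trans (sup_le_sup_left le_normalizer _)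
    have hFL : F ⊔ L = ⊤ := by
      refine top_le_iff.1 ?_
      rw [← Sylow.normalizer_sup_eq_top S]
      exact sup_le le_sup_right hMS
    have hLi : Inv φ L := hSi.normalizer
    refine ⟨L, hLi, ?_, hFL⟩
    have hdj : F ⊓ S' = ⊥ := disjoint_iff.1 (IsPGroup.disjoint_of_ne r s (Ne.symm hsr) _ _ hFp hS'p)
    -- fixed points and commutators of `S` on `F`
    set C := L ⊓ F with hC
    have hCc : ∀ c ∈ C, ∀ x ∈ S', c * x = x * c := by
      intro c hc x hx
      have h1 : c * x * c⁻¹ * x⁻¹ ∈ F ⊓ S' := by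
        refine mem_inf.2 ⟨?_, mul_mem ((mem_normalizer_iff.1 (mem_inf.1 hc).1 x).1 hx) (inv_mem hx)⟩
        rw [show c * x * c⁻¹ * x⁻¹ = c * (x * c⁻¹ * x⁻¹) by group]
        exact mul_mem (mem_inf.1 hc).2 (hFn.conj_mem _ (inv_mem (mem_inf.1 hc).2) x)
      rw [hdj, mem_bot, mul_inv_eq_one, mul_inv_eq_iff_eq_mul] at h1
      exact h1
    have hCn : C.Normal := by
      refine ⟨fun c hc g => ?_⟩
      obtain ⟨f, hf, l, hl, rfl⟩ := mem_sup_of_normal_left.1 (hFL ▸ mem_top g : g ∈ F ⊔ L)
      have h1 : l * c * l⁻¹ ∈ C :=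
        mem_inf.2 ⟨mul_mem (mul_mem hl (mem_inf.1 hc).1) (inv_mem hl), hFn.conj_mem c (mem_inf.1 hc).2 l⟩
      rwa [show f * l * c * (f * l)⁻¹ = f * (l * c * l⁻¹) * f⁻¹ by group,
        hab f hf _ (mem_inf.1 h1).2, mul_inv_cancel_right]
    have hCi : Inv φ C := hLi.inf hFi
    -- the norm map of `S'`
    classical
    have := Fintype.ofFinite S'
    letI : CommGroup F := { (inferInstance : Group F) with
      mul_comm := fun x y => Subtype.ext (hab x x.2 y y.2) }
    let T : F →* F :=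
      { toFun := fun v => ∏ x : S', MulAut.conjNormal (x : G) v
        map_one' := by simp
        map_mul' := fun v w => by simp [Finset.prod_mul_distrib] }
    set D := T.ker.map F.subtype with hD
    have hTl : ∀ l ∈ L, ∀ v : F, T (MulAut.conjNormal l v) = MulAut.conjNormal l (T v) := by
      intro l hl v
      show ∏ x : S', MulAut.conjNormal (x : G) (MulAut.conjNormal l v) =
        MulAut.conjNormal l (∏ x : S', MulAut.conjNormal (x : G) v)
      rw [map_prod]
      have hl' : ∀ x ∈ S', l⁻¹ * x * l ∈ S' := fun x hx => by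
        simpa using (mem_normalizer_iff.1 (inv_mem hl) x).1 hx
      let e : S' ≃ S' :=
        { toFun := fun (x : S') => ⟨l * x * l⁻¹, (mem_normalizer_iff.1 hl (x : G)).1 x.2⟩
          invFun := fun (x : S') => ⟨l⁻¹ * x * l, hl' x x.2⟩
          left_inv := fun x => Subtype.ext (by show l⁻¹ * (l * x * l⁻¹) * l = x; group)
          right_inv := fun x => Subtype.ext (by show l * (l⁻¹ * x * l) * l⁻¹ = x; group) }
      refine (Fintype.prod_equiv e _ _ fun x => ?_).symm
      rw [← MulAut.mul_apply, ← MulAut.mul_apply, ← map_mul, ← map_mul]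
      show MulAut.conjNormal (l * (x : G)) v = MulAut.conjNormal (l * (x : G) * l⁻¹ * l) v
      rw [inv_mul_cancel_right]
    have hDn : D.Normal := by
      refine ⟨?_⟩
      rintro _ ⟨v, hv, rfl⟩ g
      obtain ⟨f, hf, l, hl, rfl⟩ := mem_sup_of_normal_left.1 (hFL ▸ mem_top g : g ∈ F ⊔ L)
      refine ⟨MulAut.conjNormal l v, ?_, ?_⟩
      · rw [SetLike.mem_coe, MonoidHom.mem_ker] at hv ⊢
        rw [hTl l hl, hv, map_one]
      · have h1 : l * (v : G) * l⁻¹ ∈ F := hFn.conj_mem v v.2 l
        show ((MulAut.conjNormal l v : F) : G) = f * l * (v : G) * (f * l)⁻¹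
        rw [MulAut.conjNormal_apply,
          show f * l * (v : G) * (f * l)⁻¹ = f * (l * v * l⁻¹) * f⁻¹ by group,
          hab f hf _ h1, mul_inv_cancel_right]
    have hDi : Inv φ D := by
      rintro a _ ⟨v, hv, rfl⟩
      refine ⟨⟨φ a v, hFi a v v.2⟩, ?_, rfl⟩
      rw [SetLike.mem_coe, MonoidHom.mem_ker] at hv ⊢
      have h : T ⟨φ a v, hFi a v v.2⟩ = subAct φ F hFi a (T v) := by
        show ∏ x : S', MulAut.conjNormal (x : G) _ =
          subAct φ F hFi a (∏ x : S', MulAut.conjNormal (x : G) v)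
        rw [map_prod]
        refine (Fintype.prod_equiv (subAct φ S' hSi a).toEquiv _ _ fun x => Subtype.ext ?_).symm
        rw [subAct_apply, MulAut.conjNormal_apply, MulAut.conjNormal_apply, map_mul, map_mul, map_inv]
        rfl
      rw [h, hv, map_one]
    have hdisj : C ⊓ D = ⊥ := by
      rw [eq_bot_iff]
      rintro _ ⟨hxC, v, hv, rfl⟩
      rw [SetLike.mem_coe, MonoidHom.mem_ker] at hv
      have hTv : T v = v ^ Nat.card S' := by
        show ∏ x : S', MulAut.conjNormal (x : G) v = _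
        have hfix : ∀ x : S', MulAut.conjNormal (x : G) v = v := fun x => Subtype.ext (by
          rw [MulAut.conjNormal_apply, mul_inv_eq_iff_eq_mul]
          exact (hCc _ hxC x x.2).symm)
        rw [Finset.prod_congr rfl (fun (x : S') _ => hfix x), Finset.prod_const,
          Finset.card_univ, Nat.card_eq_fintype_card]
      rw [hTv] at hv
      obtain ⟨e, he⟩ := IsPGroup.iff_card.1 hFp
      obtain ⟨k, hk⟩ := IsPGroup.iff_card.1 hS'p
      have hco : (Nat.card F).Coprime (Nat.card S') := by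
        rw [he, hk]
        exact Nat.Coprime.pow _ _ ((Nat.coprime_primes hr hs).2 (Ne.symm hsr))
      have : v = 1 := (powCoprime hco).injective (show v ^ _ = (1 : F) ^ _ by rw [hv, one_pow])
      rw [this]; rfl
    refine (huniq C D hCn hDn hCi hDi hdisj).elim id fun hDb => ?_
    -- otherwise `S'` centralizes `F`
    exfalso
    have hinj : Function.Injective T := by
      rw [← MonoidHom.ker_eq_bot_iff]
      exact (map_eq_bot_iff_of_injective _ F.subtype_injective).1 hDb
    have hcent : S' ≤ centralizer (F : Set G) := by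
      intro x hx
      refine mem_centralizer_iff.2 fun y hy => ?_
      obtain ⟨v, hv⟩ := (Finite.surjective_of_injective hinj) ⟨y, hy⟩
      have h1 : MulAut.conjNormal x (T v) = T v := by
        show MulAut.conjNormal x (∏ z : S', MulAut.conjNormal (z : G) v) = _
        rw [map_prod]
        exact Fintype.prod_equiv (Equiv.mulLeft (⟨x, hx⟩ : S')) _ _ fun z => by
          rw [← MulAut.mul_apply, ← map_mul]; rfl
      rw [hv] at h1
      have h2 := congrArg Subtype.val h1
      rw [MulAut.conjNormal_apply, mul_inv_eq_iff_eq_mul] at h2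
      exact h2.symm
    exact hMne (hMle.trans (sup_le le_rfl (hcent.trans hCF)))
  -- proper invariant subgroups of the complement
  have hKlt : ∀ K, Inv φ K → K ≤ L → K ≠ L → ∃ j, j < m ∧ FQ r j K := by
    intro K hK hKL hne
    set H := F ⊔ K with hH
    have hHt : H ≠ ⊤ := fun h => hne (le_antisymm hKL fun x hx => by
      obtain ⟨f, hf, k, hk, rfl⟩ := mem_sup_of_normal_left.1 (show x ∈ F ⊔ K by rw [← hH, h]; exact mem_top x)
      have hfL : f ∈ L ⊓ F := mem_inf.2 ⟨by simpa using mul_mem hx (inv_mem (hKL hk)), hf⟩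
      rw [hLF, mem_bot] at hfL
      rwa [hfL, one_mul])
    have hFH : F ≤ H := le_sup_left
    have hcore : ∀ s : ℕ, s.Prime → s ≠ r → Cfsg.pCore s H = ⊥ := by
      intro s hs hsr
      have : Fact s.Prime := ⟨hs⟩
      rw [← map_eq_bot_iff_of_injective _ H.subtype_injective]
      set P := (Cfsg.pCore s H).map H.subtype with hP
      have hPc : P ≤ centralizer (F : Set G) := by
        rintro _ ⟨x, hx, rfl⟩
        refine mem_centralizer_iff.2 fun y hy => ?_
        exact (congrArg Subtype.val (commute_of_normal_of_disjoint _ (F.subgroupOf H) inferInstance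
          inferInstance (IsPGroup.disjoint_of_ne s r hsr _ _ (Core.pCore_isPGroup s H)
            hFp.comap_subtype) x ⟨y, hFH hy⟩ hx (mem_subgroupOf.2 hy)).eq).symm
      exact le_bot_iff.1 (((IsPGroup.disjoint_of_ne s r hsr _ _ ((Core.pCore_isPGroup s H).map _) hFp)).le_bot.trans'
        (le_inf le_rfl (hPc.trans hCF)))
    have hq : Cfsg.pCore q H = ⊥ := hcore q Fact.out (fun h => hOr (h ▸ hOq))
    have hfle : FLe m H := (hsub H (hFi.sup hK) hHt).fle hq
    match m, hfle with
    | 0, hfle =>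
      exfalso
      have := fle_zero_iff.1 hfle
      exact hFne (eq_bot_iff.2 fun x hx =>
        mem_bot.2 (congrArg Subtype.val (Subsingleton.elim (⟨x, hFH hx⟩ : H) 1)))
    | j + 1, hfle =>
      refine ⟨j, Nat.lt_succ_self j, ?_⟩
      have := Core.fittingSubgroup_normal' H
      have h1 := hfle.quotient_fitting
      have hFitH : Cfsg.fittingSubgroup H ≤ Cfsg.pCore r H := by
        rw [Core.fittingSubgroup_eq_iSup_pCore]
        refine iSup_le fun s => ?_
        by_cases hs : (s : ℕ) = r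
        · rw [hs]
        · rw [hcore s s.2 hs]; exact bot_le
      let ι : K →* H := Subgroup.inclusion le_sup_right
      let f : K →* H ⧸ Cfsg.fittingSubgroup H := (QuotientGroup.mk' _).comp ι
      have hker : f.ker ≤ Cfsg.pCore r K := by
        refine Core.le_pCore' f.normal_ker ?_
        have h : f.ker = (Cfsg.fittingSubgroup H).comap ι := by
          ext x
          simp [f, MonoidHom.mem_ker]
        rw [h]
        exact ((Core.pCore_isPGroup r H).to_le hFitH).comap_of_injective ι (Subgroup.inclusion_injective _)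
      refine FLe.of_surjective (QuotientGroup.map _ _ (MonoidHom.id K) hker) ?_
        (h1.of_injective (QuotientGroup.kerLift f) (QuotientGroup.kerLift_injective f))
      intro x
      obtain ⟨y, rfl⟩ := QuotientGroup.mk'_surjective _ x
      exact ⟨y, rfl⟩
  -- the complement is long
  have hLlong : Long r m L := by
    intro j hj hq
    set P := (Cfsg.pCore r L).map L.subtype with hP
    have hPn : L ≤ normalizer (P : Set G) := by
      intro l hl
      refine mem_normalizer_iff.2 fun x => ⟨?_, fun hx => ?_⟩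
      · rintro ⟨y, hy, rfl⟩
        exact ⟨⟨l, hl⟩ * y * ⟨l, hl⟩⁻¹, (inferInstance : (Cfsg.pCore r L).Normal).conj_mem y hy _, rfl⟩
      · obtain ⟨y, hy, hyx⟩ := hx
        exact ⟨⟨l, hl⟩⁻¹ * y * ⟨l, hl⟩, by
          simpa using (inferInstance : (Cfsg.pCore r L).Normal).conj_mem y hy (⟨l, hl⟩ : L)⁻¹, by
          show l⁻¹ * (y : G) * l = x
          rw [show ((y : L) : G) = l * x * l⁻¹ from hyx]; group⟩
    have hN : (F ⊔ P).Normal := by
      rw [← normalizer_eq_top_iff, eq_top_iff, ← hFL]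
      refine sup_le (le_sup_left.trans le_normalizer) fun l hl => ?_
      refine mem_normalizer_iff_map_conj_eq.2 ?_
      rw [Subgroup.map_sup, mem_normalizer_iff_map_conj_eq.1 (hPn hl),
        mem_normalizer_iff_map_conj_eq.1 ((normalizer_eq_top_iff.2 hFn).ge (mem_top l))]
    have hPbot : P = ⊥ := by
      have h1 : F ⊔ P ≤ F := (Core.le_pCore' hN (by
        rw [sup_comm]
        exact Core.isPGroup_sup_of_normal ((Core.pCore_isPGroup r L).map _) hFp)).trans hFeq.ge
      exact le_bot_iff.1 (hLF ▸ le_inf (map_subtype_le _) (le_sup_right.trans h1))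
    have hfl : FLe j L := hq.fle ((map_eq_bot_iff_of_injective _ L.subtype_injective).1 hPbot)
    refine hnf (FLe.mono (FLe.extension F hFnil (hfl.of_surjective ((QuotientGroup.mk' F).comp L.subtype) ?_)) hj)
    intro x
    obtain ⟨g, rfl⟩ := QuotientGroup.mk'_surjective F x
    obtain ⟨f, hf, l, hl, rfl⟩ := mem_sup_of_normal_left.1 (hFL ▸ mem_top g : g ∈ F ⊔ L)
    refine ⟨⟨l, hl⟩, ?_⟩
    rw [MonoidHom.comp_apply, map_mul, show QuotientGroup.mk' F f = 1 from (QuotientGroup.eq_one_iff f).2 hf,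
      one_mul]
    rfl
  obtain ⟨B, hBi, hBl⟩ := ih L inferInstance (fun h => hG (h.trans (card_subgroup_dvd_card L)))
    (subAct φ L hLi) r hLlong
  have hLB : L ≤ fix φ B := by
    by_contra hne
    set K := L ⊓ fix φ B with hK
    obtain ⟨j, hj, hjq⟩ := hKlt K (hLi.inf (inv_fix B)) inf_le_left (fun h => hne (h ▸ inf_le_right))
    let ι : fix (subAct φ L hLi) B →* K :=
      (L.subtype.comp (fix (subAct φ L hLi) B).subtype).codRestrict K fun x =>
        mem_inf.2 ⟨(x : L).2, fun b hb => congrArg Subtype.val (x.2 b hb)⟩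
    exact Long.of_injective ι (fun x y h => Subtype.ext (Subtype.ext (congrArg (Subtype.val : K → G) h)))
      hBl j hj hjq
  obtain ⟨B1, hB1, hfix⟩ := exists_cocyclic_le_fix hexp hG F L hFne hFi hab hFL huniq B hLB
  exact ⟨B1, hB1.trans (by rw [pow_succ]; exact Nat.mul_dvd_mul_right hBi p), hfix⟩

theorem exists_long_fix (hexp : ∀ a : A, a ^ p = 1) : ∀ (m : ℕ) (G : Type u) [Group G] [Finite G],
    Group.IsSolvable G → ¬ p ∣ Nat.card G → ∀ (φ : A →* MulAut G) (q : ℕ) [Fact q.Prime],
      Long q m G → ∃ B : Subgroup A, B.index ∣ p ^ m ∧ Long q m (fix φ B) := by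
  intro m
  induction m with
  | zero => exact fun G _ _ _ _ φ q _ _ => ⟨⊤, by simp, fun j hj => absurd hj (by omega)⟩
  | succ m ihm =>
    intro G _ _
    induction h : Nat.card G using Nat.strong_induction_on generalizing G with
    | _ n ih =>
    intro hsol hG φ q _ hlong
    subst h
    by_cases hK : ∃ K, Inv φ K ∧ K ≠ ⊤ ∧ Long q (m + 1) K
    · obtain ⟨K, hKi, hKt, hKl⟩ := hK
      have hlt : Nat.card K < Nat.card G :=
        lt_of_le_of_ne K.card_le_card_group fun e => hKt (K.eq_top_of_card_eq e)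
      obtain ⟨B, hB, hBl⟩ := ih _ hlt K rfl inferInstance
        (fun h => hG (h.trans (card_subgroup_dvd_card K))) (subAct φ K hKi) q hKl
      refine ⟨B, hB, Long.of_injective ((K.subtype.comp (fix (subAct φ K hKi) B).subtype).codRestrict
        (fix φ B) fun x b hb => congrArg Subtype.val (x.2 b hb)) ?_ hBl⟩
      exact fun x y h => Subtype.ext (Subtype.ext (congrArg (Subtype.val : fix φ B → G) h))
    by_cases hN : ∃ (N : Subgroup G) (_ : N.Normal), Inv φ N ∧ N ≠ ⊥ ∧ Long q (m + 1) (G ⧸ N)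
    · obtain ⟨N, _, hNi, hNb, hNl⟩ := hN
      have hdvd : Nat.card (G ⧸ N) ∣ Nat.card G := card_quotient_dvd_card N
      have hlt : Nat.card (G ⧸ N) < Nat.card G := by
        rw [← Subgroup.index_eq_card, ← N.card_mul_index]
        exact lt_mul_of_one_lt_left (Nat.pos_of_ne_zero index_ne_zero_of_finite)
          (N.one_lt_card_iff_ne_bot.mpr hNb)
      obtain ⟨B, hB, hBl⟩ := ih _ hlt (G ⧸ N) rfl inferInstance
        (fun h => hG (h.trans hdvd)) (quoAct φ N hNi) q hNl
      refine ⟨B, hB, Long.of_surjective (((QuotientGroup.mk' N).comp (fix φ B).subtype).codRestrict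
        (fix (quoAct φ N hNi) B) fun x => ?_) ?_ hBl⟩
      · rw [fix_quoAct (fun a => ⟨1, by rw [pow_one, hexp]⟩ : IsPGroup p A) hG hNi B]
        exact ⟨x, x.2, rfl⟩
      · rintro ⟨y, hy⟩
        rw [fix_quoAct (fun a => ⟨1, by rw [pow_one, hexp]⟩ : IsPGroup p A) hG hNi B] at hy
        obtain ⟨x, hx, rfl⟩ := hy
        exact ⟨⟨x, hx⟩, rfl⟩
    push Not at hK hN
    obtain ⟨B, hB, hfix⟩ := minimal_step hexp hG φ hlong
      (fun K hKi hKt => fq_of_not_long (hK K hKi hKt))
      (fun N hNn hNi hNb => fq_of_not_long (hN N hNn hNi hNb)) ihm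
    refine ⟨B, hB, Long.of_injective ((MonoidHom.id G).codRestrict (fix φ B) fun x => hfix ▸ mem_top x) ?_ hlong⟩
    exact fun x y h => congrArg Subtype.val h

/-- If every proper-corank fixed-point subgroup is short then so is the group. -/
theorem fle_of_fix (hexp : ∀ a : A, a ^ p = 1) {G : Type u} [Group G] [Finite G]
    (hsol : Group.IsSolvable G) (hG : ¬ p ∣ Nat.card G) (φ : A →* MulAut G) (n : ℕ)
    (hrank : p ^ (n + 2) ≤ Nat.card A)
    (hfix : ∀ a : A, a ≠ 1 → FLe n (fix φ (zpowers a))) : FLe n G := by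
  by_contra hn
  obtain ⟨q, hqB, hq⟩ := Nat.exists_infinite_primes (Nat.card G + 1)
  have : Fact q.Prime := ⟨hq⟩
  have hcore : ∀ H : Subgroup G, Cfsg.pCore q H = ⊥ := by
    intro H
    refine Subgroup.eq_bot_of_card_eq _ (Nat.dvd_one.1 ?_)
    obtain ⟨k, hk⟩ := IsPGroup.iff_card.1 (Core.pCore_isPGroup q H)
    rcases Nat.eq_zero_or_pos k with rfl | hk0
    · rw [hk, pow_zero]
    · exfalso
      have h1 : q ∣ Nat.card G := ((hk ▸ dvd_pow_self q hk0.ne' : q ∣ _).trans
        (card_subgroup_dvd_card _)).trans (card_subgroup_dvd_card H)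
      have := Nat.le_of_dvd Nat.card_pos h1
      omega
  have hlong : Long q (n + 1) G := by
    intro j hj hq'
    refine hn ((hq'.fle ?_).mono (by omega))
    refine Subgroup.eq_bot_of_card_eq _ (Nat.dvd_one.1 ?_)
    obtain ⟨k, hk⟩ := IsPGroup.iff_card.1 (Core.pCore_isPGroup q G)
    rcases Nat.eq_zero_or_pos k with rfl | hk0
    · rw [hk, pow_zero]
    · exfalso
      have := Nat.le_of_dvd Nat.card_pos ((hk ▸ dvd_pow_self q hk0.ne' : q ∣ _).trans (card_subgroup_dvd_card _))
      omega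
  obtain ⟨B, hBi, hBl⟩ := exists_long_fix hexp (n + 1) G hsol hG φ q hlong
  have hBne : B ≠ ⊥ := by
    rintro rfl
    rw [index_bot] at hBi
    have := Nat.le_of_dvd (pow_pos hp.out.pos _) hBi
    have := Nat.pow_lt_pow_right hp.out.one_lt (show n + 1 < n + 2 by omega)
    omega
  obtain ⟨a, haB, ha⟩ := B.bot_or_exists_ne_one.resolve_left hBne
  refine hBl n (by omega) ((FLe.of_injective (Subgroup.inclusion ?_) (Subgroup.inclusion_injective _)
    (hfix a ha)).fq q)
  exact fun x hx b hb => hx b (zpowers_le.2 haB hb)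

end Main

end Cfsg.Lib.Solv.WardRank
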