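import Cfsg.Agent.Lib.Solv.FrobeniusConj
import Cfsg.Agent.Lib.Local.CNSolvable
import Cfsg.Agent.Lib.Invol.Quaternion
import Mathlib.GroupTheory.SpecificGroups.ZGroup

/-!
# Structure of Frobenius complements
-/

set_option autoImplicit false

namespace Cfsg.Lib.ComplementStructure

open Cfsg Cfsg.Lib.Solv Cfsg.Lib.Core
open scoped commutatorElement

universe u

variable {G : Type u} [Group G] [Finite G] {K H : Subgroup G}

/-- An involution acting fixed point freely inverts, and the group is abelian. -/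
theorem involution_inverts [hKn : K.Normal] (hfpf : ∀ h ∈ H, h ≠ 1 → K ⊓ Subgroup.centralizer {h} = ⊥)
    {s : G} (hs : s ∈ H) (h2 : orderOf s = 2) : ∀ k ∈ K, s * k * s⁻¹ = k⁻¹ := by
  classical
  have hs1 : s ≠ 1 := by rintro rfl; rw [orderOf_one] at h2; omega
  have hss : s * s = 1 := by rw [← pow_two, ← h2, pow_orderOf_eq_one]
  let f : K → K := fun k => ⟨(k : G)⁻¹ * (s * k * s⁻¹), K.mul_mem (K.inv_mem k.2) (hKn.conj_mem k k.2 s)⟩
  have hf : Function.Injective f := by
    intro a b hab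
    have h : (a : G)⁻¹ * (s * a * s⁻¹) = (b : G)⁻¹ * (s * b * s⁻¹) := congrArg Subtype.val hab
    have h2' : (b : G) * (a : G)⁻¹ ∈ K ⊓ Subgroup.centralizer {s} := by
      refine ⟨K.mul_mem b.2 (K.inv_mem a.2), Subgroup.mem_centralizer_singleton_iff.2 ?_⟩
      have h3 : (b : G) * (a : G)⁻¹ = s * ((b : G) * (a : G)⁻¹) * s⁻¹ := by
        calc (b : G) * (a : G)⁻¹ = (b : G) * ((a : G)⁻¹ * (s * a * s⁻¹)) * (s * (a : G)⁻¹ * s⁻¹) := by group
          _ = _ := by rw [h]; group
      conv_lhs => rw [h3]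
      group
    rw [hfpf s hs hs1, Subgroup.mem_bot, mul_inv_eq_one] at h2'
    exact Subtype.ext h2'.symm
  intro k hk
  obtain ⟨⟨x, hx⟩, hxe⟩ := Finite.injective_iff_surjective.1 hf ⟨k, hk⟩
  have hk' : x⁻¹ * (s * x * s⁻¹) = k := congrArg Subtype.val hxe
  have hsi : s⁻¹ = s := inv_eq_of_mul_eq_one_right hss
  rw [← hk']
  calc s * (x⁻¹ * (s * x * s⁻¹)) * s⁻¹ = s * x⁻¹ * s * x * (s⁻¹ * s⁻¹) := by group
    _ = s * x⁻¹ * s⁻¹ * x := by rw [← mul_inv_rev, hss, inv_one, mul_one, hsi]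
    _ = _ := by group

theorem unique_involution [K.Normal] (hK : K ≠ ⊥)
    (hfpf : ∀ h ∈ H, h ≠ 1 → K ⊓ Subgroup.centralizer {h} = ⊥)
    {s t : G} (hs : s ∈ H) (h2 : orderOf s = 2) (ht : t ∈ H) (ht2 : orderOf t = 2) : t = s := by
  by_contra hne
  have hts : s * t ≠ 1 := fun h => hne (by
    have hss : s * s = 1 := by rw [← pow_two, ← h2, pow_orderOf_eq_one]
    exact mul_left_cancel (h.trans hss.symm))
  obtain ⟨k, hk, hk1⟩ := K.bot_or_exists_ne_one.resolve_left hK
  have hmem : k ∈ K ⊓ Subgroup.centralizer {s * t} := by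
    refine ⟨hk, Subgroup.mem_centralizer_singleton_iff.2 ?_⟩
    have h1 : (s * t) * k * (s * t)⁻¹ = k := by
      calc (s * t) * k * (s * t)⁻¹ = s * (t * k * t⁻¹) * s⁻¹ := by group
        _ = k := by
          rw [involution_inverts hfpf ht ht2 k hk, involution_inverts hfpf hs h2 _ (K.inv_mem hk), inv_inv]
    exact (mul_inv_eq_iff_eq_mul.1 h1).symm
  rw [hfpf _ (H.mul_mem hs ht) hts, Subgroup.mem_bot] at hmem
  exact hk1 hmem

/-- Abelian subgroups of a group acting fixed point freely are cyclic. -/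
theorem isCyclic_of_abelian [K.Normal] (hK : K ≠ ⊥)
    (hfpf : ∀ h ∈ H, h ≠ 1 → K ⊓ Subgroup.centralizer {h} = ⊥) (B : Subgroup G) (hB : B ≤ H)
    [IsMulCommutative B] : IsCyclic B := by
  have hBV : B ≤ Subgroup.normalizer (K : Set G) := by rw [Subgroup.normalizer_eq_top]; exact le_top
  have hfB : ∀ b ∈ B, b ≠ 1 → K ⊓ Subgroup.centralizer {b} = ⊥ := fun b hb => hfpf b (hB hb)
  obtain ⟨W, hWK, hW, hWab, hBW⟩ := exists_abelian_invariant hK hBV hfB
    (Or.inl (Cfsg.Lib.Core.isSolvable_of_isMulCommutative B))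
  exact isCyclic_of_fpf_abelian hW hBW (sup_inf_fpf_mono hWK hfB)

theorem sylow_cyclic_or_quaternion [K.Normal] (hK : K ≠ ⊥)
    (hfpf : ∀ h ∈ H, h ≠ 1 → K ⊓ Subgroup.centralizer {h} = ⊥) (p : ℕ) [Fact p.Prime] (P : Sylow p H) :
    IsCyclic P ∨ (p = 2 ∧ ∃ n : ℕ, Nonempty (P ≃* QuaternionGroup (2 ^ n))) := by
  refine Cfsg.Lib.Local.CN.isCyclic_or_quaternion_of_abelianCyclic (G := (P : Subgroup H)) (fun B hB => ?_) P.2
  set f : (P : Subgroup H) →* G := H.subtype.comp (P : Subgroup H).subtype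
  have hf : Function.Injective f := H.subtype_injective.comp (P : Subgroup H).subtype_injective
  haveI : IsMulCommutative (B.map f) := ⟨⟨by
    rintro ⟨_, a, ha, rfl⟩ ⟨_, b, hb, rfl⟩
    refine Subtype.ext ?_
    show f a * f b = f b * f a
    rw [← map_mul, ← map_mul]
    exact congrArg f (congrArg Subtype.val (hB.is_comm.comm (⟨a, ha⟩ : B) ⟨b, hb⟩))⟩⟩
  haveI := isCyclic_of_abelian hK hfpf (B.map f) (by rintro _ ⟨a, -, rfl⟩; exact (a : H).2)
  exact isCyclic_of_surjective (B.equivMapOfInjective f hf).symm (MulEquiv.surjective _)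

/-- A subgroup of order `p` normalized by an element of prime order `q ≠ p` is centralized by it. -/
theorem commute_prime_orders [K.Normal] (hK : K ≠ ⊥)
    (hfpf : ∀ h ∈ H, h ≠ 1 → K ⊓ Subgroup.centralizer {h} = ⊥) {x z : G} (hx : x ∈ H) (hz : z ∈ H)
    {p q : ℕ} (hp : p.Prime) (hq : q.Prime) (hpq : p ≠ q) (hxq : orderOf x = q) (hzp : orderOf z = p)
    (hn : x ∈ Subgroup.normalizer (Subgroup.zpowers z : Set G)) : x * z = z * x := by
  classical
  by_contra hne
  set Z := Subgroup.zpowers z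
  set X := Subgroup.zpowers x
  set D := Z ⊔ X
  have hXn : X ≤ Subgroup.normalizer (Z : Set G) := Subgroup.zpowers_le.2 hn
  have hZn : (Z.subgroupOf D).Normal := by
    rw [Subgroup.normal_subgroupOf_iff_le_normalizer le_sup_left]
    exact sup_le Subgroup.le_normalizer hXn
  haveI := hZn
  have hgen : ∀ {w y : G}, w ∈ Subgroup.zpowers y → w ≠ 1 → ∀ {l : ℕ}, l.Prime → orderOf y = l →
      Subgroup.zpowers w = Subgroup.zpowers y := by
    intro w y hw hw1 l hl hyl
    refine Subgroup.eq_of_le_of_card_ge (Subgroup.zpowers_le.2 hw) ?_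
    have hd : orderOf w ∣ l := by
      have h := (Subgroup.zpowers y).orderOf_dvd_natCard hw
      rwa [Nat.card_zpowers, hyl] at h
    rw [Nat.card_zpowers, Nat.card_zpowers, hyl,
      ((Nat.dvd_prime hl).1 hd).resolve_left (fun h => hw1 (orderOf_eq_one_iff.1 h))]
  have hdisj : Disjoint Z X := by
    rw [disjoint_iff]
    refine Subgroup.inf_eq_bot_of_coprime ?_
    rw [Nat.card_zpowers, Nat.card_zpowers, hxq, hzp]
    exact (Nat.coprime_primes hp hq).2 hpq
  have hcompl : (Z.subgroupOf D).IsComplement' (X.subgroupOf D) := by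
    refine Subgroup.isComplement'_of_disjoint_and_mul_eq_univ ?_ ?_
    · rw [disjoint_iff, Subgroup.subgroupOf, Subgroup.subgroupOf, ← Subgroup.comap_inf,
        ← Subgroup.subgroupOf, disjoint_iff.1 hdisj, Subgroup.bot_subgroupOf]
    · refine Set.eq_univ_of_forall fun w => ?_
      have hw2 : (w : G) ∈ X ⊔ Z := by rw [sup_comm]; exact w.2
      obtain ⟨a, ha, e, he, hw⟩ := (mem_sup_of_le_normalizer hXn).1 hw2
      have he' : a * e * a⁻¹ ∈ Z := (Subgroup.mem_normalizer_iff.1 (hXn ha) e).1 he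
      exact Set.mem_mul.2 ⟨⟨a * e * a⁻¹, le_sup_left (b := X) he'⟩, he',
        ⟨a, le_sup_right (a := Z) ha⟩, ha, Subtype.ext (by rw [← hw]; show a * e * a⁻¹ * a = a * e; group)⟩
  have hfrob : IsFrobeniusComplement (X.subgroupOf D) := by
    refine isFrobeniusComplement_of_fpf hcompl ?_ ?_ ?_
    · intro h
      have h1 : (⟨z, Subgroup.mem_sup_left (Subgroup.mem_zpowers z)⟩ : D) ∈ Z.subgroupOf D := Subgroup.mem_zpowers z
      rw [h, Subgroup.mem_bot] at h1
      have := congrArg Subtype.val h1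
      exact hne (by rw [show z = 1 from this, mul_one, one_mul])
    · intro h
      have h1 : (⟨x, Subgroup.mem_sup_right (Subgroup.mem_zpowers x)⟩ : D) ∈ X.subgroupOf D := Subgroup.mem_zpowers x
      rw [h, Subgroup.mem_bot] at h1
      have := congrArg Subtype.val h1
      exact hne (by rw [show x = 1 from this, mul_one, one_mul])
    · intro a ha ha1
      refine eq_bot_iff.2 fun w hw => ?_
      rw [Subgroup.mem_bot]
      by_contra hw1
      obtain ⟨hwZ, hwc⟩ := hw
      have hc : (w : G) * (a : G) = (a : G) * w :=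
        congrArg Subtype.val (Subgroup.mem_centralizer_singleton_iff.1 hwc)
      have hcX : X ≤ Subgroup.centralizer {(w : G)} := by
        rw [show X = Subgroup.zpowers (a : G) from
          (hgen (Subgroup.mem_subgroupOf.1 ha) (fun h => ha1 (Subtype.ext h)) hq hxq).symm, Subgroup.zpowers_le]
        exact Subgroup.mem_centralizer_singleton_iff.2 hc.symm
      have hxw := Subgroup.mem_centralizer_singleton_iff.1 (hcX (Subgroup.mem_zpowers x))
      have hcZ : Z ≤ Subgroup.centralizer {x} := by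
        rw [show Z = Subgroup.zpowers (w : G) from
          (hgen (Subgroup.mem_subgroupOf.1 hwZ) (fun h => hw1 (Subtype.ext h)) hp hzp).symm, Subgroup.zpowers_le]
        exact Subgroup.mem_centralizer_singleton_iff.2 hxw.symm
      exact hne (Subgroup.mem_centralizer_singleton_iff.1 (hcZ (Subgroup.mem_zpowers z))).symm
  have hDH : D ≤ H := sup_le (Subgroup.zpowers_le.2 hz) (Subgroup.zpowers_le.2 hx)
  exact not_fpf_frobenius hK (by rw [Subgroup.normalizer_eq_top]; exact le_top)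
    (fun b hb => hfpf b (hDH hb)) _ hfrob

theorem center_ne_bot [K.Normal] (hK : K ≠ ⊥) (hH : H ≠ ⊥)
    (hfpf : ∀ h ∈ H, h ≠ 1 → K ⊓ Subgroup.centralizer {h} = ⊥) : Subgroup.center H ≠ ⊥ := by
  classical
  haveI : Nontrivial H := (Subgroup.nontrivial_iff_ne_bot H).2 hH
  haveI : Fact (Nat.Prime 2) := ⟨Nat.prime_two⟩
  by_cases he : 2 ∣ Nat.card H
  · obtain ⟨s, hs⟩ := exists_prime_orderOf_dvd_card' 2 he
    have hsG : orderOf (s : G) = 2 := by rw [Subgroup.orderOf_coe]; exact hs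
    intro hb
    have hc : s ∈ Subgroup.center H := Subgroup.mem_center_iff.2 fun g => by
      have h1 := unique_involution hK hfpf s.2 hsG
        (H.mul_mem (H.mul_mem g.2 s.2) (H.inv_mem g.2)) (by
          rw [show (g : G) * s * (g : G)⁻¹ = MulAut.conj (g : G) s from rfl, MulEquiv.orderOf_eq, hsG])
      exact Subtype.ext (mul_inv_eq_iff_eq_mul.1 h1)
    rw [hb, Subgroup.mem_bot] at hc
    rw [hc, orderOf_one] at hs
    omega
  haveI : IsZGroup H := ⟨fun p hp P => by
    haveI : Fact p.Prime := ⟨hp⟩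
    rcases sylow_cyclic_or_quaternion hK hfpf p P with h | ⟨rfl, -⟩
    · exact h
    · have hb : (P : Subgroup H) = ⊥ := by
        rw [← Subgroup.card_eq_one, P.card_eq_multiplicity, Nat.factorization_eq_zero_of_not_dvd he, pow_zero]
      show IsCyclic (P : Subgroup H)
      rw [hb]; infer_instance⟩
  set A := commutator H
  have hA : A ≠ ⊤ := (IsZGroup.commutator_lt H).ne
  obtain ⟨q, hq, hqd⟩ := Nat.exists_prime_and_dvd (fun h => hA (Subgroup.index_eq_one.1 h) : A.index ≠ 1)
  haveI : Fact q.Prime := ⟨hq⟩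
  obtain ⟨x, hxq⟩ := exists_prime_orderOf_dvd_card' q (hqd.trans A.index_dvd_card)
  have hcop : (Nat.card A).Coprime q := (IsZGroup.coprime_commutator_index H).coprime_dvd_right hqd
  have hxq' : x ^ q = 1 := by rw [← hxq, pow_orderOf_eq_one]
  haveI : IsCyclic A := IsZGroup.isCyclic_commutator H
  haveI : IsMulCommutative A := IsCyclic.isMulCommutative
  -- coprimality kills fixed elements of order dividing `q`
  have hone : ∀ c ∈ A, c ^ q = 1 → c = 1 := fun c hc hcq =>
    orderOf_eq_one_iff.1 (Nat.eq_one_of_dvd_coprimes hcop (A.orderOf_dvd_natCard hc) (orderOf_dvd_of_pow_eq_one hcq))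
  have key : ∀ y c : H, x * c = c * x → x * y * x⁻¹ = y * c → c ^ q = 1 := by
    intro y c hxc hy
    have hit : ∀ n : ℕ, x ^ n * y * (x ^ n)⁻¹ = y * c ^ n := by
      intro n
      induction n with
      | zero => simp
      | succ n ihn =>
        calc x ^ (n + 1) * y * (x ^ (n + 1))⁻¹ = x * (x ^ n * y * (x ^ n)⁻¹) * x⁻¹ := by
              rw [pow_succ']; group
          _ = (x * y * x⁻¹) * (x * c ^ n * x⁻¹) := by rw [ihn]; group
          _ = y * c * c ^ n := by
              rw [hy, (show Commute x c from hxc).pow_right n |>.eq, mul_inv_cancel_right]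
          _ = _ := by rw [pow_succ', mul_assoc]
    have := hit q
    rwa [hxq', inv_one, one_mul, mul_one, left_eq_mul] at this
  -- `x` centralizes the elements of prime order of the derived group
  have hsmall : ∀ c ∈ A, ∀ p : ℕ, p.Prime → orderOf c = p → x * c = c * x := by
    intro c hc p hp hcp
    have hpq : p ≠ q := by
      rintro rfl
      exact hp.ne_one (Nat.eq_one_of_dvd_coprimes hcop (hcp ▸ A.orderOf_dvd_natCard hc) dvd_rfl)
    apply Subtype.ext
    refine commute_prime_orders hK hfpf x.2 c.2 hp hq hpq (by rw [Subgroup.orderOf_coe, hxq])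
      (by rw [Subgroup.orderOf_coe, hcp]) ?_
    have hmem : x * c * x⁻¹ ∈ Subgroup.zpowers c := by
      have hc2 : x * c * x⁻¹ ∈ A := Subgroup.Normal.conj_mem inferInstance c hc x
      set i : A →* H := A.subtype
      have h1 : Subgroup.zpowers (⟨x * c * x⁻¹, hc2⟩ : A) = Subgroup.zpowers (⟨c, hc⟩ : A) := by
        refine Cfsg.Lib.Invol.zpowers_eq_of_cyclic ?_
        exact (Subgroup.orderOf_coe (⟨_, hc2⟩ : A)).symm.trans
          ((MulEquiv.orderOf_eq (MulAut.conj x) c).trans (Subgroup.orderOf_coe (⟨c, hc⟩ : A)))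
      have h2 := congrArg (Subgroup.map A.subtype) h1
      rw [MonoidHom.map_zpowers, MonoidHom.map_zpowers] at h2
      exact h2.le (Subgroup.mem_zpowers _)
    rw [mem_normalizer_iff_map_conj, MonoidHom.map_zpowers]
    have hmem' : (x : G) * c * (x : G)⁻¹ ∈ Subgroup.zpowers (c : G) := by
      obtain ⟨j, hj⟩ := Subgroup.mem_zpowers_iff.1 hmem
      exact ⟨j, (Subgroup.coe_zpow H c j).symm.trans (congrArg Subtype.val hj)⟩
    refine Subgroup.eq_of_le_of_card_ge (Subgroup.zpowers_le.2 hmem') ?_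
    rw [Nat.card_zpowers, Nat.card_zpowers, MulEquiv.coe_toMonoidHom, MulEquiv.orderOf_eq]
  -- hence all of it
  have hAll : ∀ c ∈ A, x * c = c * x := by
    let φ : A →* A :=
      { toFun := fun a => ⟨(a : H)⁻¹ * (x * a * x⁻¹),
          A.mul_mem (A.inv_mem a.2) (Subgroup.Normal.conj_mem inferInstance _ a.2 x)⟩
        map_one' := by ext; simp
        map_mul' := fun a b => Subtype.ext (by
          have h1 : (b : H)⁻¹ * ((a : H)⁻¹ * (x * a * x⁻¹)) = ((a : H)⁻¹ * (x * a * x⁻¹)) * (b : H)⁻¹ :=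
            congrArg Subtype.val (mul_comm' (b⁻¹ : A) ⟨(a : H)⁻¹ * (x * a * x⁻¹),
              A.mul_mem (A.inv_mem a.2) (Subgroup.Normal.conj_mem inferInstance _ a.2 x)⟩)
          show ((a * b : A) : H)⁻¹ * (x * (a * b : A) * x⁻¹) = ((a : H)⁻¹ * (x * a * x⁻¹)) * ((b : H)⁻¹ * (x * b * x⁻¹))
          push_cast
          calc (↑a * ↑b : H)⁻¹ * (x * (↑a * ↑b) * x⁻¹) = (b : H)⁻¹ * ((a : H)⁻¹ * (x * a * x⁻¹)) * (x * b * x⁻¹) := by group
            _ = _ := by rw [h1]; group) }
    intro c hc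
    by_contra hne
    have hr : φ.range ≠ ⊥ := fun hb => hne (by
      have h1 : φ ⟨c, hc⟩ ∈ φ.range := ⟨_, rfl⟩
      rw [hb, Subgroup.mem_bot] at h1
      have h2 : c⁻¹ * (x * c * x⁻¹) = 1 := congrArg Subtype.val h1
      exact mul_inv_eq_iff_eq_mul.1 (inv_mul_eq_one.1 h2).symm)
    haveI : Nontrivial φ.range := (Subgroup.nontrivial_iff_ne_bot _).2 hr
    obtain ⟨p, hp, hpd⟩ := Nat.exists_prime_and_dvd (Finite.one_lt_card (α := φ.range)).ne'
    haveI : Fact p.Prime := ⟨hp⟩
    obtain ⟨⟨z, a, rfl⟩, hz⟩ := exists_prime_orderOf_dvd_card' p hpd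
    replace hz : orderOf (φ a) = p := (Subgroup.orderOf_coe (⟨φ a, a, rfl⟩ : φ.range)).trans hz
    have hzo : orderOf ((φ a : A) : H) = p := by rw [Subgroup.orderOf_coe, hz]
    have hzc := hsmall _ (φ a).2 p hp hzo
    have hzq := key (a : H) ((φ a : A) : H) hzc (by
      show x * (a : H) * x⁻¹ = (a : H) * ((a : H)⁻¹ * (x * a * x⁻¹))
      rw [mul_inv_cancel_left])
    have := hone _ (φ a).2 hzq
    rw [this, orderOf_one] at hzo
    exact hp.ne_one hzo.symm
  -- so `x` is central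
  intro hb
  have hc : x ∈ Subgroup.center H := Subgroup.mem_center_iff.2 fun h => by
    have hcA : h⁻¹ * (x * h * x⁻¹) ∈ A := by
      have : h⁻¹ * (x * h * x⁻¹) = ⁅h⁻¹, x⁆ := by simp only [commutatorElement_def]; group
      rw [this]
      exact Subgroup.commutator_mem_commutator (Subgroup.mem_top _) (Subgroup.mem_top _)
    have h1 := hone _ hcA (key h _ (hAll _ hcA) (by rw [mul_inv_cancel_left]))
    exact (mul_inv_eq_iff_eq_mul.1 (inv_mul_eq_one.1 h1).symm).symm
  rw [hb, Subgroup.mem_bot] at hc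
  rw [hc, orderOf_one] at hxq
  exact hq.ne_one hxq.symm

end Cfsg.Lib.ComplementStructure
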