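import Cfsg.Agent.S3901
import Cfsg.Agent.Lib.Solv.Hall
import Cfsg.Agent.Lib.Core.PSolvable

/-!
# Lucido's three primes lemma
-/

set_option autoImplicit false

namespace Cfsg.Lib.Solv

universe u

theorem three_primes_aux {G : Type u} [Group G] [Finite G] {p q r : ℕ} [Fact p.Prime] [Fact q.Prime]
    [Fact r.Prime] (hpq : p ≠ q) (hpr : p ≠ r) (hqr : q ≠ r) (V A : Subgroup G)
    (hVp : IsPGroup p ↥V) (hVc : IsMulCommutative ↥V) (hV1 : V ≠ ⊥) [V.Normal]
    (hAq : IsPGroup q ↥A) (hA1 : A ≠ ⊥) (y : G) (hy : orderOf y = r)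
    (hyA : ∀ a ∈ A, y * a * y⁻¹ ∈ A) :
    ∃ x : G, orderOf x = p * q ∨ orderOf x = p * r ∨ orderOf x = q * r := by
  classical
  by_contra hno
  push Not at hno
  have hp : p.Prime := Fact.out
  have hq : q.Prime := Fact.out
  have hr : r.Prime := Fact.out
  have key : ∀ {s t : ℕ} {a b : G}, s.Prime → t.Prime → s ≠ t → (∃ i, orderOf a = s ^ i) → a ≠ 1 →
      (∃ j, orderOf b = t ^ j) → b ≠ 1 → Commute a b → ∃ x : G, orderOf x = s * t := by
    intro s t a b hs ht hst ha ha1 hb hb1 hc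
    obtain ⟨i, hi⟩ := ha
    obtain ⟨j, hj⟩ := hb
    have hsd : s ∣ orderOf a := by
      rcases i with _ | i
      · exact absurd (orderOf_eq_one_iff.1 (by simpa using hi)) ha1
      · rw [hi]; exact dvd_pow_self s (by omega)
    have htd : t ∣ orderOf b := by
      rcases j with _ | j
      · exact absurd (orderOf_eq_one_iff.1 (by simpa using hj)) hb1
      · rw [hj]; exact dvd_pow_self t (by omega)
    refine ⟨a ^ (orderOf a / s) * b ^ (orderOf b / t), ?_⟩
    have h1 := orderOf_pow_orderOf_div (orderOf_pos a).ne' hsd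
    have h2 := orderOf_pow_orderOf_div (orderOf_pos b).ne' htd
    rw [((hc.pow_left _).pow_right _).orderOf_mul_eq_mul_orderOf_of_coprime
      (by rw [h1, h2]; exact (Nat.coprime_primes hs ht).2 hst), h1, h2]
  let _ : CommGroup ↥V := { (inferInstance : Group ↥V) with mul_comm := hVc.is_comm.comm }
  have hAord : ∀ a ∈ A, ∃ i, orderOf a = q ^ i := fun a ha => by
    obtain ⟨i, hi⟩ := IsPGroup.iff_orderOf.1 hAq ⟨a, ha⟩
    exact ⟨i, by rw [← hi, Subgroup.orderOf_mk]⟩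
  have hVord : ∀ v : ↥V, ∃ i, orderOf (v : G) = p ^ i := fun v => by
    obtain ⟨i, hi⟩ := IsPGroup.iff_orderOf.1 hVp v
    exact ⟨i, by rw [Subgroup.orderOf_coe, hi]⟩
  have hy1 : y ≠ 1 := fun h => hr.one_lt.ne (by rw [← hy, h, orderOf_one])
  obtain ⟨a, ha⟩ := Subgroup.ne_bot_iff_exists_ne_one.1 hA1
  have haG : (a : G) ≠ 1 := fun h => ha (Subtype.ext h)
  have hall : ∀ v : ↥V, v = 1 := by
    refine Cfsg.Agent.S3901.eq_one_of_frobenius (MulAut.conjNormal (H := V)) (p := r) A y hy hyA ?_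
      ⟨(a : G), a.2, ?_⟩ ?_ ?_
    · intro s hs hc
      by_contra hs1
      obtain ⟨x, hx⟩ := key hq hr hqr (hAord s hs) hs1 ⟨1, by rw [hy, pow_one]⟩ hy1 hc
      exact (hno x).2.2 hx
    · intro v hv
      have h1 : (a : G) * (v : G) * (a : G)⁻¹ = v := by
        rw [← MulAut.conjNormal_apply, hv]
      by_contra hv1
      obtain ⟨x, hx⟩ := key hp hq hpq (hVord v) (fun h => hv1 (Subtype.ext h)) (hAord _ a.2) haG
        (show Commute (v : G) (a : G) from (mul_inv_eq_iff_eq_mul.1 h1).symm)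
      exact (hno x).1 hx
    · intro v hv
      have h1 : y * (v : G) * y⁻¹ = v := by
        rw [← MulAut.conjNormal_apply, hv]
      by_contra hv1
      obtain ⟨x, hx⟩ := key hp hr hpr (hVord v) (fun h => hv1 (Subtype.ext h)) ⟨1, by rw [hy, pow_one]⟩ hy1
        (show Commute (v : G) y from (mul_inv_eq_iff_eq_mul.1 h1).symm)
      exact (hno x).2.1 hx
    · obtain ⟨i, hi⟩ := IsPGroup.iff_card.1 hVp
      obtain ⟨j, hj⟩ := IsPGroup.iff_card.1 hAq
      rw [hi, hj]
      exact (((Nat.coprime_primes hp hq).2 hpq).pow_left i).pow_right j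
  obtain ⟨v, hv⟩ := Subgroup.ne_bot_iff_exists_ne_one.1 hV1
  exact hv (hall v)

theorem dvd_card_piHall {G : Type u} [Group G] [Finite G] {π : Set ℕ} {H : Subgroup G}
    (hH : Cfsg.IsPiHall π H) {s : ℕ} (hs : s.Prime) (hsπ : s ∈ π) (hsG : s ∣ Nat.card G) :
    s ∣ Nat.card ↥H := by
  rw [← H.card_mul_index] at hsG
  exact (hs.dvd_mul.1 hsG).resolve_right (hH.2 s hs hsπ)

/-- **Lucido's lemma**: among three prime divisors of a solvable group two are joined in the prime graph. -/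
theorem three_primes {G : Type u} [Group G] [Finite G] [Group.IsSolvable G] {p q r : ℕ} (hp : p.Prime)
    (hq : q.Prime) (hr : r.Prime) (hpq : p ≠ q) (hpr : p ≠ r) (hqr : q ≠ r) (hpG : p ∣ Nat.card G)
    (hqG : q ∣ Nat.card G) (hrG : r ∣ Nat.card G) :
    ∃ x : G, orderOf x = p * q ∨ orderOf x = p * r ∨ orderOf x = q * r := by
  classical
  obtain ⟨H, hH⟩ := exists_isPiHall ({p, q, r} : Set ℕ) G
  have hnt : Nontrivial ↥H :=
    Finite.one_lt_card_iff_nontrivial.1 (lt_of_lt_of_le hp.one_lt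
      (Nat.le_of_dvd Nat.card_pos (dvd_card_piHall hH hp (by simp) hpG)))
  obtain ⟨V, hV⟩ := Cfsg.Lib.Core.exists_isMinNormal_univ (G := ↥H)
  obtain ⟨hVc, s, hs, -, hVs⟩ := Cfsg.Lib.Core.minimal_solvable_elementary hV inferInstance
  have := hV.1
  have := Fact.mk hs
  have hsπ : s ∈ ({p, q, r} : Set ℕ) := by
    refine hH.1 s hs ?_
    obtain ⟨n, hn⟩ := IsPGroup.iff_card.1 hVs
    rcases n with _ | n
    · exact absurd (Subgroup.card_eq_one.1 (by simpa using hn)) hV.2.1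
    · exact ((dvd_pow_self s (by omega)).trans (hn ▸ V.card_subgroup_dvd_card))
  -- the other two primes
  obtain ⟨a, b, ha, hb, hab, has, hbs, haπ, hbπ, haG, hbG, hset⟩ : ∃ a b : ℕ, a.Prime ∧ b.Prime ∧ a ≠ b ∧
      a ≠ s ∧ b ≠ s ∧ a ∈ ({p, q, r} : Set ℕ) ∧ b ∈ ({p, q, r} : Set ℕ) ∧ a ∣ Nat.card G ∧ b ∣ Nat.card G ∧
      ∀ x : G, (orderOf x = s * a ∨ orderOf x = s * b ∨ orderOf x = a * b) →
        (orderOf x = p * q ∨ orderOf x = p * r ∨ orderOf x = q * r) := by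
    simp only [Set.mem_insert_iff, Set.mem_singleton_iff] at hsπ ⊢
    rcases hsπ with rfl | rfl | rfl
    · exact ⟨q, r, hq, hr, hqr, hpq.symm, hpr.symm, by simp, by simp, hqG, hrG, fun x h => h⟩
    · refine ⟨p, r, hp, hr, hpr, hpq, hqr.symm, by simp, by simp, hpG, hrG, fun x h => ?_⟩
      rcases h with h | h | h
      · exact Or.inl (h.trans (Nat.mul_comm _ _))
      · exact Or.inr (Or.inr h)
      · exact Or.inr (Or.inl h)
    · refine ⟨p, q, hp, hq, hpq, hpr, hqr, by simp, by simp, hpG, hqG, fun x h => ?_⟩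
      rcases h with h | h | h
      · exact Or.inr (Or.inl (h.trans (Nat.mul_comm _ _)))
      · exact Or.inr (Or.inr (h.trans (Nat.mul_comm _ _)))
      · exact Or.inl h
  obtain ⟨K, hK⟩ := exists_isPiHall ({a, b} : Set ℕ) ↥H
  have haH : a ∣ Nat.card ↥H := dvd_card_piHall hH ha haπ haG
  have hbH : b ∣ Nat.card ↥H := dvd_card_piHall hH hb hbπ hbG
  have haK : a ∣ Nat.card ↥K := dvd_card_piHall hK ha (by simp) haH
  have hbK : b ∣ Nat.card ↥K := dvd_card_piHall hK hb (by simp) hbH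
  have hntK : Nontrivial ↥K :=
    Finite.one_lt_card_iff_nontrivial.1 (lt_of_lt_of_le ha.one_lt (Nat.le_of_dvd Nat.card_pos haK))
  obtain ⟨A, hA⟩ := Cfsg.Lib.Core.exists_isMinNormal_univ (G := ↥K)
  obtain ⟨-, t, ht, -, hAt⟩ := Cfsg.Lib.Core.minimal_solvable_elementary hA inferInstance
  have := Fact.mk ht
  have htab : t = a ∨ t = b := by
    have h1 : t ∈ ({a, b} : Set ℕ) := by
      refine hK.1 t ht ?_
      obtain ⟨n, hn⟩ := IsPGroup.iff_card.1 hAt
      rcases n with _ | n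
      · exact absurd (Subgroup.card_eq_one.1 (by simpa using hn)) hA.2.1
      · exact ((dvd_pow_self t (by omega)).trans (hn ▸ A.card_subgroup_dvd_card))
    simpa using h1
  obtain ⟨c, hc, hcK, hcs, htc, hts, hset'⟩ : ∃ c : ℕ, c.Prime ∧ c ∣ Nat.card ↥K ∧ c ≠ s ∧ t ≠ c ∧ t ≠ s ∧
      ∀ x : G, (orderOf x = s * t ∨ orderOf x = s * c ∨ orderOf x = t * c) →
        (orderOf x = p * q ∨ orderOf x = p * r ∨ orderOf x = q * r) := by
    rcases htab with rfl | rfl
    · exact ⟨b, hb, hbK, hbs, hab, has, hset⟩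
    · refine ⟨a, ha, haK, has, hab.symm, hbs, fun x h => hset x ?_⟩
      rcases h with h | h | h
      · exact Or.inr (Or.inl h)
      · exact Or.inl h
      · exact Or.inr (Or.inr (h.trans (Nat.mul_comm _ _)))
  have := Fact.mk hc
  obtain ⟨y, hy⟩ := exists_prime_orderOf_dvd_card' c hcK
  obtain ⟨x, hx⟩ := three_primes_aux (G := ↥H) (p := s) (q := t) (r := c) hts.symm hcs.symm htc V (A.map K.subtype) hVs hVc
    hV.2.1 (hAt.map _) (by rw [Ne, Subgroup.map_eq_bot_iff_of_injective _ K.subtype_injective]; exact hA.2.1)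
    (y : ↥H) (by rw [Subgroup.orderOf_coe, hy]) (by
      rintro _ ⟨z, hz, rfl⟩
      exact ⟨y * z * y⁻¹, hA.1.conj_mem z hz y, rfl⟩)
  exact ⟨(x : G), hset' _ (by rw [Subgroup.orderOf_coe]; exact hx)⟩

end Cfsg.Lib.Solv
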