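import Mathlib

/-!
# Gaschütz's theorem for abelian normal subgroups
-/

set_option autoImplicit false

namespace Cfsg.Lib.GaschutzAbelian

open Subgroup
open scoped IsMulCommutative

variable {G : Type*} [Group G]

/-- Conjugation by `g` on a normal subgroup. -/
def cj (K : Subgroup G) [hK : K.Normal] (g : G) : K →* K :=
  (MulAut.conjNormal g : MulAut K).toMonoidHom

theorem coe_cj (K : Subgroup G) [hK : K.Normal] (g : G) (k : K) :
    (cj K g k : G) = g * k * g⁻¹ := rfl

theorem exists_pow_eq [Finite G] (K : Subgroup G) {n : ℕ} (hn : (Nat.card K).Coprime n) (y : K) :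
    ∃ k : K, k ^ n = y :=
  (powCoprime (n := n) (G := K) hn).surjective y

theorem eq_one_of_pow_eq_one [Finite G] (K : Subgroup G) {n : ℕ} (hn : (Nat.card K).Coprime n)
    (k : K) (h : k ^ n = 1) : k = 1 :=
  (powCoprime (n := n) (G := K) hn).injective (by simp [h])

theorem exists_complement [Finite G] (K U : Subgroup G) [hKn : K.Normal] [IsMulCommutative K]
    (hKU : K ≤ U) (hcop : (Nat.card K).Coprime U.index)
    (A : Subgroup G) (hAU : A ≤ U) (hAK : A ⊓ K = ⊥) (hKA : K ⊔ A = U) :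
    ∃ H : Subgroup G, Subgroup.IsComplement' K H := by
  classical
  haveI : Fintype (G ⧸ U) := Fintype.ofFinite _
  have hdec : ∀ g : G, ∀ x : G ⧸ U, ∃ k : K, ∃ a : A,
      g * x.out = (k : G) * (g • x).out * a := by
    intro g x
    have h1 : ((g • x).out)⁻¹ * (g * x.out) ∈ U := by
      rw [← QuotientGroup.eq, QuotientGroup.out_eq']
      conv_lhs => rw [← QuotientGroup.out_eq' x]
      rfl
    have h1 : ((g • x).out)⁻¹ * (g * x.out) ∈ K ⊔ A := by
      simpa only [hKA] using h1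
    obtain ⟨k, hk, a, ha, hka⟩ := mem_sup_of_normal_left.1 h1
    refine ⟨⟨(g • x).out * k * ((g • x).out)⁻¹, hKn.conj_mem k hk _⟩, ⟨a, ha⟩, ?_⟩
    calc g * x.out = (g • x).out * (((g • x).out)⁻¹ * (g * x.out)) := by group
      _ = (g • x).out * (k * a) := by rw [hka]
      _ = _ := by simp [mul_assoc]
  choose κ α hκ using hdec
  have huniq : ∀ (k k' : K) (a a' : A) (r : G), (k : G) * r * a = (k' : G) * r * a' → k = k' := by
    intro k k' a a' r h
    have h1 : r⁻¹ * ((k' : G)⁻¹ * k) * r = (a' : G) * (a : G)⁻¹ := by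
      calc r⁻¹ * ((k' : G)⁻¹ * k) * r = r⁻¹ * (k' : G)⁻¹ * ((k : G) * r * a) * (a : G)⁻¹ := by group
        _ = r⁻¹ * (k' : G)⁻¹ * ((k' : G) * r * a') * (a : G)⁻¹ := by rw [h]
        _ = _ := by group
    have h2 : (a' : G) * (a : G)⁻¹ ∈ A ⊓ K := by
      refine ⟨A.mul_mem a'.2 (A.inv_mem a.2), ?_⟩
      rw [← h1]
      have := hKn.conj_mem _ (mul_mem (inv_mem k'.2) k.2) r⁻¹
      rwa [inv_inv] at this
    rw [hAK, mem_bot] at h2
    rw [h2] at h1
    have h3 : (k' : G)⁻¹ * k = 1 := by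
      calc (k' : G)⁻¹ * k = r * (r⁻¹ * ((k' : G)⁻¹ * k) * r) * r⁻¹ := by group
        _ = 1 := by rw [h1]; group
    exact Subtype.ext (inv_mul_eq_one.1 h3).symm
  let F : G → K := fun g => ∏ x : G ⧸ U, κ g x
  have hmul : ∀ g h : G, F (g * h) = cj K g (F h) * F g := by
    intro g h
    show ∏ x : G ⧸ U, κ (g * h) x = _
    have h1 : ∀ x, κ (g * h) x = cj K g (κ h x) * κ g (h • x) := by
      intro x
      refine huniq _ _ (α (g * h) x) (α g (h • x) * α h x) ((g * h) • x).out ?_
      rw [← hκ (g * h) x, mul_assoc g h, hκ h x, mul_smul, Subgroup.coe_mul, coe_cj,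
        Subgroup.coe_mul]
      calc g * ((κ h x : G) * (h • x).out * (α h x : G))
          = g * (κ h x : G) * g⁻¹ * (g * (h • x).out) * (α h x : G) := by group
        _ = _ := by rw [hκ g (h • x)]; group
    simp_rw [h1]
    rw [Finset.prod_mul_distrib, map_prod]
    congr 1
    exact Fintype.prod_equiv (MulAction.toPerm h) _ _ fun x => rfl
  have hFK : ∀ k : K, F (k : G) = k ^ U.index := by
    intro k
    show ∏ x : G ⧸ U, κ (k : G) x = _
    rw [Finset.prod_eq_pow_card (b := k), Finset.card_univ, ← Nat.card_eq_fintype_card]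
    · rfl
    intro x _
    have hx : (k : G) • x = x := by
      conv_rhs => rw [← QuotientGroup.out_eq' x]
      conv_lhs => rw [← QuotientGroup.out_eq' x]
      show (((k : G) * x.out : G) : G ⧸ U) = (x.out : G ⧸ U)
      rw [QuotientGroup.eq]
      apply hKU
      have := hKn.conj_mem _ (inv_mem k.2) (x.out)⁻¹
      rw [inv_inv] at this
      simpa [mul_assoc] using this
    refine huniq _ _ (α (k : G) x) 1 x.out ?_
    have := hκ (k : G) x
    rw [hx] at this
    rw [← this, Subgroup.coe_one, mul_one]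
  have h1 : F 1 = 1 := by
    rw [show (1 : G) = ((1 : K) : G) from rfl, hFK, one_pow]
  let H : Subgroup G :=
    { carrier := {g | F g = 1}
      one_mem' := h1
      mul_mem' := fun {a b} ha hb => by
        show F (a * b) = 1
        rw [hmul, show F b = 1 from hb, map_one, one_mul]
        exact ha
      inv_mem' := fun {a} ha => by
        show F a⁻¹ = 1
        have h2 := hmul a⁻¹ a
        rw [inv_mul_cancel, h1, show F a = 1 from ha, map_one, one_mul] at h2
        exact h2.symm }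
  refine ⟨H, isComplement'_of_disjoint_and_mul_eq_univ ?_ ?_⟩
  · rw [Subgroup.disjoint_def]
    intro x hxK hxH
    have h2 := hFK ⟨x, hxK⟩
    rw [show F x = 1 from hxH] at h2
    exact congrArg Subtype.val (eq_one_of_pow_eq_one K hcop _ h2.symm)
  · rw [Set.eq_univ_iff_forall]
    intro g
    obtain ⟨k, hk⟩ := exists_pow_eq K hcop (F g)⁻¹
    refine ⟨((k⁻¹ : K) : G), (k⁻¹).2, (k : G) * g, ?_, by simp⟩
    show F ((k : G) * g) = 1
    rw [hmul, hFK, hk]
    have h2 : cj K (k : G) (F g) = F g := by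
      refine Subtype.ext ?_
      rw [coe_cj]
      have h3 : (k : G) * (F g : G) = (F g : G) * k :=
        congrArg Subtype.val (mul_comm k (F g))
      rw [h3, mul_inv_cancel_right]
    rw [h2, mul_inv_cancel]

theorem exists_conj [Finite G] (K U : Subgroup G) [hKn : K.Normal] [IsMulCommutative K]
    (hKU : K ≤ U) (hcop : (Nat.card K).Coprime U.index)
    (H₀ H₁ : Subgroup G) (h₀ : Subgroup.IsComplement' K H₀) (h₁ : Subgroup.IsComplement' K H₁)
    (hU : H₀ ⊓ U = H₁ ⊓ U) : ∃ g : G, H₁ = H₀.map (MulAut.conj g).toMonoidHom := by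
  classical
  have hdec : ∀ h : H₀, ∃ k : K, (k : G) * h ∈ H₁ := by
    intro h
    obtain ⟨⟨k, l⟩, hkl⟩ := h₁.2 (h : G)
    have hkl' : (k : G) * l = h := hkl
    exact ⟨k⁻¹, by rw [← hkl', Subgroup.coe_inv, inv_mul_cancel_left]; exact l.2⟩
  choose δ hδ using hdec
  have huniq : ∀ (h : H₀) (k : K), (k : G) * h ∈ H₁ → δ h = k := by
    intro h k hk
    have h2 : (δ h : G) * (k : G)⁻¹ ∈ K ⊓ H₁ := by
      refine ⟨K.mul_mem (δ h).2 (K.inv_mem k.2), ?_⟩
      have := mul_mem (hδ h) (inv_mem hk)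
      simpa [mul_assoc] using this
    rw [h₁.disjoint.eq_bot, mem_bot, mul_inv_eq_one] at h2
    exact Subtype.ext h2
  have hmul : ∀ a b : H₀, δ (a * b) = δ a * cj K (a : G) (δ b) := by
    intro a b
    refine huniq _ _ ?_
    have := mul_mem (hδ a) (hδ b)
    rw [Subgroup.coe_mul, coe_cj, Subgroup.coe_mul]
    simpa [mul_assoc] using this
  have htriv : ∀ a : H₀, (a : G) ∈ U → δ a = 1 := by
    intro a ha
    refine huniq _ _ ?_
    rw [Subgroup.coe_one, one_mul]
    have : (a : G) ∈ H₁ ⊓ U := hU ▸ ⟨a.2, ha⟩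
    exact this.1
  set V := U.subgroupOf H₀
  haveI : Fintype (H₀ ⧸ V) := Fintype.ofFinite _
  have hconst : ∀ a b : H₀, (a : H₀ ⧸ V) = b → δ a = δ b := by
    intro a b hab
    rw [QuotientGroup.eq] at hab
    conv_rhs => rw [show b = a * (a⁻¹ * b) by group]
    rw [hmul, htriv (a⁻¹ * b) hab, map_one, mul_one]
  set c : K := ∏ x : H₀ ⧸ V, δ x.out
  have hn : V.index = U.index := by
    rw [index, index]
    refine Nat.card_eq_of_bijective
      (Quotient.map' (fun a : H₀ => (a : G)) fun a b hab => by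
        rw [QuotientGroup.leftRel_apply] at hab ⊢
        exact hab) ⟨?_, ?_⟩
    · rintro ⟨a⟩ ⟨b⟩ hab
      have h2 : ((a : G))⁻¹ * b ∈ U := QuotientGroup.leftRel_apply.1 (Quotient.eq''.1 hab)
      exact Quotient.sound' (QuotientGroup.leftRel_apply.2 h2)
    · rintro ⟨g⟩
      obtain ⟨⟨k, h⟩, hkh⟩ := h₀.2 g
      have hkh' : (k : G) * h = g := hkh
      refine ⟨Quotient.mk'' h, Quotient.sound' ?_⟩
      rw [QuotientGroup.leftRel_apply, ← hkh']
      have h2 := hKn.conj_mem _ k.2 ((h : G))⁻¹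
      rw [inv_inv, mul_assoc] at h2
      exact hKU h2
  have hc : ∀ h : H₀, c = δ h ^ U.index * cj K (h : G) c := by
    intro h
    calc c = ∏ x : H₀ ⧸ V, δ (h * x.out) := by
          refine (Fintype.prod_equiv (MulAction.toPerm h) _ _ fun x => ?_).symm
          refine hconst _ _ ?_
          rw [QuotientGroup.out_eq']
          conv_rhs => rw [MulAction.toPerm_apply, ← QuotientGroup.out_eq' x]
          rfl
      _ = ∏ x : H₀ ⧸ V, δ h * cj K (h : G) (δ x.out) := by simp_rw [hmul]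
      _ = _ := by
        rw [Finset.prod_mul_distrib, Finset.prod_const, Finset.card_univ, ← map_prod,
          ← Nat.card_eq_fintype_card, ← hn]
        rfl
  obtain ⟨k, hk⟩ := exists_pow_eq K hcop c
  have hδk : ∀ h : H₀, δ h = k * (cj K (h : G) k)⁻¹ := by
    intro h
    have h2 := hc h
    rw [← hk, map_pow] at h2
    have h3 : (δ h)⁻¹ * (k * (cj K (h : G) k)⁻¹) = 1 := by
      refine eq_one_of_pow_eq_one K hcop _ ?_
      rw [mul_pow, mul_pow, inv_pow, inv_pow, h2, mul_assoc (δ h ^ U.index), mul_inv_cancel, mul_one,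
        inv_mul_cancel]
    exact inv_mul_eq_one.1 h3
  refine ⟨(k : G), le_antisymm ?_ ?_⟩
  · intro x hx
    obtain ⟨⟨k', h⟩, hkh⟩ := h₀.2 x
    have hkh' : (k' : G) * h = x := hkh
    refine ⟨h, h.2, ?_⟩
    have h2 := huniq h k' (hkh'.symm ▸ hx)
    rw [hδk] at h2
    rw [← hkh', ← h2]
    simp [coe_cj, mul_assoc]
  · rintro _ ⟨h, hh, rfl⟩
    have h2 := hδ ⟨h, hh⟩
    rw [hδk] at h2
    simpa [coe_cj, mul_assoc] using h2

end Cfsg.Lib.GaschutzAbelian
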