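import Cfsg.Agent.Lib.Core.Basic
import Mathlib.GroupTheory.Solvable
import Mathlib.GroupTheory.Coset.Card
import Mathlib.Tactic.Group

/-!
Products of subgroups: cardinality of the product set, Itô's theorem.
-/

set_option autoImplicit false

namespace Cfsg.Lib.Solv

open Subgroup
open scoped commutatorElement Pointwise

universe u

variable {G : Type u} [Group G]

/-- The number of elements of a product set of two subgroups. -/
theorem card_mul_set [Finite G] (P Q : Subgroup G) :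
    Nat.card ((P : Set G) * (Q : Set G) : Set G) = Nat.card Q * Q.relIndex P := by
  rw [card_mul_eq_card_subgroup_mul_card_quotient Q (P : Set G)]
  congr 1
  let f : P ⧸ Q.subgroupOf P → ((P : Set G).image ((↑) : G → G ⧸ Q) : Set (G ⧸ Q)) :=
    Quotient.lift (fun x : P => ⟨(x : G), ⟨x, x.2, rfl⟩⟩) fun a b h => by
      have h' : a⁻¹ * b ∈ Q.subgroupOf P := QuotientGroup.leftRel_apply.1 h
      exact Subtype.ext (QuotientGroup.eq.2 h')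
  refine (Nat.card_congr (Equiv.ofBijective f ⟨?_, ?_⟩)).symm
  · intro x y h
    induction x using QuotientGroup.induction_on with
    | _ a =>
      induction y using QuotientGroup.induction_on with
      | _ b =>
        have h' : ((a : G) : G ⧸ Q) = ((b : G) : G ⧸ Q) := congrArg Subtype.val h
        exact QuotientGroup.eq.2 (show a⁻¹ * b ∈ Q.subgroupOf P from (QuotientGroup.eq (s := Q)).1 h')
  · rintro ⟨_, ⟨a, ha, rfl⟩⟩
    exact ⟨((⟨a, ha⟩ : P) : P ⧸ Q.subgroupOf P), rfl⟩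

theorem comm_right_of_commute {a x y : G} (h : a * y = y * a) : ⁅a, x * y⁆ = ⁅a, x⁆ := by
  simp only [commutatorElement_def]
  calc a * (x * y) * a⁻¹ * (x * y)⁻¹ = a * x * (y * a⁻¹) * y⁻¹ * x⁻¹ := by group
    _ = a * x * (a⁻¹ * y) * y⁻¹ * x⁻¹ := by
        rw [show y * a⁻¹ = a⁻¹ * y by
          calc y * a⁻¹ = a⁻¹ * (a * y) * a⁻¹ := by group
            _ = a⁻¹ * y := by rw [h]; group]
    _ = _ := by group

theorem comm_left_of_commute {a b x : G} (h : b * x = x * b) : ⁅a * b, x⁆ = ⁅a, x⁆ := by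
  simp only [commutatorElement_def]
  calc a * b * x * (a * b)⁻¹ * x⁻¹ = a * (b * x) * b⁻¹ * a⁻¹ * x⁻¹ := by group
    _ = _ := by rw [h]; group

/-- **Itô's theorem**: a product of two abelian subgroups is metabelian. -/
theorem derivedSeries_two_eq_bot_of_product (A B : Subgroup G) [IsMulCommutative A]
    [IsMulCommutative B] (hAB : ∀ g : G, ∃ a ∈ A, ∃ b ∈ B, g = a * b) : derivedSeries G 2 = ⊥ := by
  have hBA : ∀ g : G, ∃ b ∈ B, ∃ a ∈ A, g = b * a := fun g => by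
    obtain ⟨a, ha, b, hb, h⟩ := hAB g⁻¹
    exact ⟨b⁻¹, B.inv_mem hb, a⁻¹, A.inv_mem ha, by rw [← inv_inv g, h, mul_inv_rev]⟩
  have cA : ∀ x ∈ A, ∀ y ∈ A, x * y = y * x := fun x hx y hy =>
    congrArg Subtype.val (mul_comm' (⟨x, hx⟩ : A) ⟨y, hy⟩)
  have cB : ∀ x ∈ B, ∀ y ∈ B, x * y = y * x := fun x hx y hy =>
    congrArg Subtype.val (mul_comm' (⟨x, hx⟩ : B) ⟨y, hy⟩)
  set S : Set G := {z | ∃ a ∈ A, ∃ b ∈ B, z = ⁅a, b⁆} with hS
  have conjA : ∀ c ∈ A, ∀ a ∈ A, ∀ b ∈ B, ∃ b' ∈ B, (∃ a' ∈ A, c * b * c⁻¹ = b' * a') ∧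
      c * ⁅a, b⁆ * c⁻¹ = ⁅a, b'⁆ := by
    intro c hc a ha b hb
    obtain ⟨b', hb', a', ha', h⟩ := hBA (c * b * c⁻¹)
    refine ⟨b', hb', ⟨a', ha', h⟩, ?_⟩
    calc c * ⁅a, b⁆ * c⁻¹ = ⁅c * a * c⁻¹, c * b * c⁻¹⁆ := by simp only [commutatorElement_def]; group
      _ = ⁅a, b' * a'⁆ := by rw [cA c hc a ha, mul_inv_cancel_right, h]
      _ = _ := comm_right_of_commute (cA a ha a' ha')
  have conjB : ∀ d ∈ B, ∀ a ∈ A, ∀ b ∈ B, ∀ a' ∈ A, ∀ b' ∈ B, d * a * d⁻¹ = a' * b' →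
      d * ⁅a, b⁆ * d⁻¹ = ⁅a', b⁆ := by
    intro d hd a _ b hb a' _ b' hb' h
    calc d * ⁅a, b⁆ * d⁻¹ = ⁅d * a * d⁻¹, d * b * d⁻¹⁆ := by simp only [commutatorElement_def]; group
      _ = ⁅a' * b', b⁆ := by rw [cB d hd b hb, mul_inv_cancel_right, h]
      _ = _ := comm_left_of_commute (cB b' hb' b hb)
  have hcomm : ∀ x ∈ S, ∀ y ∈ S, x * y = y * x := by
    rintro x ⟨a, ha, b, hb, rfl⟩ y ⟨c, hc, d, hd, rfl⟩
    obtain ⟨a₃, ha₃, b₃, hb₃, h₃⟩ := hAB (d * a * d⁻¹)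
    obtain ⟨b₂, hb₂, a₂, ha₂, h₂⟩ := hBA (c * b * c⁻¹)
    have e1 : ∀ u ∈ A, c * ⁅u, b⁆ * c⁻¹ = ⁅u, b₂⁆ := by
      intro u hu
      calc c * ⁅u, b⁆ * c⁻¹ = ⁅c * u * c⁻¹, c * b * c⁻¹⁆ := by simp only [commutatorElement_def]; group
        _ = ⁅u, b₂ * a₂⁆ := by rw [cA c hc u hu, mul_inv_cancel_right, h₂]
        _ = _ := comm_right_of_commute (cA u hu a₂ ha₂)
    have f1 : c * (d * ⁅a, b⁆ * d⁻¹) * c⁻¹ = ⁅a₃, b₂⁆ := by
      rw [conjB d hd a ha b hb a₃ ha₃ b₃ hb₃ h₃, e1 a₃ ha₃]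
    have f2 : d * (c * ⁅a, b⁆ * c⁻¹) * d⁻¹ = ⁅a₃, b₂⁆ := by
      rw [e1 a ha, conjB d hd a ha b₂ hb₂ a₃ ha₃ b₃ hb₃ h₃]
    have h5 : (c * d) * ⁅a, b⁆ * (c * d)⁻¹ = (d * c) * ⁅a, b⁆ * (d * c)⁻¹ := by
      calc (c * d) * ⁅a, b⁆ * (c * d)⁻¹ = c * (d * ⁅a, b⁆ * d⁻¹) * c⁻¹ := by group
        _ = d * (c * ⁅a, b⁆ * c⁻¹) * d⁻¹ := f1.trans f2.symm
        _ = _ := by group
    -- the same identity for the conjugate `⁅a, b⁆` moved by `(d * c)⁻¹`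
    have key : ∀ z ∈ S, ((c * d) * z * (c * d)⁻¹ = (d * c) * z * (d * c)⁻¹) →
        ⁅c, d⁆ * ((d * c) * z * (d * c)⁻¹) * ⁅c, d⁆⁻¹ = (d * c) * z * (d * c)⁻¹ := by
      intro z _ hz
      conv_rhs => rw [← hz]
      simp only [commutatorElement_def]; group
    have hinv : ∀ z ∈ S, ∀ e : G, e * z * e⁻¹ ∈ S := by
      rintro _ ⟨u, hu, v, hv, rfl⟩ e
      obtain ⟨e₁, he₁, e₂, he₂, rfl⟩ := hAB e
      obtain ⟨u', hu', v', hv', h'⟩ := hAB (e₂ * u * e₂⁻¹)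
      have g1 := conjB e₂ he₂ u hu v hv u' hu' v' hv' h'
      obtain ⟨w, hw, -, g2⟩ := conjA e₁ he₁ u' hu' v hv
      refine ⟨u', hu', w, hw, ?_⟩
      calc e₁ * e₂ * ⁅u, v⁆ * (e₁ * e₂)⁻¹ = e₁ * (e₂ * ⁅u, v⁆ * e₂⁻¹) * e₁⁻¹ := by group
        _ = _ := by rw [g1, g2]
    -- apply the identity to the preimage of `⁅a, b⁆`
    obtain ⟨u, hu, v, hv, hz⟩ := hinv _ ⟨a, ha, b, hb, rfl⟩ (d * c)⁻¹
    obtain ⟨a₄, ha₄, b₄, hb₄, h₄⟩ := hAB (d * u * d⁻¹)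
    obtain ⟨b₅, hb₅, a₅, ha₅, h₅'⟩ := hBA (c * v * c⁻¹)
    have e2 : ∀ w ∈ A, c * ⁅w, v⁆ * c⁻¹ = ⁅w, b₅⁆ := by
      intro w hw
      calc c * ⁅w, v⁆ * c⁻¹ = ⁅c * w * c⁻¹, c * v * c⁻¹⁆ := by simp only [commutatorElement_def]; group
        _ = ⁅w, b₅ * a₅⁆ := by rw [cA c hc w hw, mul_inv_cancel_right, h₅']
        _ = _ := comm_right_of_commute (cA w hw a₅ ha₅)
    have g3 : (c * d) * ⁅u, v⁆ * (c * d)⁻¹ = (d * c) * ⁅u, v⁆ * (d * c)⁻¹ := by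
      calc (c * d) * ⁅u, v⁆ * (c * d)⁻¹ = c * (d * ⁅u, v⁆ * d⁻¹) * c⁻¹ := by group
        _ = ⁅a₄, b₅⁆ := by rw [conjB d hd u hu v hv a₄ ha₄ b₄ hb₄ h₄, e2 a₄ ha₄]
        _ = d * (c * ⁅u, v⁆ * c⁻¹) * d⁻¹ := by
          rw [e2 u hu, conjB d hd u hu b₅ hb₅ a₄ ha₄ b₄ hb₄ h₄]
        _ = _ := by group
    have h6 := key _ ⟨u, hu, v, hv, rfl⟩ g3
    rw [← hz] at h6
    have h7 : (d * c) * ((d * c)⁻¹ * ⁅a, b⁆ * ((d * c)⁻¹)⁻¹) * (d * c)⁻¹ = ⁅a, b⁆ := by group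
    rw [h7] at h6
    exact (mul_inv_eq_iff_eq_mul.1 h6).symm
  have hnorm : (closure S).Normal := by
    refine ⟨fun n hn g => ?_⟩
    induction hn using closure_induction with
    | mem z hz =>
      obtain ⟨a, ha, b, hb, rfl⟩ := hz
      obtain ⟨e₁, he₁, e₂, he₂, rfl⟩ := hAB g
      obtain ⟨a', ha', b', hb', h'⟩ := hAB (e₂ * a * e₂⁻¹)
      have g1 := conjB e₂ he₂ a ha b hb a' ha' b' hb' h'
      obtain ⟨w, hw, -, g2⟩ := conjA e₁ he₁ a' ha' b hb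
      refine subset_closure ⟨a', ha', w, hw, ?_⟩
      calc e₁ * e₂ * ⁅a, b⁆ * (e₁ * e₂)⁻¹ = e₁ * (e₂ * ⁅a, b⁆ * e₂⁻¹) * e₁⁻¹ := by group
        _ = _ := by rw [g1, g2]
    | one => simp
    | mul x y _ _ hx hy =>
      have : g * (x * y) * g⁻¹ = g * x * g⁻¹ * (g * y * g⁻¹) := by group
      rw [this]; exact mul_mem hx hy
    | inv x _ hx =>
      have : g * x⁻¹ * g⁻¹ = (g * x * g⁻¹)⁻¹ := by group
      rw [this]; exact inv_mem hx
  have hle : derivedSeries G 1 ≤ closure S := by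
    rw [derivedSeries_one, _root_.commutator_def, Subgroup.commutator_le]
    intro g _ h _
    rw [← QuotientGroup.eq_one_iff, ← QuotientGroup.mk'_apply, map_commutatorElement,
      commutatorElement_eq_one_iff_mul_comm]
    set π := QuotientGroup.mk' (closure S)
    have hπ : ∀ a ∈ A, ∀ b ∈ B, Commute (π a) (π b) := fun a ha b hb => by
      rw [Commute, SemiconjBy, ← commutatorElement_eq_one_iff_mul_comm, ← map_commutatorElement,
        QuotientGroup.mk'_apply, QuotientGroup.eq_one_iff]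
      exact subset_closure ⟨a, ha, b, hb, rfl⟩
    obtain ⟨a, ha, b, hb, rfl⟩ := hAB g
    obtain ⟨c, hc, d, hd, rfl⟩ := hAB h
    have k1 : Commute (π a) (π c) := by rw [Commute, SemiconjBy, ← map_mul, cA a ha c hc, map_mul]
    have k2 : Commute (π b) (π d) := by rw [Commute, SemiconjBy, ← map_mul, cB b hb d hd, map_mul]
    rw [map_mul, map_mul]
    exact ((k1.mul_right (hπ a ha d hd)).mul_left ((hπ c hc b hb).symm.mul_right k2))
  have hab : IsMulCommutative (closure S) := isMulCommutative_closure hcomm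
  rw [eq_bot_iff, derivedSeries_succ]
  refine (commutator_mono hle hle).trans (le_of_eq ?_)
  rw [commutator_eq_bot_iff_le_centralizer]
  exact le_centralizer (closure S)

end Cfsg.Lib.Solv
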