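import Cfsg.Agent.Lib.Core.PSolvable
import Cfsg.Agent.Lib.Core.Fitting
import Cfsg.Agent.Lib.Core.Smul

/-!
# Schmidt's theorem and minimal non-nilpotent groups
-/

set_option autoImplicit false

namespace Cfsg.Lib.Schmidt

open Subgroup
open scoped commutatorElement

universe u

variable {G : Type u} [Group G]

/-- Distinct maximal subgroups meet trivially when the group is simple and has all proper
subgroups nilpotent. -/
theorem inf_eq_bot [Finite G] [hs : IsSimpleGroup G]
    (h : ∀ H : Subgroup G, H ≠ ⊤ → Group.IsNilpotent H) {M N : Subgroup G} (hM : IsCoatom M)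
    (hN : IsCoatom N) (hne : M ≠ N) : M ⊓ N = ⊥ := by
  classical
  obtain ⟨⟨A, B⟩, ⟨hA, hB, hAB⟩, hmax⟩ := Set.Finite.exists_maximalFor
    (fun x : Subgroup G × Subgroup G => Nat.card ↥(x.1 ⊓ x.2))
    {x : Subgroup G × Subgroup G | IsCoatom x.1 ∧ IsCoatom x.2 ∧ x.1 ≠ x.2}
    (Set.toFinite _) ⟨(M, N), hM, hN, hne⟩
  suffices hbot : A ⊓ B = ⊥ by
    by_contra hMN
    have h1 : 1 < Nat.card ↥(M ⊓ N) := Finite.one_lt_card_iff_nontrivial.2 ((nontrivial_iff_ne_bot _).2 hMN)
    have h2 := hmax (j := (M, N)) ⟨hM, hN, hne⟩ (by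
      show Nat.card ↥(A ⊓ B) ≤ Nat.card ↥(M ⊓ N)
      rw [hbot, card_bot]; omega)
    simp only [hbot, card_bot] at h2
    omega
  by_contra hD
  set D := A ⊓ B
  have hgrow : ∀ X : Subgroup G, IsCoatom X → D ≤ X → D ≠ X →
      D < Subgroup.normalizer (D : Set G) ⊓ X := by
    intro X hX hDX hDne
    haveI : Group.IsNilpotent X := h X hX.1
    have hlt : D.subgroupOf X < ⊤ := lt_top_iff_ne_top.2 fun ht =>
      hDne (le_antisymm hDX (subgroupOf_eq_top.1 ht))
    have h1 := Group.normalizerCondition_of_isNilpotent _ hlt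
    refine lt_of_le_of_ne (le_inf le_normalizer hDX) fun he => h1.ne ?_
    refine le_antisymm le_normalizer fun x hx => ?_
    rw [mem_subgroupOf, he]
    refine ⟨mem_normalizer_iff.2 fun y => ⟨fun hy => ?_, fun hy => ?_⟩, x.2⟩
    · exact mem_subgroupOf.1 ((mem_normalizer_iff.1 hx (⟨y, hDX hy⟩ : X)).1 (mem_subgroupOf.2 hy))
    · have hyX : y ∈ X := by
        have := mul_mem (mul_mem (X.inv_mem x.2) (hDX hy)) x.2
        simpa [mul_assoc] using this
      exact mem_subgroupOf.1 ((mem_normalizer_iff.1 hx (⟨y, hyX⟩ : X)).2 (mem_subgroupOf.2 hy))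
  have hDA : D ≠ A := fun he => hAB (by
    have : A ≤ B := he.symm.le.trans inf_le_right
    rcases this.eq_or_lt with h' | h'
    · exact h'
    · exact absurd (hA.2 _ h') hB.1)
  have hDB : D ≠ B := fun he => hAB (by
    have : B ≤ A := he.symm.le.trans inf_le_left
    rcases this.eq_or_lt with h' | h'
    · exact h'.symm
    · exact absurd (hB.2 _ h') hA.1)
  have hNne : Subgroup.normalizer (D : Set G) ≠ ⊤ := fun ht => by
    rcases hs.eq_bot_or_eq_top_of_normal D (normalizer_eq_top_iff.1 ht) with h' | h'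
    · exact hD h'
    · exact hA.1 (top_le_iff.1 (h'.symm.le.trans inf_le_left))
  obtain ⟨L, hL, hNL⟩ := (IsCoatomic.eq_top_or_exists_le_coatom _).resolve_left hNne
  have key : ∀ X : Subgroup G, IsCoatom X → D ≤ X → D ≠ X → L = X := by
    intro X hX hDX hne'
    by_contra hLX
    have hlt : D < L ⊓ X := lt_of_lt_of_le (hgrow X hX hDX hne') (inf_le_inf_right X hNL)
    have h1 : Nat.card D < Nat.card ↥(L ⊓ X) := by
      have h0 := Set.ncard_lt_ncard (SetLike.coe_ssubset_coe.2 hlt) (Set.toFinite _)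
      rw [← Nat.card_coe_set_eq, ← Nat.card_coe_set_eq] at h0
      exact h0
    have h2 := hmax (j := (L, X)) ⟨hL, hX, hLX⟩ h1.le
    exact absurd h2 (not_le.2 h1)
  exact hAB ((key A hA inf_le_left hDA).symm.trans (key B hB inf_le_right hDB))

theorem false_of_simple [Finite G] [hs : IsSimpleGroup G]
    (h : ∀ H : Subgroup G, H ≠ ⊤ → Group.IsNilpotent H) (hns : ¬ Group.IsSolvable G) : False := by
  classical
  have hne_bot : ∀ M : Subgroup G, IsCoatom M → M ≠ ⊥ := by
    rintro M hM rfl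
    refine hns ?_
    obtain ⟨g, hg⟩ := exists_ne (1 : G)
    have hz : zpowers g = ⊤ := hM.2 _ (bot_lt_iff_ne_bot.2 (zpowers_eq_bot.not.2 hg))
    have hcomm : ∀ a b : G, a * b = b * a := fun a b => by
      obtain ⟨i, rfl⟩ := mem_zpowers_iff.1 (hz.symm ▸ mem_top a : a ∈ zpowers g)
      obtain ⟨j, rfl⟩ := mem_zpowers_iff.1 (hz.symm ▸ mem_top b : b ∈ zpowers g)
      rw [← zpow_add, ← zpow_add, add_comm]
    exact Group.isSolvable_of_comm hcomm
  have hnorm : ∀ M : Subgroup G, IsCoatom M → Subgroup.normalizer (M : Set G) = M := by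
    intro M hM
    rcases (le_normalizer (H := M)).eq_or_lt with h' | h'
    · exact h'.symm
    · rcases hs.eq_bot_or_eq_top_of_normal M (normalizer_eq_top_iff.1 (hM.2 _ h')) with h'' | h''
      · exact absurd h'' (hne_bot M hM)
      · exact absurd h'' hM.1
  have hconj : ∀ (M : Subgroup G), IsCoatom M → ∀ g : G,
      IsCoatom (M.map (MulAut.conj g).toMonoidHom) := fun M hM g =>
    ((MulEquiv.mapSubgroup (MulAut.conj g)).isCoatom_iff M).2 hM
  let φ : (M : Subgroup G) → (G ⧸ M) × {x : M // x ≠ 1} → {g : G // g ≠ 1} := fun M z =>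
    ⟨z.1.out * (z.2.1 : G) * z.1.out⁻¹, fun he => z.2.2 (Subtype.ext (by
      rwa [mul_inv_eq_one, mul_eq_left] at he))⟩
  have hmemφ : ∀ (M : Subgroup G) z, (φ M z : G) ∈ M.map (MulAut.conj z.1.out).toMonoidHom :=
    fun M z => ⟨(z.2.1 : G), z.2.1.2, rfl⟩
  have heq : ∀ (M N : Subgroup G), IsCoatom M → IsCoatom N → ∀ a b, φ M a = φ N b →
      M.map (MulAut.conj a.1.out).toMonoidHom = N.map (MulAut.conj b.1.out).toMonoidHom := by
    intro M N hM hN a b hab
    by_contra hne
    have h1 : (φ M a : G) ∈ M.map (MulAut.conj a.1.out).toMonoidHom ⊓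
        N.map (MulAut.conj b.1.out).toMonoidHom := ⟨hmemφ M a, hab ▸ hmemφ N b⟩
    rw [inf_eq_bot h (hconj M hM _) (hconj N hN _) hne, mem_bot] at h1
    exact (φ M a).2 h1
  have hinj : ∀ M : Subgroup G, IsCoatom M → Function.Injective (φ M) := by
    rintro M hM ⟨q, x⟩ ⟨r, y⟩ hqr
    have he := heq M M hM hM _ _ hqr
    simp only at he
    have hqr' : q = r := by
      rw [← QuotientGroup.out_eq' q, ← QuotientGroup.out_eq' r, QuotientGroup.eq]
      have h1 : q.out⁻¹ * r.out ∈ Subgroup.normalizer (M : Set G) := by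
        refine Cfsg.Lib.Core.mem_normalizer_iff_map_conj.2 ?_
        have h2 := congrArg (Subgroup.map (MulAut.conj (q.out⁻¹)).toMonoidHom) he.symm
        rw [Subgroup.map_map, Subgroup.map_map] at h2
        have e1 : (MulAut.conj q.out⁻¹).toMonoidHom.comp (MulAut.conj r.out).toMonoidHom =
            (MulAut.conj (q.out⁻¹ * r.out)).toMonoidHom := by
          ext x; simp [mul_assoc]
        have e2 : (MulAut.conj q.out⁻¹).toMonoidHom.comp (MulAut.conj q.out).toMonoidHom =
            MonoidHom.id G := by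
          ext x; simp [mul_assoc]
        rwa [e1, e2, Subgroup.map_id] at h2
      rwa [hnorm M hM] at h1
    subst hqr'
    refine Prod.ext rfl (Subtype.ext (Subtype.ext ?_))
    exact mul_left_cancel (mul_right_cancel (congrArg Subtype.val hqr))
  have hcard : ∀ M : Subgroup G, Nat.card {x : M // x ≠ 1} = Nat.card M - 1 := by
    intro M
    haveI : Fintype M := Fintype.ofFinite M
    simp [Nat.card_eq_fintype_card, Fintype.card_subtype_compl]
  have hG : Nat.card {g : G // g ≠ 1} = Nat.card G - 1 := by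
    haveI : Fintype G := Fintype.ofFinite G
    simp [Nat.card_eq_fintype_card, Fintype.card_subtype_compl]
  have hbig : ∀ M : Subgroup G, IsCoatom M →
      Nat.card G ≤ 2 * Nat.card ((G ⧸ M) × {x : M // x ≠ 1}) ∧
        Nat.card ((G ⧸ M) × {x : M // x ≠ 1}) + M.index = Nat.card G := by
    intro M hM
    rw [Nat.card_prod, hcard, ← index_eq_card]
    have hm : 1 < Nat.card M := Finite.one_lt_card_iff_nontrivial.2 ((nontrivial_iff_ne_bot _).2 (hne_bot M hM))
    have hmul := M.card_mul_index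
    obtain ⟨j, hj⟩ : ∃ j, Nat.card M = j + 2 := ⟨Nat.card M - 2, by omega⟩
    rw [hj] at hmul ⊢
    rw [show j + 2 - 1 = j + 1 from rfl, ← hmul]
    constructor <;> nlinarith
  obtain ⟨M, hM, -⟩ := (IsCoatomic.eq_top_or_exists_le_coatom (⊥ : Subgroup G)).resolve_left bot_ne_top
  obtain ⟨g, hg⟩ : ∃ g : {g : G // g ≠ 1}, g ∉ Set.range (φ M) := by
    by_contra hall
    push Not at hall
    have h1 := Nat.card_le_card_of_surjective (φ M) fun g => hall g
    rw [hG] at h1
    have h2 := (hbig M hM).2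
    have h3 : M.index ≠ 1 := fun hi => hM.1 (index_eq_one.1 hi)
    have h4 : M.index ≠ 0 := index_ne_zero_of_finite
    omega
  have hgne : zpowers (g : G) ≠ ⊤ := fun ht => hns (Group.isSolvable_of_comm fun a b => by
    obtain ⟨i, rfl⟩ := mem_zpowers_iff.1 (ht.symm ▸ mem_top a : a ∈ zpowers (g : G))
    obtain ⟨j, rfl⟩ := mem_zpowers_iff.1 (ht.symm ▸ mem_top b : b ∈ zpowers (g : G))
    rw [← zpow_add, ← zpow_add, add_comm])
  obtain ⟨N, hN, hgN⟩ := (IsCoatomic.eq_top_or_exists_le_coatom _).resolve_left hgne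
  have hnc : ∀ a : G, N ≠ M.map (MulAut.conj a).toMonoidHom := by
    intro a ha
    obtain ⟨x, hx, hxg⟩ := (ha ▸ hgN (mem_zpowers (g : G)) : (g : G) ∈ M.map (MulAut.conj a).toMonoidHom)
    obtain ⟨m, hm⟩ := QuotientGroup.mk_out_eq_mul M a
    refine hg ⟨((a : G ⧸ M), ⟨⟨(m : G)⁻¹ * x * m, mul_mem (mul_mem (M.inv_mem m.2) hx) m.2⟩, ?_⟩),
      Subtype.ext ?_⟩
    · intro he
      have h1 : (m : G)⁻¹ * x * m = 1 := congrArg Subtype.val he
      have h2 : x = 1 := by
        have h3 : x = (m : G) * ((m : G)⁻¹ * x * m) * (m : G)⁻¹ := by group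
        rw [h1] at h3
        simpa using h3
      exact g.2 (by rw [← hxg, h2]; exact map_one _)
    · show (a : G ⧸ M).out * ((m : G)⁻¹ * x * m) * (a : G ⧸ M).out⁻¹ = g
      rw [hm, ← hxg]
      simp [MulAut.conj_apply, mul_assoc]
  have hdis : ∀ a b, φ M a ≠ φ N b := by
    intro a b hab
    have he := heq M N hM hN a b hab
    refine hnc (b.1.out⁻¹ * a.1.out) ?_
    have h2 := congrArg (Subgroup.map (MulAut.conj (b.1.out⁻¹)).toMonoidHom) he.symm
    rw [Subgroup.map_map, Subgroup.map_map] at h2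
    have e1 : (MulAut.conj b.1.out⁻¹).toMonoidHom.comp (MulAut.conj a.1.out).toMonoidHom =
        (MulAut.conj (b.1.out⁻¹ * a.1.out)).toMonoidHom := by
      ext x; simp [mul_assoc]
    have e2 : (MulAut.conj b.1.out⁻¹).toMonoidHom.comp (MulAut.conj b.1.out).toMonoidHom =
        MonoidHom.id G := by
      ext x; simp [mul_assoc]
    rwa [e1, e2, Subgroup.map_id] at h2
  have htot := Nat.card_le_card_of_injective (Sum.elim (φ M) (φ N))
    ((hinj M hM).sumElim (hinj N hN) hdis)
  rw [Nat.card_sum, hG] at htot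
  have := (hbig M hM).1
  have := (hbig N hN).1
  have := Nat.card_pos (α := G)
  omega

theorem isSolvable_aux : ∀ (n : ℕ) (G : Type u) [Group G] [Finite G], Nat.card G ≤ n →
    (∀ H : Subgroup G, H ≠ ⊤ → Group.IsNilpotent H) → Group.IsSolvable G := by
  intro n
  induction n with
  | zero => intro G _ _ h; exact absurd h (Nat.not_le.2 Nat.card_pos)
  | succ n ih =>
    intro G _ _ hn h
    rcases subsingleton_or_nontrivial G with hG | hG
    · exact Group.isSolvable_of_comm fun a b => Subsingleton.elim _ _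
    by_contra hns
    by_cases hs : ∀ N : Subgroup G, N.Normal → N = ⊥ ∨ N = ⊤
    · haveI : IsSimpleGroup G := ⟨hs⟩
      exact false_of_simple h hns
    push Not at hs
    obtain ⟨N, hN, hb, ht⟩ := hs
    haveI := hN
    have hNn := h N ht
    haveI : Group.IsSolvable N := inferInstance
    haveI : Group.IsSolvable (G ⧸ N) := by
      refine ih _ (by have := Cfsg.Lib.Core.card_quotient_lt hb; omega) fun H hH => ?_
      have hne : H.comap (QuotientGroup.mk' N) ≠ ⊤ := fun he => hH (by
        rw [← map_comap_eq_self_of_surjective (QuotientGroup.mk'_surjective N) H, he,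
          map_top_of_surjective _ (QuotientGroup.mk'_surjective N)])
      have := Cfsg.Lib.Core.isNilpotent_map (h _ hne) (QuotientGroup.mk' N)
      rwa [map_comap_eq_self_of_surjective (QuotientGroup.mk'_surjective N)] at this
    exact hns (Group.isSolvable_of_ker_le_range N.subtype (QuotientGroup.mk' N)
      (by rw [QuotientGroup.ker_mk', range_subtype]))

/-- **Schmidt's theorem**. -/
theorem isSolvable [Finite G] (h : ∀ H : Subgroup G, H ≠ ⊤ → Group.IsNilpotent H) :
    Group.IsSolvable G :=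
  isSolvable_aux _ G le_rfl h

theorem nilpotent_of_ne_top [Finite G] (h : ∀ M : Subgroup G, IsCoatom M → Group.IsNilpotent M) :
    ∀ H : Subgroup G, H ≠ ⊤ → Group.IsNilpotent H := by
  intro H hH
  obtain ⟨M, hM, hle⟩ := (IsCoatomic.eq_top_or_exists_le_coatom H).resolve_left hH
  exact Cfsg.Lib.Core.isNilpotent_of_le hle (h M hM)

theorem exists_normal_prime_index [Finite G] [Group.IsSolvable G] [Nontrivial G] :
    ∃ M : Subgroup G, M.Normal ∧ M.index.Prime := by
  have hc : commutator G ≠ ⊤ := (Group.IsSolvable.commutator_lt_top_of_nontrivial G).ne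
  obtain ⟨M, hM, hle⟩ := (IsCoatomic.eq_top_or_exists_le_coatom (commutator G)).resolve_left hc
  haveI hMn : M.Normal := ⟨fun m hm g => by
    have h1 : ⁅g, m⁆ ∈ M := hle (commutator_mem_commutator (mem_top g) (mem_top m))
    have := mul_mem h1 hm
    simpa [commutatorElement_def] using this⟩
  refine ⟨M, hMn, ?_⟩
  rw [index_eq_card]
  haveI : Nontrivial (G ⧸ M) := QuotientGroup.nontrivial_iff.2 hM.1
  obtain ⟨p, hp, hd⟩ := Nat.exists_prime_and_dvd (Finite.one_lt_card (α := G ⧸ M)).ne'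
  haveI : Fact p.Prime := ⟨hp⟩
  obtain ⟨x, hx⟩ := exists_prime_orderOf_dvd_card' p hd
  obtain ⟨g, rfl⟩ := QuotientGroup.mk'_surjective M x
  have hgM : g ∉ M := fun hg => hp.ne_one (by
    rw [← hx, QuotientGroup.mk'_apply, (QuotientGroup.eq_one_iff g).2 hg, orderOf_one])
  have htop := hM.2 _ (left_lt_sup.2 fun hle' : zpowers g ≤ M => hgM (hle' (mem_zpowers g)))
  have hz : zpowers (QuotientGroup.mk' M g) = ⊤ := by
    have h1 := congrArg (Subgroup.map (QuotientGroup.mk' M)) htop
    rwa [Subgroup.map_sup, map_top_of_surjective _ (QuotientGroup.mk'_surjective M),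
      MonoidHom.map_zpowers, (Subgroup.map_eq_bot_iff _).2 (QuotientGroup.ker_mk' M).ge, bot_sup_eq] at h1
  rw [← card_top (G := G ⧸ M), ← hz, Nat.card_zpowers, hx]
  exact hp

/-- Elements of coprime prime-power order commute in a nilpotent group. -/
theorem commute_of_nilpotent [Finite G] {H : Subgroup G} (hH : Group.IsNilpotent H) {p q : ℕ}
    [hp : Fact p.Prime] [hq : Fact q.Prime] (hpq : p ≠ q) {x y : G} (hx : x ∈ H) (hy : y ∈ H)
    (hxp : IsPGroup p (zpowers x)) (hyq : IsPGroup q (zpowers y)) : Commute x y := by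
  have hxp' : IsPGroup p (zpowers (⟨x, hx⟩ : H)) := by
    have := hxp.comap_of_injective H.subtype H.subtype_injective
    refine this.to_le ?_
    rw [zpowers_le, mem_comap]
    exact mem_zpowers x
  have hyq' : IsPGroup q (zpowers (⟨y, hy⟩ : H)) := by
    have := hyq.comap_of_injective H.subtype H.subtype_injective
    refine this.to_le ?_
    rw [zpowers_le, mem_comap]
    exact mem_zpowers y
  obtain ⟨P, hP⟩ := hxp'.exists_le_sylow
  obtain ⟨Q, hQ⟩ := hyq'.exists_le_sylow
  have hn := (Group.isNilpotent_of_finite_tfae (G := H)).out 0 3 rfl rfl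
  have hPn := hn.mp hH p hp P
  have hQn := hn.mp hH q hq Q
  exact congrArg Subtype.val (commute_of_normal_of_disjoint _ _ hPn hQn
    (IsPGroup.disjoint_of_ne p q hpq _ _ P.2 Q.2) _ _ (hP (mem_zpowers _)) (hQ (mem_zpowers _)))

theorem isPGroup_zpowers_of_mem {p : ℕ} {P : Subgroup G} (hP : IsPGroup p P) {x : G} (hx : x ∈ P) :
    IsPGroup p (zpowers x) := hP.to_le (zpowers_le.2 hx)

/-- If every Sylow subgroup commutes elementwise with those for other primes, the group is
nilpotent. -/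
theorem isNilpotent_of_commute [Finite G]
    (h : ∀ p q : ℕ, p.Prime → q.Prime → p ≠ q → ∀ (P : Sylow p G) (Q : Sylow q G),
      ∀ x ∈ (P : Subgroup G), ∀ y ∈ (Q : Subgroup G), Commute x y) : Group.IsNilpotent G := by
  refine ((Group.isNilpotent_of_finite_tfae (G := G)).out 0 3 rfl rfl).mpr fun p hp P => ?_
  rw [← normalizer_eq_top_iff]
  by_contra hne
  obtain ⟨q, hq, hd⟩ := Nat.exists_prime_and_dvd (fun h1 => hne (index_eq_one.1 h1) :
    (Subgroup.normalizer ((P : Subgroup G) : Set G)).index ≠ 1)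
  haveI : Fact q.Prime := ⟨hq⟩
  have hqp : p ≠ q := by
    rintro rfl
    exact P.not_dvd_index (hd.trans (index_dvd_of_le le_normalizer))
  let Q : Sylow q G := default
  have hQ : (Q : Subgroup G) ≤ Subgroup.normalizer ((P : Subgroup G) : Set G) := fun y hy =>
    centralizer_le_normalizer _ (mem_centralizer_iff.2 fun x hx => h p q hp.out hq hqp P Q x hx y hy)
  exact Q.not_dvd_index (hd.trans (index_dvd_of_le hQ))

/-- The structure of minimal non-nilpotent groups. -/
theorem structure_thm [Finite G] (hn : ¬ Group.IsNilpotent G)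
    (h : ∀ H : Subgroup G, H ≠ ⊤ → Group.IsNilpotent H) :
    ∃ p q : ℕ, p.Prime ∧ q.Prime ∧ p ≠ q ∧ ∃ (P : Sylow p G) (Q : Sylow q G) (x : G),
      (P : Subgroup G) = zpowers x ∧ (Q : Subgroup G).Normal ∧ (P : Subgroup G) ⊔ Q = ⊤ := by
  haveI := isSolvable h
  haveI : Nontrivial G := by
    by_contra hc
    rw [not_nontrivial_iff_subsingleton] at hc
    exact hn inferInstance
  obtain ⟨M, hMn, hMp⟩ := exists_normal_prime_index (G := G)
  set p := M.index with hpdef
  haveI : Fact p.Prime := ⟨hMp⟩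
  have hMne : M ≠ ⊤ := fun ht => hMp.ne_one (by rw [hpdef, ht, index_top])
  have hMnil := h M hMne
  -- Sylow subgroups for primes other than p are normal
  have hnormal : ∀ q : ℕ, q.Prime → q ≠ p → ∀ Q : Sylow q G, (Q : Subgroup G).Normal := by
    intro q hq hqp Q
    haveI : Fact q.Prime := ⟨hq⟩
    have hQM : (Q : Subgroup G) ≤ M := by
      intro y hy
      obtain ⟨k, hk⟩ := Q.2 ⟨y, hy⟩
      rw [← QuotientGroup.eq_one_iff, ← orderOf_eq_one_iff]
      refine Nat.eq_one_of_dvd_coprimes ((Nat.coprime_primes hq hMp).2 hqp |>.pow_left k) ?_ ?_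
      · refine orderOf_dvd_of_pow_eq_one ?_
        have h1 : y ^ q ^ k = 1 := congrArg Subtype.val hk
        rw [← QuotientGroup.mk_pow, h1, QuotientGroup.mk_one]
      · exact orderOf_dvd_natCard _
    have hn' := ((Group.isNilpotent_of_finite_tfae (G := M)).out 0 3 rfl rfl).mp hMnil q ⟨hq⟩
      (Q.subtype hQM)
    haveI := Sylow.characteristic_of_normal (Q.subtype hQM) hn'
    have := Cfsg.Lib.Core.normal_map_char_of_normal (N := M) ((Q.subtype hQM : Subgroup M))
    rwa [Sylow.coe_subtype, map_subgroupOf_eq_of_le hQM] at this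
  let P : Sylow p G := default
  obtain ⟨q, hq, hqp, Q, x, hx, y, hy, hxy⟩ : ∃ q : ℕ, q.Prime ∧ q ≠ p ∧ ∃ Q : Sylow q G,
      ∃ x ∈ (P : Subgroup G), ∃ y ∈ (Q : Subgroup G), ¬ Commute x y := by
    by_contra hc
    push Not at hc
    refine hn (isNilpotent_of_commute fun a b ha hb hab S T s hs t ht => ?_)
    haveI : Fact a.Prime := ⟨ha⟩
    haveI : Fact b.Prime := ⟨hb⟩
    by_cases hap : a = p
    · subst hap
      obtain ⟨g, hg⟩ := MulAction.exists_smul_eq G P S
      have hTn := hnormal b hb (Ne.symm hab) T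
      rw [← hg, Sylow.coe_subgroup_smul] at hs
      obtain ⟨s', hs', rfl⟩ := hs
      have ht' : g⁻¹ * t * g⁻¹⁻¹ ∈ (T : Subgroup G) := hTn.conj_mem t ht _
      have h1 := (hc b hb (Ne.symm hab) T s' hs' _ ht').map (MulAut.conj g).toMonoidHom
      simpa [mul_assoc] using h1
    · by_cases hbp : b = p
      · subst hbp
        obtain ⟨g, hg⟩ := MulAction.exists_smul_eq G P T
        have hSn := hnormal a ha hab S
        rw [← hg, Sylow.coe_subgroup_smul] at ht
        obtain ⟨t', ht', rfl⟩ := ht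
        have hs' : g⁻¹ * s * g⁻¹⁻¹ ∈ (S : Subgroup G) := hSn.conj_mem s hs _
        have h1 := ((hc a ha hab S t' ht' _ hs').symm).map (MulAut.conj g).toMonoidHom
        simpa [mul_assoc] using h1
      · exact commute_of_normal_of_disjoint _ _ (hnormal a ha hap S) (hnormal b hb hbp T)
          (IsPGroup.disjoint_of_ne a b hab _ _ S.2 T.2) s t hs ht
  haveI : Fact q.Prime := ⟨hq⟩
  haveI hQn := hnormal q hq hqp Q
  have htop : zpowers x ⊔ (Q : Subgroup G) = ⊤ := by
    by_contra hne
    exact hxy (commute_of_nilpotent (h _ hne) (Ne.symm hqp) (mem_sup_left (mem_zpowers x))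
      (mem_sup_right hy) (isPGroup_zpowers_of_mem P.2 hx) (isPGroup_zpowers_of_mem Q.2 hy))
  have hPx : (P : Subgroup G) = zpowers x := by
    refine le_antisymm (fun z hz => ?_) (zpowers_le.2 hx)
    obtain ⟨a, ha, b, hb, rfl⟩ := mem_sup_of_normal_right.1 (htop.symm ▸ mem_top z : z ∈ zpowers x ⊔ (Q : Subgroup G))
    have hb' : b ∈ (P : Subgroup G) ⊓ Q :=
      ⟨by
        have h9 := mul_mem (inv_mem (zpowers_le.2 hx ha)) hz
        rwa [inv_mul_cancel_left] at h9, hb⟩
    rw [(IsPGroup.disjoint_of_ne p q (Ne.symm hqp) _ _ P.2 Q.2).eq_bot, mem_bot] at hb'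
    rwa [hb', mul_one]
  exact ⟨p, q, hMp, hq, Ne.symm hqp, P, Q, x, hPx, hQn, hPx ▸ htop⟩

end Cfsg.Lib.Schmidt
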