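import Cfsg.Agent.Lib.Core.Fitting
import Cfsg.Agent.Lib.Solv.Frattini

/-!
Fitting length, by chains of normal subgroups with nilpotent factors.
-/

set_option autoImplicit false

namespace Cfsg.Lib.Solv

open Subgroup

variable {G : Type*} [Group G]

theorem map_lcs {K : Type*} [Group K] (f : G →* K) (S : Subgroup G) :
    ∀ k, (S.lowerCentralSeries k).map f = (S.map f).lowerCentralSeries k := by
  intro k
  induction k with
  | zero => rfl
  | succ k ih => rw [Subgroup.lowerCentralSeries_succ, map_commutator, ih]; rfl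

theorem lcs_mono {S T : Subgroup G} (h : S ≤ T) :
    ∀ k, S.lowerCentralSeries k ≤ T.lowerCentralSeries k := by
  intro k
  induction k with
  | zero => exact h
  | succ k ih =>
    rw [Subgroup.lowerCentralSeries_succ, Subgroup.lowerCentralSeries_succ]
    exact commutator_mono ih h

/-- `G` has Fitting length at most `n`. -/
def FLe (n : ℕ) (G : Type*) [Group G] : Prop :=
  ∃ F : ℕ → Subgroup G, F 0 = ⊥ ∧ F n = ⊤ ∧ Monotone F ∧ (∀ i, (F i).Normal) ∧
    ∀ i, ∃ k, (F (i + 1)).lowerCentralSeries k ≤ F i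

theorem fle_iff_fin (n : ℕ) :
    FLe n G ↔ ∃ F : Fin (n + 1) → Subgroup G, F 0 = ⊥ ∧ F (Fin.last n) = ⊤ ∧ Monotone F ∧
      (∀ i, (F i).Normal) ∧ ∀ i : Fin n, ∃ k : ℕ, (F i.succ).lowerCentralSeries k ≤ F i.castSucc := by
  constructor
  · rintro ⟨F, h0, hn, hm, hN, hk⟩
    exact ⟨fun i => F i, h0, hn, fun i j hij => hm hij, fun i => hN i, fun i => hk i⟩
  · rintro ⟨F, h0, hn, hm, hN, hk⟩
    refine ⟨fun i => F ⟨min i n, by omega⟩, ?_, ?_, ?_, fun i => hN _, fun i => ?_⟩
    · exact (congrArg F (Fin.ext (Nat.zero_min n))).trans h0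
    · exact (congrArg F (Fin.ext (show min n n = n from min_self n))).trans hn
    · intro i j hij
      exact hm (Fin.mk_le_mk.2 (by omega))
    · rcases Nat.lt_or_ge i n with h | h
      · obtain ⟨k, hk'⟩ := hk ⟨i, h⟩
        refine ⟨k, ?_⟩
        have e1 : F ⟨min (i + 1) n, by omega⟩ = F (Fin.succ ⟨i, h⟩) :=
          congrArg F (Fin.ext (Nat.min_eq_left h))
        have e2 : F ⟨min i n, by omega⟩ = F (Fin.castSucc ⟨i, h⟩) :=
          congrArg F (Fin.ext (Nat.min_eq_left h.le))
        show (F _).lowerCentralSeries k ≤ F _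
        rw [e1, e2]; exact hk'
      · refine ⟨0, le_of_eq ?_⟩
        show F _ = F _
        congr 1
        exact Fin.ext (by simp only; omega)

theorem FLe.mono {m n : ℕ} (h : FLe m G) (hmn : m ≤ n) : FLe n G := by
  obtain ⟨F, h0, hn, hm, hN, hk⟩ := h
  exact ⟨F, h0, top_le_iff.1 (hn ▸ hm hmn), hm, hN, hk⟩

theorem FLe.of_injective {n : ℕ} {K : Type*} [Group K] (f : K →* G) (hf : Function.Injective f)
    (h : FLe n G) : FLe n K := by
  obtain ⟨F, h0, hn, hm, hN, hk⟩ := h
  refine ⟨fun i => (F i).comap f, ?_, by simp only [hn, comap_top], fun i j hij => comap_mono (hm hij),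
    fun i => (hN i).comap f, fun i => ?_⟩
  · simp only [h0, MonoidHom.comap_bot, (MonoidHom.ker_eq_bot_iff f).2 hf]
  · obtain ⟨k, hk'⟩ := hk i
    refine ⟨k, map_le_iff_le_comap.1 ?_⟩
    rw [map_lcs]
    exact (lcs_mono (map_comap_le f _) k).trans hk'

theorem FLe.of_surjective {n : ℕ} {K : Type*} [Group K] (f : G →* K) (hf : Function.Surjective f)
    (h : FLe n G) : FLe n K := by
  obtain ⟨F, h0, hn, hm, hN, hk⟩ := h
  refine ⟨fun i => (F i).map f, by simp only [h0, Subgroup.map_bot], ?_, fun i j hij => map_mono (hm hij),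
    fun i => (hN i).map f hf, fun i => ?_⟩
  · simp only [hn, map_top_of_surjective f hf]
  · obtain ⟨k, hk'⟩ := hk i
    exact ⟨k, by rw [← map_lcs]; exact map_mono hk'⟩

theorem FLe.of_equiv {n : ℕ} {K : Type*} [Group K] (e : G ≃* K) (h : FLe n G) : FLe n K :=
  h.of_surjective e.toMonoidHom e.surjective

theorem fle_zero_iff : FLe 0 G ↔ Subsingleton G := by
  constructor
  · rintro ⟨F, h0, hn, -⟩
    exact subsingleton_iff.1 (subsingleton_of_bot_eq_top (h0.symm.trans hn))
  · intro h
    exact ⟨fun _ => ⊥, rfl, Subsingleton.elim _ _, monotone_const, fun _ => inferInstance,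
      fun _ => ⟨0, le_rfl⟩⟩

theorem exists_fle_of_isSolvable (h : Group.IsSolvable G) : ∃ n, FLe n G := by
  obtain ⟨n, hn⟩ := h.solvable
  refine ⟨n, fun i => derivedSeries G (n - i), by simpa using hn, by simp, ?_,
    fun i => inferInstance, fun i => ?_⟩
  · intro i j hij
    exact derivedSeries_antitone G (by omega)
  · rcases Nat.lt_or_ge i n with h | h
    · refine ⟨1, le_of_eq ?_⟩
      show _ = derivedSeries G (n - i)
      rw [show n - i = (n - (i + 1)) + 1 by omega]
      rfl
    · exact ⟨0, le_of_eq (by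
        show derivedSeries G (n - (i + 1)) = derivedSeries G (n - i)
        rw [show n - (i + 1) = n - i by omega])⟩

theorem FLe.extension {n : ℕ} (N : Subgroup G) [hN : N.Normal] (hnil : Group.IsNilpotent N)
    (h : FLe n (G ⧸ N)) : FLe (n + 1) G := by
  obtain ⟨F, h0, hn, hm, hFN, hk⟩ := h
  let F' : ℕ → Subgroup G
    | 0 => ⊥
    | i + 1 => (F i).comap (QuotientGroup.mk' N)
  refine ⟨F', rfl, ?_, monotone_nat_of_le_succ fun i => ?_, fun i => ?_, fun i => ?_⟩
  · show (F n).comap _ = ⊤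
    rw [hn, comap_top]
  · cases i with
    | zero => exact bot_le
    | succ i => exact comap_mono (hm i.le_succ)
  · cases i with
    | zero => exact inferInstanceAs (⊥ : Subgroup G).Normal
    | succ i => exact (hFN i).comap _
  · cases i with
    | zero =>
      obtain ⟨k, hk'⟩ := (Subgroup.isNilpotent_iff_lowerCentralSeries _).1 hnil
      refine ⟨k, le_of_eq ?_⟩
      show ((F 0).comap (QuotientGroup.mk' N)).lowerCentralSeries k = ⊥
      rw [h0, MonoidHom.comap_bot, QuotientGroup.ker_mk', hk']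
    | succ i =>
      obtain ⟨k, hk'⟩ := hk i
      refine ⟨k, map_le_iff_le_comap.1 ?_⟩
      rw [map_lcs]
      exact (lcs_mono (map_comap_le _ _) k).trans hk'

theorem FLe.one_of_isNilpotent (h : Group.IsNilpotent G) : FLe 1 G := by
  refine FLe.extension (⊤ : Subgroup G) (Group.isNilpotent_top.2 h) (fle_zero_iff.2 ?_)
  exact QuotientGroup.subsingleton_quotient_top

theorem FLe.quotient_fitting {n : ℕ} (h : FLe (n + 1) G) [(Cfsg.fittingSubgroup G).Normal] :
    FLe n (G ⧸ Cfsg.fittingSubgroup G) := by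
  obtain ⟨F, h0, hn, hm, hN, hk⟩ := h
  refine ⟨fun i => (F (i + 1)).map (QuotientGroup.mk' _), ?_, ?_,
    fun i j hij => map_mono (hm (by omega)),
    fun i => (hN _).map _ (QuotientGroup.mk'_surjective _), fun i => ?_⟩
  · show Subgroup.map _ _ = ⊥
    rw [Subgroup.map_eq_bot_iff, QuotientGroup.ker_mk']
    obtain ⟨k, hk'⟩ := hk 0
    refine Core.le_fittingSubgroup' (hN 1) ((Subgroup.isNilpotent_iff_lowerCentralSeries _).2 ⟨k, ?_⟩)
    exact le_bot_iff.1 (h0 ▸ hk')
  · simp only [hn, map_top_of_surjective _ (QuotientGroup.mk'_surjective _)]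
  · obtain ⟨k, hk'⟩ := hk (i + 1)
    exact ⟨k, by rw [← map_lcs]; exact map_mono hk'⟩

theorem FLe.prod {n : ℕ} {K : Type*} [Group K] (hG : FLe n G) (hK : FLe n K) : FLe n (G × K) := by
  obtain ⟨F, h0, hn, hm, hN, hk⟩ := hG
  obtain ⟨E, e0, en, em, eN, ek⟩ := hK
  refine ⟨fun i => (F i).prod (E i), ?_, ?_, fun i j hij => prod_mono (hm hij) (em hij), fun i => ?_,
    fun i => ?_⟩
  · simp only [h0, e0, bot_prod_bot]
  · simp only [hn, en, top_prod_top]
  · have := hN i; have := eN i
    exact Subgroup.prod_normal _ _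
  · obtain ⟨k, hk'⟩ := hk i
    obtain ⟨l, hl'⟩ := ek i
    refine ⟨max k l, fun x hx => mem_prod.2 ⟨hk' ?_, hl' ?_⟩⟩
    · refine Subgroup.lowerCentralSeries_antitone _ (le_max_left k l) ?_
      have h := mem_map_of_mem (MonoidHom.fst G K) hx
      rw [map_lcs] at h
      refine lcs_mono ?_ _ h
      rintro _ ⟨y, hy, rfl⟩
      exact (mem_prod.1 hy).1
    · refine Subgroup.lowerCentralSeries_antitone _ (le_max_right k l) ?_
      have h := mem_map_of_mem (MonoidHom.snd G K) hx
      rw [map_lcs] at h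
      refine lcs_mono ?_ _ h
      rintro _ ⟨y, hy, rfl⟩
      exact (mem_prod.1 hy).2

theorem FLe.of_inf_eq_bot {n : ℕ} (M N : Subgroup G) [M.Normal] [N.Normal] (hMN : M ⊓ N = ⊥)
    (h1 : FLe n (G ⧸ M)) (h2 : FLe n (G ⧸ N)) : FLe n G := by
  refine (h1.prod h2).of_injective ((QuotientGroup.mk' M).prod (QuotientGroup.mk' N)) ?_
  rw [← MonoidHom.ker_eq_bot_iff, MonoidHom.ker_prod, QuotientGroup.ker_mk', QuotientGroup.ker_mk',
    hMN]

theorem FLe.of_quotient_frattini [Finite G] {n : ℕ} (h : FLe n (G ⧸ frattini G)) : FLe n G := by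
  cases n with
  | zero =>
    have := fle_zero_iff.1 h
    have h1 : frattini G = ⊤ := (QuotientGroup.subsingleton_iff).1 this
    refine fle_zero_iff.2 (subsingleton_iff.1 (subsingleton_of_bot_eq_top ?_))
    exact frattini_nongenerating (K := (⊥ : Subgroup G)) (by rw [h1, sup_top_eq])
  | succ n =>
    obtain ⟨F, h0, hn, hm, hN, hk⟩ := h
    let F' : ℕ → Subgroup G
      | 0 => ⊥
      | i + 1 => (F (i + 1)).comap (QuotientGroup.mk' (frattini G))
    refine ⟨F', rfl, ?_, monotone_nat_of_le_succ fun i => ?_, fun i => ?_, fun i => ?_⟩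
    · show (F (n + 1)).comap _ = ⊤
      rw [hn, comap_top]
    · cases i with
      | zero => exact bot_le
      | succ i => exact comap_mono (hm (Nat.le_succ _))
    · cases i with
      | zero => exact inferInstanceAs (⊥ : Subgroup G).Normal
      | succ i => exact (hN (i + 1)).comap _
    · cases i with
      | zero =>
        obtain ⟨k, hk'⟩ := hk 0
        have := (hN 1).comap (QuotientGroup.mk' (frattini G))
        have hnil : Group.IsNilpotent ((F 1).comap (QuotientGroup.mk' (frattini G))) := by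
          refine @isNilpotent_of_map_of_le_frattini _ _ _ _ _ _ (QuotientGroup.mk' (frattini G)) (QuotientGroup.mk'_surjective (frattini G))
            (by rw [QuotientGroup.ker_mk']) _ this ?_
          rw [map_comap_eq_self_of_surjective (QuotientGroup.mk'_surjective _)]
          exact (Subgroup.isNilpotent_iff_lowerCentralSeries _).2 ⟨k, le_bot_iff.1 (h0 ▸ hk')⟩
        obtain ⟨l, hl⟩ := (Subgroup.isNilpotent_iff_lowerCentralSeries _).1 hnil
        exact ⟨l, le_of_eq hl⟩
      | succ i =>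
        obtain ⟨k, hk'⟩ := hk (i + 1)
        refine ⟨k, map_le_iff_le_comap.1 ?_⟩
        rw [map_lcs]
        exact (lcs_mono (map_comap_le _ _) k).trans hk'

/-- `G ⧸ O_q(G)` has Fitting length at most `n`. -/
def FQ (q n : ℕ) (G : Type*) [Group G] : Prop := FLe n (G ⧸ Cfsg.pCore q G)

theorem FQ.mono {q m n : ℕ} (h : FQ q m G) (hmn : m ≤ n) : FQ q n G := FLe.mono h hmn

theorem FQ.of_surjective [Finite G] {q n : ℕ} {K : Type*} [Group K] (f : G →* K) (hf : Function.Surjective f)
    (h : FQ q n G) : FQ q n K := by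
  refine FLe.of_surjective (QuotientGroup.map _ _ f (map_le_iff_le_comap.1 (Core.map_pCore_le f hf))) ?_ h
  intro x
  obtain ⟨y, rfl⟩ := QuotientGroup.mk'_surjective _ x
  obtain ⟨g, rfl⟩ := hf y
  exact ⟨g, rfl⟩

theorem FQ.of_injective [Finite G] {q n : ℕ} [Fact q.Prime] {K : Type*} [Group K] [Finite K] (f : K →* G)
    (hf : Function.Injective f) (h : FQ q n G) : FQ q n K := by
  have hn : ((Cfsg.pCore q G).comap f).Normal := (inferInstance : (Cfsg.pCore q G).Normal).comap f
  have hle : (Cfsg.pCore q G).comap f ≤ Cfsg.pCore q K :=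
    Core.le_pCore' hn ((Core.pCore_isPGroup q G).comap_of_injective f hf)
  have h1 : FLe n (K ⧸ (Cfsg.pCore q G).comap f) := by
    refine FLe.of_injective (QuotientGroup.map _ _ f le_rfl) ?_ h
    intro x y
    obtain ⟨a, rfl⟩ := QuotientGroup.mk'_surjective _ x
    obtain ⟨b, rfl⟩ := QuotientGroup.mk'_surjective _ y
    intro hab
    have hab' : f a⁻¹ * f b ∈ Cfsg.pCore q G := by
      have h0 : (QuotientGroup.mk (f a) : G ⧸ Cfsg.pCore q G) = QuotientGroup.mk (f b) := hab
      simpa using QuotientGroup.eq.1 h0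
    exact QuotientGroup.eq.2 (by simpa using hab')
  refine FLe.of_surjective (QuotientGroup.map _ _ (MonoidHom.id K) hle) ?_ h1
  intro x
  obtain ⟨y, rfl⟩ := QuotientGroup.mk'_surjective _ x
  exact ⟨y, rfl⟩

theorem FLe.fq {n : ℕ} (h : FLe n G) (q : ℕ) : FQ q n G :=
  h.of_surjective _ (QuotientGroup.mk'_surjective _)

theorem FQ.fle {q n : ℕ} (h : FQ q n G) (hq : Cfsg.pCore q G = ⊥) : FLe n G :=
  FLe.of_equiv ((QuotientGroup.quotientMulEquivOfEq hq).trans QuotientGroup.quotientBot) h

/-- `G ⧸ O_q(G)` has Fitting length at least `m`. -/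
def Long (q m : ℕ) (G : Type*) [Group G] : Prop := ∀ j, j < m → ¬ FQ q j G

theorem Long.mono {q m n : ℕ} (h : Long q n G) (hmn : m ≤ n) : Long q m G :=
  fun j hj => h j (hj.trans_le hmn)

theorem Long.of_surjective [Finite G] {q m : ℕ} {K : Type*} [Group K] (f : G →* K)
    (hf : Function.Surjective f) (h : Long q m K) : Long q m G :=
  fun j hj hG => h j hj (hG.of_surjective f hf)

theorem Long.of_injective [Finite G] {q m : ℕ} [Fact q.Prime] {K : Type*} [Group K] [Finite K]
    (f : K →* G) (hf : Function.Injective f) (h : Long q m K) : Long q m G :=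
  fun j hj hG => h j hj (hG.of_injective f hf)

theorem fq_of_not_long {q m : ℕ} (h : ¬ Long q (m + 1) G) : FQ q m G := by
  simp only [Long, not_forall, not_not] at h
  obtain ⟨j, hj, hG⟩ := h
  exact hG.mono (by omega)

end Cfsg.Lib.Solv
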