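import Cfsg.Agent.Lib.Solv.Supersolvable
import Cfsg.Agent.Lib.Solv.GaschutzAbelian
import Cfsg.Agent.Lib.Solv.Nilpotent
import Cfsg.Agent.Lib.Core.PSolvable
import Cfsg.Agent.Lib.Coprime.Action
import Cfsg.Agent.Lib.PGroup.Basic
import Cfsg.Agent.Lib.Local.Gaschutz

/-!
# Huppert's theorem: prime index maximal subgroups imply supersolvability
-/

set_option autoImplicit false

namespace Cfsg.Lib.Huppert

open Subgroup Cfsg

universe u

variable {G : Type u} [Group G]

/-- Every maximal subgroup has prime index. -/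
def MaxPrime (G : Type u) [Group G] : Prop := ∀ M : Subgroup G, IsCoatom M → M.index.Prime

theorem maxPrime_of_surjective {G' : Type*} [Group G'] (h : MaxPrime G) (f : G →* G')
    (hf : Function.Surjective f) : MaxPrime G' := fun M hM => by
  have := h _ (isCoatom_comap_of_surjective hf hM)
  rwa [index_comap_of_surjective M hf] at this

theorem index_modEq_one [Finite G] {p : ℕ} [Fact p.Prime] (P : Sylow p G) {M : Subgroup G}
    (hM : normalizer ((P : Subgroup G) : Set G) ≤ M) : M.index ≡ 1 [MOD p] := by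
  have hPM : (P : Subgroup G) ≤ M := le_normalizer.trans hM
  set N := normalizer ((P : Subgroup G) : Set G)
  have h1 : N.index ≡ 1 [MOD p] := by
    have := card_sylow_modEq_one p G
    rwa [P.card_eq_index_normalizer] at this
  have h2 : (N.subgroupOf M) = normalizer (((P.subtype hPM : Sylow p M) : Subgroup M) : Set M) := by
    ext x
    rw [mem_subgroupOf, mem_normalizer_iff, mem_normalizer_iff]
    constructor
    · intro hx y
      exact hx y
    · intro hx y
      constructor
      · intro hy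
        exact (hx ⟨y, hPM hy⟩).1 hy
      · intro hy
        have hyM : y ∈ M := by
          have := mul_mem (mul_mem (inv_mem x.2) (hPM hy)) x.2
          simpa [mul_assoc] using this
        exact (hx ⟨y, hyM⟩).2 hy
  have h3 : N.relIndex M ≡ 1 [MOD p] := by
    have := card_sylow_modEq_one p M
    rw [(P.subtype hPM).card_eq_index_normalizer] at this
    rw [relIndex, h2]
    exact this
  have h4 := relIndex_mul_index hM
  calc M.index = 1 * M.index := (one_mul _).symm
    _ ≡ N.relIndex M * M.index [MOD p] := (h3.symm).mul_right _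
    _ = N.index := h4
    _ ≡ 1 [MOD p] := h1

theorem sylow_normal [Finite G] (h : MaxPrime G) {p : ℕ} [Fact p.Prime]
    (hmax : ∀ q : ℕ, q.Prime → q ∣ Nat.card G → q ≤ p) (P : Sylow p G) :
    (P : Subgroup G).Normal := by
  by_contra hn
  obtain ⟨M, hM, hle⟩ := (eq_top_or_exists_le_coatom (normalizer ((P : Subgroup G) : Set G))).resolve_left
    (fun ht => hn (normalizer_eq_top_iff.1 ht))
  have hq := h M hM
  have h1 := index_modEq_one P hle
  have hqp : M.index ≤ p := hmax _ hq M.index_dvd_card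
  rcases lt_or_eq_of_le hqp with hlt | heq
  · have := Nat.ModEq.eq_of_lt_of_lt h1 hlt (Fact.out : p.Prime).one_lt
    exact hq.ne_one this
  · rw [heq] at h1
    have h2 : p % p = 1 % p := h1
    rw [Nat.mod_self, Nat.mod_eq_of_lt (Fact.out : p.Prime).one_lt] at h2
    omega

theorem exists_max_prime [Finite G] [Nontrivial G] :
    ∃ p : ℕ, p.Prime ∧ p ∣ Nat.card G ∧ ∀ q : ℕ, q.Prime → q ∣ Nat.card G → q ≤ p := by
  have hne : (Nat.card G).primeFactors.Nonempty :=
    Nat.nonempty_primeFactors.2 Finite.one_lt_card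
  obtain ⟨p, hp, hmax⟩ := (Nat.card G).primeFactors.exists_max_image id hne
  rw [Nat.mem_primeFactors] at hp
  exact ⟨p, hp.1, hp.2.1, fun q hq hd => hmax q (Nat.mem_primeFactors.2 ⟨hq, hd, hp.2.2⟩)⟩

theorem isSolvable [Finite G] (h : MaxPrime G) : Group.IsSolvable G := by
  induction hn : Nat.card G using Nat.strong_induction_on generalizing G with
  | _ n ih =>
    subst hn
    cases subsingleton_or_nontrivial G
    · infer_instance
    obtain ⟨p, hp, hd, hmax⟩ := exists_max_prime (G := G)
    haveI : Fact p.Prime := ⟨hp⟩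
    obtain ⟨P⟩ : Nonempty (Sylow p G) := inferInstance
    haveI := sylow_normal h hmax P
    haveI : Group.IsNilpotent (P : Subgroup G) := P.2.isNilpotent
    haveI : Group.IsSolvable (G ⧸ (P : Subgroup G)) :=
      ih _ (Cfsg.Lib.Core.card_quotient_lt fun hb => by
          have := P.dvd_card_of_dvd_card hd
          rw [hb, card_bot, Nat.dvd_one] at this
          exact hp.ne_one this)
        (maxPrime_of_surjective h _ (QuotientGroup.mk'_surjective _)) rfl
    exact Group.isSolvable_of_ker_le_range (P : Subgroup G).subtype (QuotientGroup.mk' (P : Subgroup G)) (by rw [QuotientGroup.ker_mk', range_subtype])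

/-- For a normal Sylow subgroup `P`, the part of `Φ(G)` inside `P` is `Φ(P)`. -/
theorem frattini_inf_le [Finite G] {p : ℕ} [Fact p.Prime] (P : Sylow p G)
    [hPn : (P : Subgroup G).Normal] :
    (P : Subgroup G) ⊓ frattini G ≤ (frattini (P : Subgroup G)).map (P : Subgroup G).subtype := by
  set Φ := (frattini (P : Subgroup G)).map (P : Subgroup G).subtype
  haveI : Φ.Normal := Cfsg.Lib.Core.normal_map_char_of_normal _
  set π := QuotientGroup.mk' Φ
  have hπ : Function.Surjective π := QuotientGroup.mk'_surjective Φ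
  set Q := (P : Subgroup G).map π
  set D := ((P : Subgroup G) ⊓ frattini G).map π
  haveI hQn : Q.Normal := hPn.map π hπ
  haveI : ((P : Subgroup G) ⊓ frattini G).Normal := inferInstance
  haveI hDn : D.Normal := Subgroup.Normal.map inferInstance π hπ
  have hDQ : D ≤ Q := map_mono inf_le_left
  have hQel : (∀ x ∈ Q, ∀ y ∈ Q, x * y = y * x) ∧ ∀ x ∈ Q, x ^ p = 1 := by
    refine ⟨?_, ?_⟩
    · rintro _ ⟨a, ha, rfl⟩ _ ⟨b, hb, rfl⟩
      rw [← map_mul, ← map_mul]
      refine QuotientGroup.eq.2 ⟨⟨(a * b)⁻¹ * (b * a), mul_mem (inv_mem (mul_mem ha hb)) (mul_mem hb ha)⟩, ?_, rfl⟩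
      refine Cfsg.Lib.PGroup.commutator_le_frattini P.2 ?_
      have h1 := commutator_mem_commutator (H₁ := (⊤ : Subgroup (P : Subgroup G))) (H₂ := ⊤)
        (mem_top ((⟨b, hb⟩ : (P : Subgroup G))⁻¹)) (mem_top ((⟨a, ha⟩ : (P : Subgroup G))⁻¹))
      rw [_root_.commutator_def]
      convert h1 using 1
      exact Subtype.ext (by simp [commutatorElement_def, mul_assoc])
    · rintro _ ⟨a, ha, rfl⟩
      rw [← map_pow]
      exact (QuotientGroup.eq_one_iff _).2 ⟨⟨a, ha⟩ ^ p, Cfsg.Lib.PGroup.pow_mem_frattini P.2 _, rfl⟩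
  haveI : IsMulCommutative D :=
    ⟨⟨fun x y => Subtype.ext (hQel.1 x (hDQ x.2) y (hDQ y.2))⟩⟩
  obtain ⟨L, ⟨hLQ, hLD⟩, hmaxL⟩ := Set.Finite.exists_maximal
    (s := {L : Subgroup (G ⧸ Φ) | L ≤ Q ∧ L ⊓ D = ⊥}) (Set.toFinite _) ⟨⊥, bot_le, bot_inf_eq _⟩
  have hsup : D ⊔ L = Q := by
    refine le_antisymm (sup_le hDQ hLQ) fun x hx => ?_
    by_contra hxn
    have hxp := hQel.2 x hx
    have hle : L ⊔ zpowers x ≤ Q := sup_le hLQ (zpowers_le.2 hx)
    have hbot : (L ⊔ zpowers x) ⊓ D = ⊥ := by
      rw [eq_bot_iff]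
      rintro d ⟨hd, hdD⟩
      have hcl : zpowers x ≤ normalizer (L : Set (G ⧸ Φ)) := by
        refine le_trans ?_ (centralizer_le_normalizer _)
        rw [zpowers_le, mem_centralizer_iff]
        exact fun l hl => hQel.1 l (hLQ hl) x hx
      rw [sup_comm] at hd
      obtain ⟨_, ⟨k, rfl⟩, l, hl, rfl⟩ := (Cfsg.Lib.Core.mem_sup_of_le_normalizer hcl).1 hd
      by_cases hk : (p : ℤ) ∣ k
      · obtain ⟨m, rfl⟩ := hk
        have h1 : x ^ ((p : ℤ) * m) = 1 := by rw [zpow_mul, zpow_natCast, hxp, one_zpow]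
        simp only [h1, one_mul] at hdD ⊢
        have : l ∈ L ⊓ D := ⟨hl, hdD⟩
        rwa [hLD] at this
      · exfalso
        apply hxn
        have h1 : x ^ k ∈ D ⊔ L := by
          have := mul_mem (mem_sup_left (T := L) hdD) (inv_mem (mem_sup_right (S := D) hl))
          simpa [mul_assoc] using this
        obtain ⟨u, v, huv⟩ : IsCoprime k (p : ℤ) :=
          ((Nat.prime_iff_prime_int.1 (Fact.out : p.Prime)).coprime_iff_not_dvd.2 hk).symm
        have h2 : x = (x ^ k) ^ u := by
          have h3 : x ^ (v * (p : ℤ)) = 1 := by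
            rw [mul_comm, zpow_mul, zpow_natCast, hxp, one_zpow]
          calc x = x ^ (u * k + v * (p : ℤ)) := by rw [huv, zpow_one]
            _ = (x ^ k) ^ u := by rw [zpow_add, h3, mul_one, mul_comm, zpow_mul]
        rw [h2]
        exact zpow_mem h1 u
    have heq : L ⊔ zpowers x ≤ L := hmaxL ⟨hle, hbot⟩ le_sup_left
    exact hxn (mem_sup_right (heq (mem_sup_right (mem_zpowers x))))
  have hcop : (Nat.card D).Coprime Q.index := by
    have h1 : IsPGroup p D := (P.2.map π).to_le hDQ
    obtain ⟨k, hk⟩ := IsPGroup.iff_card.1 h1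
    rw [hk]
    refine Nat.Coprime.pow_left _ ((Fact.out : p.Prime).coprime_iff_not_dvd.2 ?_)
    exact fun hd => P.not_dvd_index (hd.trans (index_map_dvd _ hπ))
  obtain ⟨H, hH⟩ := Cfsg.Lib.GaschutzAbelian.exists_complement D Q hDQ hcop L hLQ hLD hsup
  have hDΦ : D ≤ frattini (G ⧸ Φ) :=
    (map_mono inf_le_right).trans (Cfsg.Lib.Local.map_frattini_le_of_surjective π hπ)
  have hHtop : H ⊔ frattini (G ⧸ Φ) = ⊤ := top_le_iff.1 (hH.sup_eq_top.symm.le.trans
    (sup_le (le_sup_of_le_right hDΦ) le_sup_left))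
  have hH' := frattini_nongenerating hHtop
  have hDbot : D = ⊥ := by
    have := hH.disjoint.eq_bot
    rwa [hH', inf_top_eq] at this
  intro x hx
  have : π x ∈ D := mem_map_of_mem π hx
  rw [hDbot, mem_bot] at this
  exact (QuotientGroup.eq_one_iff x).1 this

theorem exists_eigen {p : ℕ} [hp : Fact p.Prime] {V : Type*} [AddCommGroup V] [Module (ZMod p) V]
    [Nontrivial V] (L : Module.End (ZMod p) V) (hLp : L ^ p = L) :
    ∃ (z : V) (a : ZMod p), z ≠ 0 ∧ L z = a • z := by
  have hprod : Polynomial.aeval L (∏ a : ZMod p, (Polynomial.X - Polynomial.C a)) = 0 := by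
    have h1 : (∏ a : ZMod p, (Polynomial.X - Polynomial.C a)) = Polynomial.X ^ p - Polynomial.X := by
      have h2 := FiniteField.roots_X_pow_card_sub_X (ZMod p)
      rw [ZMod.card] at h2
      have hdeg : (Polynomial.X ^ p - Polynomial.X : Polynomial (ZMod p)).natDegree = p :=
        FiniteField.X_pow_card_sub_X_natDegree_eq _ hp.out.one_lt
      have hmon : (Polynomial.X ^ p - Polynomial.X : Polynomial (ZMod p)).Monic := by
        refine Polynomial.monic_X_pow_sub ?_
        rw [Polynomial.degree_X]; exact_mod_cast hp.out.one_lt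
      have h3 := Polynomial.prod_multiset_X_sub_C_of_monic_of_roots_card_eq hmon (by
        rw [h2, hdeg]; simp [ZMod.card])
      rw [h2] at h3
      exact h3
    rw [h1]; simp [hLp]
  have key : ∀ (s : Finset (ZMod p)) (y : V), y ≠ 0 →
      Polynomial.aeval L (∏ a ∈ s, (Polynomial.X - Polynomial.C a)) y = 0 →
      ∃ (z : V) (a : ZMod p), z ≠ 0 ∧ L z = a • z := by
    classical
    intro s
    induction s using Finset.induction_on with
    | empty => intro y hy h; simp at h; exact absurd h hy
    | insert b s hb ih =>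
      intro y hy h
      rw [Finset.prod_insert hb, map_mul, Module.End.mul_apply] at h
      set z := Polynomial.aeval L (∏ a ∈ s, (Polynomial.X - Polynomial.C a)) y
      by_cases hz : z = 0
      · exact ih y hy hz
      · refine ⟨z, b, hz, ?_⟩
        simpa [sub_eq_zero] using h
  obtain ⟨x₀, hx₀⟩ := exists_ne (0 : V)
  exact key Finset.univ x₀ hx₀ (by rw [hprod]; rfl)

/-- An endomorphism `T` of an exponent-`p` abelian group with `T ^ (p-1) = 1` acts as a power
map on some nontrivial element. -/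
theorem exists_power_eigen_add {p : ℕ} [hp : Fact p.Prime] {V : Type*} [AddCommGroup V]
    [Module (ZMod p) V] [Nontrivial V] (T : V →+ V) (hT : ∀ x, (T^[p - 1]) x = x) :
    ∃ (x : V) (r : ℕ), x ≠ 0 ∧ T x = r • x := by
  let L : Module.End (ZMod p) V := T.toZModLinearMap p
  have hL : ∀ n : ℕ, ∀ y : V, (L ^ n) y = (T^[n]) y := by
    intro n
    induction n with
    | zero => intro y; rfl
    | succ n ih =>
      intro y
      rw [pow_succ', Module.End.mul_apply, ih, Function.iterate_succ_apply']
      rfl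
  have hLp : L ^ p = L := by
    refine LinearMap.ext fun y => ?_
    calc (L ^ p) y = (L ^ (p - 1 + 1)) y :=
          congrArg (fun n : ℕ => (L ^ n) y) (Nat.sub_add_cancel hp.out.pos).symm
      _ = L y := by
        rw [pow_succ', Module.End.mul_apply, hL, hT]
  obtain ⟨z, a, hz, hza⟩ := exists_eigen L hLp
  refine ⟨z, a.val, hz, ?_⟩
  show L z = _
  rw [hza, ← Nat.cast_smul_eq_nsmul (ZMod p), ZMod.natCast_zmod_val]

theorem exists_power_eigen {A : Type*} [CommGroup A] [Nontrivial A] {p : ℕ} [hp : Fact p.Prime]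
    (hexp : ∀ x : A, x ^ p = 1) (T : A →* A) (hT : ∀ x, (T^[p - 1]) x = x) :
    ∃ (x : A) (r : ℕ), x ≠ 1 ∧ T x = x ^ r := by
  let V := Additive A
  obtain ⟨z, r, hz, hzr⟩ := @exists_power_eigen_add p hp V inferInstance
    (AddCommGroup.zmodModule fun x => congrArg Additive.ofMul (hexp x.toMul)) inferInstance
    (MonoidHom.toAdditive T) fun x => by
      have h1 : ∀ (n : ℕ) (y : V), ((MonoidHom.toAdditive T)^[n]) y = Additive.ofMul ((T^[n]) y.toMul) := by
        intro n
        induction n with
        | zero => intro y; rfl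
        | succ n ih => intro y; rw [Function.iterate_succ_apply', ih, Function.iterate_succ_apply']; rfl
      rw [h1, hT]; rfl
  exact ⟨z.toMul, r, fun h => hz (by rw [← ofMul_toMul z, h]; rfl), congrArg Additive.toMul hzr⟩

theorem card_minNormal [Finite G] (h : MaxPrime G) {p : ℕ} [hp : Fact p.Prime] (P : Sylow p G)
    [hPn : (P : Subgroup G).Normal] {N : Subgroup G} (hN : Cfsg.Lib.Core.IsMinNormal N)
    (hNP : N ≤ (P : Subgroup G)) : Nat.card N = p := by
  obtain ⟨hNn, hNne, hNmin⟩ := hN
  haveI := hNn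
  -- `N` is central in `P`
  haveI : Group.IsNilpotent (P : Subgroup G) := P.2.isNilpotent
  set Z := (center (P : Subgroup G)).map (P : Subgroup G).subtype
  haveI : Z.Normal := Cfsg.Lib.Core.normal_map_char_of_normal _
  have hNZ : N ≤ Z := by
    have h1 : N.subgroupOf (P : Subgroup G) ⊓ center (P : Subgroup G) ≠ ⊥ :=
      Cfsg.Lib.Solv.inf_center_ne_bot_of_isNilpotent fun hb => hNne (by
        rw [← map_subgroupOf_eq_of_le hNP, hb, Subgroup.map_bot])
    rcases hNmin (N ⊓ Z) inferInstance inf_le_left with hb | he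
    · refine absurd ?_ h1
      rw [eq_bot_iff]
      intro x hx
      have h2 : (x : G) ∈ N ⊓ Z := ⟨hx.1, x, hx.2, rfl⟩
      rw [hb, mem_bot] at h2
      exact Subtype.ext h2
    · exact he.symm.le.trans inf_le_right
  have hPc : ∀ x ∈ (P : Subgroup G), ∀ n ∈ N, x * n = n * x := by
    intro x hx n hn
    obtain ⟨z, hz, rfl⟩ := hNZ hn
    exact congrArg Subtype.val (mem_center_iff.1 hz ⟨x, hx⟩)
  haveI hNc : IsMulCommutative N :=
    ⟨⟨fun a b => Subtype.ext (hPc a (hNP a.2) b b.2)⟩⟩
  have hexp : ∀ x ∈ N, x ^ p = 1 := by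
    let Ω : Subgroup G :=
      { carrier := {x | x ∈ N ∧ x ^ p = 1}
        one_mem' := ⟨N.one_mem, one_pow p⟩
        mul_mem' := fun {a b} ha hb => ⟨N.mul_mem ha.1 hb.1, by
          rw [Commute.mul_pow (hPc a (hNP ha.1) b hb.1), ha.2, hb.2, one_mul]⟩
        inv_mem' := fun {a} ha => ⟨N.inv_mem ha.1, by rw [inv_pow, ha.2, inv_one]⟩ }
    haveI : Ω.Normal := ⟨fun x hx g => ⟨hNn.conj_mem x hx.1 g, by
      rw [conj_pow, hx.2, mul_one, mul_inv_cancel]⟩⟩
    have hne : Ω ≠ ⊥ := by
      haveI : Nontrivial N := (nontrivial_iff_ne_bot N).2 hNne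
      obtain ⟨k, hk0, hk⟩ := (P.2.to_le hNP).nontrivial_iff_card.1 inferInstance
      obtain ⟨x, hx⟩ := exists_prime_orderOf_dvd_card' (G := N) p (hk ▸ dvd_pow_self p hk0.ne')
      intro hb
      have : (x : G) ∈ Ω := ⟨x.2, by rw [← hx, ← Subgroup.orderOf_coe, pow_orderOf_eq_one]⟩
      rw [hb, mem_bot] at this
      rw [← Subgroup.orderOf_coe, this, orderOf_one] at hx
      exact hp.out.ne_one hx.symm
    intro x hx
    have hΩ := (hNmin Ω inferInstance fun y hy => hy.1).resolve_left hne
    exact ((hΩ.symm ▸ hx : x ∈ Ω)).2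
  -- the elements acting trivially on `P` modulo the intersection with `Φ(G)`
  let D := (P : Subgroup G) ⊓ frattini G
  haveI hDn : D.Normal := inferInstance
  have hstep : ∀ g : G, (∀ M : Subgroup G, IsCoatom M → ¬ (P : Subgroup G) ≤ M →
      ∀ x ∈ (P : Subgroup G), g * x * g⁻¹ * x⁻¹ ∈ M) → ∀ n ∈ N, g * n = n * g := by
    intro g hg n hn
    have hgD : ∀ j : ℕ, ∀ x ∈ (P : Subgroup G), g ^ j * x * (g ^ j)⁻¹ * x⁻¹ ∈ D := by
      have h1 : ∀ x ∈ (P : Subgroup G), g * x * g⁻¹ * x⁻¹ ∈ D := fun x hx => by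
        refine mem_inf.2 ⟨mul_mem (hPn.conj_mem x hx g) (inv_mem hx), ?_⟩
        rw [frattini, Order.radical, mem_iInf]
        intro M
        rw [mem_iInf]
        intro hM
        by_cases hPM : (P : Subgroup G) ≤ M
        · exact hPM (mul_mem (hPn.conj_mem x hx g) (inv_mem hx))
        · exact hg M hM hPM x hx
      intro j
      induction j with
      | zero => intro x _; simp [D.one_mem]
      | succ j ih =>
        intro x hx
        have h2 := D.mul_mem (hDn.conj_mem _ (h1 x hx) (g ^ j)) (ih x hx)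
        convert h2 using 1
        rw [pow_succ]; group
    obtain ⟨a, m, hm, hgm⟩ := Nat.exists_eq_pow_mul_and_not_dvd (orderOf_pos g).ne' p hp.out.ne_one
    have hc1 : Commute (g ^ p ^ a) n := by
      set A := zpowers (g ^ p ^ a)
      have hA : A ≤ centralizer ((P : Subgroup G) : Set G) := by
        have hcop : (Nat.card A).Coprime (Nat.card (P : Subgroup G)) := by
          obtain ⟨k, hk⟩ := IsPGroup.iff_card.1 P.2
          rw [hk, Nat.card_zpowers, orderOf_pow_of_dvd (pow_ne_zero _ hp.out.ne_zero) ⟨m, hgm⟩, hgm,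
            Nat.mul_div_cancel_left _ (pow_pos hp.out.pos a)]
          exact Nat.Coprime.pow_right _ ((hp.out.coprime_iff_not_dvd.2 hm).symm)
        refine Cfsg.Lib.Coprime.le_centralizer_of_commutator_le_frattini le_normalizer_of_normal hcop
          (Or.inr inferInstance) ?_
        rw [commutator_le]
        intro x hx b hb
        obtain ⟨k, rfl⟩ := Submonoid.mem_powers_iff _ _ |>.1
          ((isOfFinOrder_of_finite (g ^ p ^ a)).mem_powers_iff_mem_zpowers.2 hb)
        apply frattini_inf_le P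
        have h2 := D.inv_mem (hgD (p ^ a * k) x hx)
        rw [← pow_mul, commutatorElement_def]
        convert h2 using 1
        group
      exact (mem_centralizer_iff.1 (hA (mem_zpowers _)) n (hNP hn)).symm
    have hc2 : Commute (g ^ m) n := by
      obtain ⟨Q, hQ⟩ := (IsPGroup.of_card (p := p) (n := a) (G := zpowers (g ^ m)) (by
        rw [Nat.card_zpowers, orderOf_pow_of_dvd (by rintro rfl; exact hm (dvd_zero p)) ⟨p ^ a, by
          rw [hgm, mul_comm]⟩, hgm,
          Nat.mul_div_cancel _ (Nat.pos_of_ne_zero (by rintro rfl; exact hm (dvd_zero p)))])).exists_le_sylow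
      haveI : Subsingleton (Sylow p G) := Sylow.unique_of_normal P hPn |>.instSubsingleton
      rw [Subsingleton.elim Q P] at hQ
      exact hPc _ (hQ (mem_zpowers _)) n hn
    obtain ⟨u, v, huv⟩ : IsCoprime ((p ^ a : ℕ) : ℤ) (m : ℤ) :=
      Nat.Coprime.isCoprime (Nat.Coprime.pow_left _ (hp.out.coprime_iff_not_dvd.2 hm))
    have hg1 : g = (g ^ p ^ a) ^ u * (g ^ m) ^ v := by
      rw [← zpow_natCast, ← zpow_natCast g m, ← zpow_mul, ← zpow_mul, ← zpow_add, mul_comm _ u,
        mul_comm _ v, huv, zpow_one]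
    rw [hg1]
    exact ((hc1.zpow_left u).mul_left (hc2.zpow_left v)).eq
  -- the induced action is abelian of exponent dividing `p - 1`
  have hmod : ∀ M : Subgroup G, IsCoatom M → ¬ (P : Subgroup G) ≤ M → ((P : Subgroup G) ⊓ M).Normal ∧
      ((P : Subgroup G) ⊓ M).relIndex (P : Subgroup G) = p := by
    intro M hM hPM
    have htop : M ⊔ (P : Subgroup G) = ⊤ := hM.2 _ (left_lt_sup.2 hPM)
    have hnorm : ((P : Subgroup G) ⊓ M).Normal := by
      rw [← normalizer_eq_top_iff, eq_top_iff, ← htop]
      refine sup_le ?_ ?_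
      · exact Cfsg.Lib.Core.le_normalizer_iff_conj_mem.2 fun m hm x hx =>
          ⟨hPn.conj_mem x hx.1 m, M.mul_mem (M.mul_mem hm hx.2) (M.inv_mem hm)⟩
      · have hi : ((P : Subgroup G) ⊓ M).subgroupOf (P : Subgroup G) =
            M.subgroupOf (P : Subgroup G) := by
          ext x; simp [mem_subgroupOf]
        refine (normal_subgroupOf_iff_le_normalizer inf_le_left).1 ?_
        have hco : IsCoatom (M.subgroupOf (P : Subgroup G)) := by
          have h3 : M.relIndex (P : Subgroup G) = M.index := by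
            refine le_antisymm ?_ ?_
            · rw [← relIndex_top_right (H := M)]
              exact relIndex_le_of_le_right le_top (by rw [relIndex_top_right]; exact index_ne_zero_of_finite)
            · exact Nat.le_of_dvd (Nat.pos_of_ne_zero (by exact index_ne_zero_of_finite)) (by
                have h4 : (P : Subgroup G).relIndex M = (P : Subgroup G).index := by
                  rw [← relIndex_sup_right (H := M) (K := (P : Subgroup G)), htop, relIndex_top_right]
                have h5 := relIndex_mul_index (inf_le_left : M ⊓ (P : Subgroup G) ≤ M)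
                have h6 := relIndex_mul_index (inf_le_right : M ⊓ (P : Subgroup G) ≤ (P : Subgroup G))
                rw [inf_relIndex_left, h4] at h5
                rw [inf_relIndex_right, ← h5, mul_comm _ M.index] at h6
                exact dvd_of_eq (Nat.eq_of_mul_eq_mul_right
                  (Nat.pos_of_ne_zero (index_ne_zero_of_finite (H := (P : Subgroup G)))) h6).symm)
          refine ⟨fun ht => hPM (subgroupOf_eq_top.1 ht), fun K hK => ?_⟩
          have h7 := relIndex_mul_index hK.le
          have h8 : (M.subgroupOf (P : Subgroup G)).index.Prime := by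
            show (M.relIndex (P : Subgroup G)).Prime
            rw [h3]; exact h M hM
          rcases (Nat.dvd_prime h8).1 (index_dvd_of_le hK.le) with h9 | h9
          · exact index_eq_one.1 h9
          · refine absurd ?_ hK.ne
            refine le_antisymm hK.le (relIndex_eq_one.1 ?_)
            rw [h9] at h7
            exact (Nat.mul_eq_right h8.ne_zero).1 h7
        rw [hi]
        exact NormalizerCondition.normal_of_coatom _ Group.normalizerCondition_of_isNilpotent hco
    refine ⟨hnorm, ?_⟩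
    haveI := hnorm
    have h3 : ((P : Subgroup G) ⊓ M).relIndex (P : Subgroup G) = M.index := by
      rw [inf_relIndex_left]
      have h4 : (P : Subgroup G).relIndex M = (P : Subgroup G).index := by
        rw [← relIndex_sup_right (H := M) (K := (P : Subgroup G)), htop, relIndex_top_right]
      have h5 := relIndex_mul_index (inf_le_left : M ⊓ (P : Subgroup G) ≤ M)
      have h6 := relIndex_mul_index (inf_le_right : M ⊓ (P : Subgroup G) ≤ (P : Subgroup G))
      rw [inf_relIndex_left, h4] at h5
      rw [inf_relIndex_right, ← h5, mul_comm _ M.index] at h6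
      exact Nat.eq_of_mul_eq_mul_right
        (Nat.pos_of_ne_zero (index_ne_zero_of_finite (H := (P : Subgroup G)))) h6
    rw [h3]
    have h10 : M.index ∣ Nat.card (P : Subgroup G) := h3 ▸ relIndex_dvd_card _ _
    obtain ⟨k, hk⟩ := IsPGroup.iff_card.1 P.2
    rw [hk] at h10
    exact (Nat.prime_dvd_prime_iff_eq (h M hM) hp.out).1 ((h M hM).dvd_of_dvd_pow h10)
  have hact : ∀ M : Subgroup G, IsCoatom M → ¬ (P : Subgroup G) ≤ M →
      ∀ g₁ g₂ : G, ∀ x ∈ (P : Subgroup G),
      (g₁ ^ (p - 1)) * x * (g₁ ^ (p - 1))⁻¹ * x⁻¹ ∈ M ∧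
      (g₁⁻¹ * g₂⁻¹ * g₁ * g₂) * x * (g₁⁻¹ * g₂⁻¹ * g₁ * g₂)⁻¹ * x⁻¹ ∈ M := by
    intro M hM hPM g₁ g₂ x hx
    obtain ⟨hWn, hWc⟩ := hmod M hM hPM
    haveI := hWn
    set W := (P : Subgroup G) ⊓ M
    set V := (P : Subgroup G).map (QuotientGroup.mk' W)
    haveI : V.Normal := hPn.map _ (QuotientGroup.mk'_surjective W)
    have hV : Nat.card V = p := by
      rw [← hWc, ← relIndex_ker, QuotientGroup.ker_mk']
    haveI : IsCyclic V := isCyclic_of_prime_card hV
    have hcard : Nat.card (MulAut V) = p - 1 := by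
      rw [Nat.card_congr (IsCyclic.mulAutMulEquiv V).toEquiv, hV, Nat.card_eq_fintype_card, ZMod.card_units_eq_totient,
        Nat.totient_prime hp.out]
    set ρ : G →* MulAut V := (MulAut.conjNormal : G ⧸ W →* MulAut V).comp (QuotientGroup.mk' W)
    have htriv : ∀ g : G, ρ g = 1 → g * x * g⁻¹ * x⁻¹ ∈ M := by
      intro g hg
      have h1 := congrArg Subtype.val (DFunLike.congr_fun hg
        (⟨QuotientGroup.mk' W x, mem_map_of_mem _ hx⟩ : V))
      have h2 : QuotientGroup.mk' W (g * x * g⁻¹) = QuotientGroup.mk' W x := by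
        rw [map_mul, map_mul, map_inv]; exact h1
      have h3 : g * x * g⁻¹ * x⁻¹ ∈ W := by
        rw [← QuotientGroup.eq_one_iff]
        show QuotientGroup.mk' W (g * x * g⁻¹ * x⁻¹) = 1
        rw [map_mul _ (g * x * g⁻¹), h2, map_inv, mul_inv_cancel]
      exact h3.2
    refine ⟨htriv _ ?_, htriv _ ?_⟩
    · rw [map_pow, ← hcard, pow_card_eq_one']
    · have hcomm : ∀ a b : MulAut V, a * b = b * a := fun a b =>
        (IsCyclic.mulAutMulEquiv V).injective (by rw [map_mul, map_mul, mul_comm])
      rw [map_mul, map_mul, map_mul, map_inv, map_inv, hcomm (ρ g₁)⁻¹ (ρ g₂)⁻¹,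
        mul_assoc (ρ g₂)⁻¹, inv_mul_cancel, mul_one, inv_mul_cancel]
  -- every element of `G` acts on `N` as a power map
  haveI : Nontrivial N := (nontrivial_iff_ne_bot N).2 hNne
  letI : CommGroup N := { (inferInstance : Group N) with mul_comm := hNc.is_comm.comm }
  have hpow : ∀ g : G, ∃ r : ℕ, ∀ y ∈ N, g * y * g⁻¹ = y ^ r := by
    intro g
    let T : N →* N := (MulAut.conjNormal g : MulAut N).toMonoidHom
    have hT : ∀ (j : ℕ) (y : N), ((T^[j]) y : G) = g ^ j * y * (g ^ j)⁻¹ := by
      intro j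
      induction j with
      | zero => intro y; simp
      | succ j ih =>
        intro y
        rw [Function.iterate_succ_apply']
        show g * ((T^[j]) y : G) * g⁻¹ = _
        rw [ih, pow_succ']; group
    obtain ⟨x, r, hx1, hxr⟩ := exists_power_eigen (fun y : N => Subtype.ext (hexp y y.2)) T fun y => by
      refine Subtype.ext ?_
      rw [hT, hstep _ (fun M hM hPM x hx => (hact M hM hPM g g x hx).1) y y.2, mul_inv_cancel_right]
    let S : Subgroup G :=
      { carrier := {y | y ∈ N ∧ g * y * g⁻¹ = y ^ r}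
        one_mem' := ⟨N.one_mem, by simp⟩
        mul_mem' := fun {a b} ha hb => ⟨N.mul_mem ha.1 hb.1, by
          rw [Commute.mul_pow (hPc a (hNP ha.1) b hb.1), ← ha.2, ← hb.2]; group⟩
        inv_mem' := fun {a} ha => ⟨N.inv_mem ha.1, by rw [inv_pow, ← ha.2]; group⟩ }
    haveI : S.Normal := ⟨fun y hy k => ⟨hNn.conj_mem y hy.1 k, by
      have hc := hstep _ (fun M hM hPM x hx => (hact M hM hPM g k x hx).2) y hy.1
      rw [conj_pow, ← hy.2]
      calc g * (k * y * k⁻¹) * g⁻¹
          = k * g * ((g⁻¹ * k⁻¹ * g * k) * y) * (g⁻¹ * k⁻¹ * g * k)⁻¹ * g⁻¹ * k⁻¹ := by group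
        _ = _ := by rw [hc]; group⟩⟩
    have hS := (hNmin S inferInstance fun y hy => hy.1).resolve_left fun hb => hx1 (by
      have : (x : G) ∈ S := ⟨x.2, congrArg Subtype.val hxr⟩
      rw [hb, mem_bot] at this
      exact Subtype.ext this)
    exact ⟨r, fun y hy => ((hS.symm ▸ hy : y ∈ S)).2⟩
  obtain ⟨⟨x, hxN⟩, hx1⟩ := exists_ne (1 : N)
  haveI : (zpowers x).Normal := ⟨fun y hy g => by
    obtain ⟨r, hr⟩ := hpow g
    rw [hr y ((zpowers_le.2 hxN) hy)]
    exact pow_mem hy r⟩
  rcases hNmin (zpowers x) inferInstance (zpowers_le.2 hxN) with hb | he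
  · exact absurd (Subtype.ext (zpowers_eq_bot.1 hb)) hx1
  · rw [← he, Nat.card_zpowers]
    exact orderOf_eq_prime (hexp x hxN) fun h1 => hx1 (Subtype.ext h1)

/-- Huppert's theorem. -/
theorem isSupersolvable [Finite G] (h : MaxPrime G) : Cfsg.IsSupersolvable G := by
  induction hn : Nat.card G using Nat.strong_induction_on generalizing G with
  | _ n ih =>
    subst hn
    cases subsingleton_or_nontrivial G
    · exact Cfsg.Lib.Supersolvable.of_subsingleton
    obtain ⟨p, hp, hd, hmax⟩ := exists_max_prime (G := G)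
    haveI : Fact p.Prime := ⟨hp⟩
    obtain ⟨P⟩ : Nonempty (Sylow p G) := inferInstance
    haveI := sylow_normal h hmax P
    have hPne : (P : Subgroup G) ≠ ⊥ := fun hb => by
      have := P.dvd_card_of_dvd_card hd
      rw [hb, card_bot, Nat.dvd_one] at this
      exact hp.ne_one this
    obtain ⟨N, hN, hNP⟩ := Cfsg.Lib.Core.exists_isMinNormal (N := (P : Subgroup G)) inferInstance hPne
    haveI := hN.1
    refine Cfsg.Lib.Supersolvable.of_normal_prime N ((card_minNormal h P hN hNP).symm ▸ hp)
      (ih _ (Cfsg.Lib.Core.card_quotient_lt hN.2.1)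
        (maxPrime_of_surjective h _ (QuotientGroup.mk'_surjective _)) rfl)

end Cfsg.Lib.Huppert
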