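import Cfsg.Prelude.Def_SolvableStructure
import Cfsg.Agent.Lib.Core.Basic
import Mathlib

/-!
# Supersolvable groups
-/

set_option autoImplicit false

namespace Cfsg.Lib.Supersolvable

open Subgroup

universe u v

variable {G : Type u} [Group G]

theorem of_subsingleton [Subsingleton G] : Cfsg.IsSupersolvable G :=
  ⟨0, fun _ => ⊥, rfl, Subsingleton.elim _ _, fun _ => inferInstance, fun i => i.elim0⟩

theorem quotient (h : Cfsg.IsSupersolvable G) (N : Subgroup G)
    [N.Normal] : Cfsg.IsSupersolvable (G ⧸ N) := by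
  obtain ⟨n, H, h0, hn, hnorm, hstep⟩ := h
  refine ⟨n, fun i => (H i).map (QuotientGroup.mk' N), by simp [h0],
    by simp [hn, map_top_of_surjective _ (QuotientGroup.mk'_surjective N)],
    fun i => (hnorm i).map _ (QuotientGroup.mk'_surjective N), fun i => ?_⟩
  obtain ⟨g, hg⟩ := hstep i
  exact ⟨QuotientGroup.mk' N g, by beta_reduce; rw [hg, Subgroup.map_sup, MonoidHom.map_zpowers]⟩

theorem of_surjective {G' : Type v} [Group G'] (h : Cfsg.IsSupersolvable G) (f : G →* G')
    (hf : Function.Surjective f) : Cfsg.IsSupersolvable G' := by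
  obtain ⟨n, H, h0, hn, hnorm, hstep⟩ := h
  refine ⟨n, fun i => (H i).map f, by simp [h0],
    by simp [hn, map_top_of_surjective _ hf], fun i => (hnorm i).map _ hf, fun i => ?_⟩
  obtain ⟨g, hg⟩ := hstep i
  exact ⟨f g, by beta_reduce; rw [hg, Subgroup.map_sup, MonoidHom.map_zpowers]⟩

theorem of_injective {G' : Type v} [Group G'] (h : Cfsg.IsSupersolvable G) (f : G' →* G)
    (hf : Function.Injective f) : Cfsg.IsSupersolvable G' := by
  obtain ⟨n, H, h0, hn, hnorm, hstep⟩ := h
  refine ⟨n, fun i => (H i).comap f, ?_, by simp [hn], fun i => (hnorm i).comap f, fun i => ?_⟩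
  · beta_reduce
    rw [h0]
    exact (MonoidHom.ker_eq_bot_iff f).2 hf
  obtain ⟨g, hg⟩ := hstep i
  have := hnorm i.castSucc
  set N := H i.castSucc
  set q := (QuotientGroup.mk' N).comp f
  have hle : ((H i.succ).comap f).map q ≤ zpowers (QuotientGroup.mk' N g) := by
    rintro _ ⟨x, hx, rfl⟩
    have hx' : f x ∈ H i.succ := hx
    rw [hg] at hx'
    obtain ⟨a, ha, b, hb, hab⟩ := mem_sup_of_normal_left.1 hx'
    obtain ⟨k, rfl⟩ := mem_zpowers_iff.1 hb
    refine mem_zpowers_iff.2 ⟨k, ?_⟩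
    show _ = QuotientGroup.mk' N (f x)
    rw [← hab, map_mul, map_zpow, show QuotientGroup.mk' N a = 1 from
      (QuotientGroup.eq_one_iff a).2 ha, one_mul]
  haveI : IsCyclic ↥(((H i.succ).comap f).map q) :=
    isCyclic_of_injective (Subgroup.inclusion hle) (inclusion_injective hle)
  obtain ⟨⟨c, hc⟩, hgen⟩ := IsCyclic.exists_generator (α := ↥(((H i.succ).comap f).map q))
  obtain ⟨y, hy, hyc⟩ := hc
  refine ⟨y, le_antisymm ?_ (sup_le (comap_mono (hg ▸ le_sup_left)) (zpowers_le.2 hy))⟩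
  intro x hx
  obtain ⟨k, hk⟩ := mem_zpowers_iff.1 (hgen ⟨q x, mem_map_of_mem q hx⟩)
  have hk' : (c : G ⧸ N) ^ k = q x := congrArg Subtype.val hk
  have hmem : x * (y ^ k)⁻¹ ∈ N.comap f := by
    rw [mem_comap, ← QuotientGroup.eq_one_iff]
    show q (x * (y ^ k)⁻¹) = 1
    rw [map_mul, map_inv, map_zpow, hyc, hk', mul_inv_cancel]
  have := mul_mem (mem_sup_left (T := zpowers y) hmem) (mem_sup_right (zpow_mem (mem_zpowers y) k))
  rwa [inv_mul_cancel_right] at this

theorem subgroup (h : Cfsg.IsSupersolvable G) (K : Subgroup G) : Cfsg.IsSupersolvable K :=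
  of_injective h K.subtype K.subtype_injective

theorem of_mulEquiv {G' : Type v} [Group G'] (h : Cfsg.IsSupersolvable G) (e : G ≃* G') :
    Cfsg.IsSupersolvable G' :=
  of_surjective h e.toMonoidHom e.surjective

/-- A cyclic normal subgroup with supersolvable quotient. -/
theorem of_quotient (N : Subgroup G) [N.Normal] [hN : IsCyclic N]
    (h : Cfsg.IsSupersolvable (G ⧸ N)) : Cfsg.IsSupersolvable G := by
  obtain ⟨n, H, h0, hn, hnorm, hstep⟩ := h
  obtain ⟨⟨c, hc⟩, hgen⟩ := IsCyclic.exists_generator (α := N)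
  refine ⟨n + 1, Fin.cons ⊥ fun i => (H i).comap (QuotientGroup.mk' N), rfl, ?_, ?_, ?_⟩
  · rw [← Fin.succ_last, Fin.cons_succ, hn, comap_top]
  · intro i
    refine Fin.cases ?_ (fun j => ?_) i
    · rw [Fin.cons_zero]; infer_instance
    · rw [Fin.cons_succ]; exact (hnorm j).comap _
  · intro i
    refine Fin.cases ?_ (fun j => ?_) i
    · refine ⟨c, ?_⟩
      rw [Fin.castSucc_zero, Fin.cons_zero, bot_sup_eq, Fin.cons_succ, h0]
      show (QuotientGroup.mk' N).ker = zpowers c
      rw [QuotientGroup.ker_mk']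
      refine le_antisymm (fun x hx => ?_) (zpowers_le.2 hc)
      obtain ⟨k, hk⟩ := mem_zpowers_iff.1 (hgen ⟨x, hx⟩)
      exact mem_zpowers_iff.2 ⟨k, congrArg Subtype.val hk⟩
    · obtain ⟨g, hg⟩ := hstep j
      obtain ⟨g, rfl⟩ := QuotientGroup.mk'_surjective N g
      refine ⟨g, ?_⟩
      rw [Fin.cons_succ, ← Fin.succ_castSucc, Fin.cons_succ, hg]
      have h2 : (H j.castSucc ⊔ zpowers (QuotientGroup.mk' N g)) =
          ((H j.castSucc).comap (QuotientGroup.mk' N) ⊔ zpowers g).map (QuotientGroup.mk' N) := by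
        rw [Subgroup.map_sup, map_comap_eq_self_of_surjective (QuotientGroup.mk'_surjective N),
          MonoidHom.map_zpowers]
      rw [h2, comap_map_eq_self]
      exact (le_sup_left).trans' (ker_le_comap _ _)

theorem of_normal_prime (N : Subgroup G) [N.Normal] (hN : (Nat.card N).Prime)
    (h : Cfsg.IsSupersolvable (G ⧸ N)) : Cfsg.IsSupersolvable G := by
  haveI : IsCyclic N := isCyclic_of_prime_card (hp := ⟨hN⟩) rfl
  exact of_quotient N h

variable [Finite G]

/-- A nontrivial finite supersolvable group has a normal subgroup of prime order. -/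
theorem exists_normal_prime [Nontrivial G] (h : Cfsg.IsSupersolvable G) :
    ∃ Q : Subgroup G, Q.Normal ∧ (Nat.card Q).Prime := by
  classical
  obtain ⟨n, H, h0, hn, hnorm, hstep⟩ := h
  have hex : ∃ m, ∃ hm : m ≤ n, H ⟨m, by omega⟩ ≠ ⊥ :=
    ⟨n, le_rfl, by rw [show (⟨n, _⟩ : Fin (n + 1)) = Fin.last n from rfl, hn]; exact top_ne_bot⟩
  obtain ⟨hm, hne⟩ := Nat.find_spec hex
  have hm0 : Nat.find hex ≠ 0 := fun h' => hne (by
    rw [show (⟨Nat.find hex, by omega⟩ : Fin (n + 1)) = 0 from Fin.ext h', h0])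
  obtain ⟨i, hi⟩ := Nat.exists_eq_succ_of_ne_zero hm0
  obtain ⟨g, hg⟩ := hstep ⟨i, by omega⟩
  have hib : H (Fin.castSucc ⟨i, by omega⟩) = ⊥ := by
    by_contra h'
    exact Nat.find_min hex (show i < Nat.find hex by omega) ⟨by omega, h'⟩
  rw [hib, bot_sup_eq] at hg
  have hg1 : g ≠ 1 := fun h' => hne (by
    rw [show (⟨Nat.find hex, by omega⟩ : Fin (n + 1)) = Fin.succ ⟨i, by omega⟩ from Fin.ext hi, hg,
      h', zpowers_one_eq_bot])
  haveI hgn : (zpowers g).Normal := hg ▸ hnorm _
  obtain ⟨q, hq, hqd⟩ := Nat.exists_prime_and_dvd (fun h1 => hg1 (orderOf_eq_one_iff.mp h1))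
  have hdiv : orderOf g / q ∣ orderOf g := Nat.div_dvd_of_dvd hqd
  have hpos : orderOf g / q ≠ 0 := (Nat.div_pos (Nat.le_of_dvd (orderOf_pos g) hqd) hq.pos).ne'
  refine ⟨zpowers (g ^ (orderOf g / q)), ⟨fun x hx a => ?_⟩, ?_⟩
  · obtain ⟨k, rfl⟩ := mem_zpowers_iff.mp hx
    obtain ⟨j, hj⟩ := mem_zpowers_iff.mp (hgn.conj_mem g (mem_zpowers g) a)
    refine mem_zpowers_iff.mpr ⟨j * k, ?_⟩
    rw [← conj_zpow, ← conj_pow, ← hj]
    simp only [← zpow_natCast, ← zpow_mul]
    ring_nf
  · rwa [Nat.card_zpowers, orderOf_pow_of_dvd hpos hdiv, Nat.div_div_self hqd (orderOf_pos g).ne']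

omit [Finite G] in
/-- Induction principle for finite supersolvable groups. -/
theorem induction' {P : ∀ (G : Type u) [Group G], Prop}
    (h1 : ∀ (G : Type u) [Group G] [Finite G] [Subsingleton G], P G)
    (h2 : ∀ (G : Type u) [Group G] [Finite G] (Q : Subgroup G) [Q.Normal], (Nat.card Q).Prime →
      Cfsg.IsSupersolvable G → P (G ⧸ Q) → P G) :
    ∀ (G : Type u) [Group G] [Finite G], Cfsg.IsSupersolvable G → P G := by
  intro G _ _ h
  induction hn : Nat.card G using Nat.strong_induction_on generalizing G with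
  | _ n ih =>
    subst hn
    cases subsingleton_or_nontrivial G
    · exact h1 G
    obtain ⟨Q, hQn, hQ⟩ := exists_normal_prime h
    refine h2 G Q hQ h (ih _ ?_ _ (quotient h Q) rfl)
    exact Cfsg.Lib.Core.card_quotient_lt fun hb => hQ.ne_one (by rw [hb, card_bot])

theorem isSolvable (h : Cfsg.IsSupersolvable G) : Group.IsSolvable G := by
  refine induction' (P := fun G _ => Group.IsSolvable G) (fun G _ _ _ => inferInstance) ?_ G h
  intro G _ _ Q _ hQ _ hq
  haveI : Fact (Nat.card Q).Prime := ⟨hQ⟩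
  haveI : Group.IsSolvable Q := by
    haveI : IsCyclic Q := isCyclic_of_prime_card (hp := ⟨hQ⟩) rfl
    exact Group.isSolvable_of_comm fun a b => (IsCyclic.isMulCommutative (α := Q)).is_comm.comm a b
  exact Group.isSolvable_of_ker_le_range Q.subtype (QuotientGroup.mk' Q) (by simp)

theorem maximal_index_prime (h : Cfsg.IsSupersolvable G) :
    ∀ M : Subgroup G, IsCoatom M → M.index.Prime := by
  refine induction' (P := fun G _ => ∀ M : Subgroup G, IsCoatom M → M.index.Prime) ?_ ?_ G h
  · intro G _ _ _ M hM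
    exact absurd (Subsingleton.elim M ⊤) hM.1
  intro G _ _ Q _ hQ _ ih M hM
  by_cases hQM : Q ≤ M
  · have hker : (QuotientGroup.mk' Q).ker ≤ M := by rwa [QuotientGroup.ker_mk']
    have h2 := ih (M.map (QuotientGroup.mk' Q)) ⟨fun ht => hM.1 ?_, fun K hK => ?_⟩
    · rwa [index_map_eq M (QuotientGroup.mk'_surjective Q) hker] at h2
    · have := congrArg (Subgroup.comap (QuotientGroup.mk' Q)) ht
      rwa [comap_map_eq_self hker, comap_top] at this
    · have h3 : M < K.comap (QuotientGroup.mk' Q) := by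
        refine lt_of_le_of_ne (map_le_iff_le_comap.1 hK.le) fun he => hK.ne ?_
        rw [he, map_comap_eq_self_of_surjective (QuotientGroup.mk'_surjective Q)]
      have := congrArg (Subgroup.map (QuotientGroup.mk' Q)) (hM.2 _ h3)
      rwa [map_comap_eq_self_of_surjective (QuotientGroup.mk'_surjective Q),
        map_top_of_surjective _ (QuotientGroup.mk'_surjective Q)] at this
  · have htop : M ⊔ Q = ⊤ := hM.2 _ (left_lt_sup.2 hQM)
    have h2 : M.relIndex Q = M.index := by
      have h3 : Q.relIndex M = Q.index := by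
        rw [← relIndex_sup_right (H := M) (K := Q), htop, relIndex_top_right]
      have h4 := relIndex_mul_index (inf_le_left : M ⊓ Q ≤ M)
      have h5 := relIndex_mul_index (inf_le_right : M ⊓ Q ≤ Q)
      rw [inf_relIndex_left, h3] at h4
      rw [inf_relIndex_right] at h5
      refine Nat.eq_of_mul_eq_mul_right (Nat.pos_of_ne_zero (index_ne_zero_of_finite (H := Q))) ?_
      rw [h5, ← h4, mul_comm]
    have hd : M.index ∣ Nat.card Q := h2 ▸ relIndex_dvd_card M Q
    rcases (Nat.dvd_prime hQ).1 hd with h3 | h3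
    · exact absurd (index_eq_one.1 h3) hM.1
    · rw [h3]; exact hQ

theorem isPGroup {p : ℕ} [Fact p.Prime] (h : IsPGroup p G) : Cfsg.IsSupersolvable G := by
  induction hn : Nat.card G using Nat.strong_induction_on generalizing G with
  | _ n ih =>
    subst hn
    cases subsingleton_or_nontrivial G
    · exact of_subsingleton
    haveI := h.center_nontrivial
    obtain ⟨⟨z, hz⟩, hzo⟩ := exists_prime_orderOf_dvd_card' (G := Subgroup.center G) p (by
      obtain ⟨k, hk0, hk⟩ := (h.to_subgroup (center G)).nontrivial_iff_card.1 inferInstance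
      rw [hk]; exact dvd_pow_self p (Nat.pos_iff_ne_zero.1 hk0))
    rw [Subgroup.orderOf_mk] at hzo
    haveI : (zpowers z).Normal :=
      ⟨fun x hx g => by rw [mem_center_iff.1 (zpowers_le.2 hz hx) g, mul_inv_cancel_right]; exact hx⟩
    have hp : (Nat.card (zpowers z)).Prime := by rw [Nat.card_zpowers, hzo]; exact Fact.out
    refine of_normal_prime _ hp (ih _ (Cfsg.Lib.Core.card_quotient_lt fun hb => ?_)
      (h.to_quotient _) rfl)
    exact hp.ne_one (by rw [hb, card_bot])

end Cfsg.Lib.Supersolvable
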