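import Cfsg.Agent.Lib.Subnormal.Zipper
import Cfsg.Agent.Lib.Core.Basic

/-!
# Wielandt's join theorem and subnormality criterion
-/

set_option autoImplicit false

namespace Cfsg.Lib.SubnormalJoin

open Subgroup

universe u

theorem exists_normal_proper {G : Type u} [Group G] {A : Subgroup G} (hA : A.IsSubnormal)
    (hne : A ≠ ⊤) : ∃ K : Subgroup G, K.Normal ∧ A ≤ K ∧ K ≠ ⊤ := by
  rcases hA.lt_normal with h | ⟨K, hKn, hAK, hK⟩
  · exact absurd h hne
  · exact ⟨K, hKn, hAK, hK.ne⟩

/-- The join of two subnormal subgroups of a finite group is subnormal. -/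
theorem join_aux : ∀ (n : ℕ) (G : Type u) [Group G] [Finite G], Nat.card G ≤ n →
    ∀ A B : Subgroup G, A.IsSubnormal → B.IsSubnormal → (A ⊔ B).IsSubnormal := by
  intro n
  induction n with
  | zero => intro G _ _ h; exact absurd h (Nat.not_le.2 Nat.card_pos)
  | succ n ih =>
    intro G _ _ hn A B hA hB
    by_cases hAt : A = ⊤
    · rw [hAt, top_sup_eq]; exact Subgroup.Normal.isSubnormal inferInstance
    obtain ⟨K, hKn, hAK, hK⟩ := exists_normal_proper hA hAt
    have hcard : Nat.card K ≤ n := by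
      have := Cfsg.Lib.Core.lt_card_of_ne_top hK; omega
    let S : Set (Subgroup G) := {X | X.IsSubnormal ∧ X ≤ K}
    have hbot : ⊥ ∈ S := ⟨Subgroup.Normal.isSubnormal inferInstance, bot_le⟩
    have hsup : ∀ X ∈ S, ∀ Y ∈ S, X ⊔ Y ∈ S := by
      rintro X ⟨hX, hXK⟩ Y ⟨hY, hYK⟩
      refine ⟨?_, sup_le hXK hYK⟩
      have h := ih K hcard _ _ (hX.subgroupOf (K := K)) (hY.subgroupOf (K := K))
      rw [← subgroupOf_sup hXK hYK] at h
      exact h.trans (sup_le hXK hYK) hKn.isSubnormal
    set A' : Subgroup G := ⨆ b : B, A.map (MulAut.conj (b : G)).toMonoidHom with hA'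
    have hA'S : A' ∈ S := by
      refine Cfsg.Lib.Core.iSup_mem_of_sup_mem hbot hsup _ fun b => ?_
      refine ⟨Cfsg.Lib.Core.isSubnormal_map_conj hA _, ?_⟩
      rintro _ ⟨a, ha, rfl⟩
      exact hKn.conj_mem _ (hAK ha) _
    have hAA' : A ≤ A' := by
      refine le_trans ?_ (le_iSup _ (1 : B))
      intro a ha
      exact ⟨a, ha, by simp⟩
    have hA'le : A' ≤ A ⊔ B := by
      refine iSup_le fun b => ?_
      rintro _ ⟨a, ha, rfl⟩
      exact mul_mem (mul_mem (mem_sup_right b.2) (mem_sup_left ha)) (inv_mem (mem_sup_right b.2))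
    have heq : A ⊔ B = A' ⊔ B :=
      le_antisymm (sup_le_sup_right hAA' _) (sup_le hA'le le_sup_right)
    rw [heq]
    refine Cfsg.Lib.Subnormal.isSubnormal_sup hA'S.1 hB (Cfsg.Lib.Core.le_normalizer_iff_conj_mem.2 ?_)
    intro b hb x hx
    have h1 : A'.map (MulAut.conj b).toMonoidHom ≤ A' := by
      rw [hA', Subgroup.map_iSup]
      refine iSup_le fun c => ?_
      rw [Subgroup.map_map]
      refine le_trans (le_of_eq ?_) (le_iSup _ ((⟨b, hb⟩ : B) * c))
      congr 1
      ext y
      simp [mul_assoc]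
    exact h1 ⟨x, hx, rfl⟩

theorem isSubnormal_join {G : Type u} [Group G] [Finite G] {A B : Subgroup G}
    (hA : A.IsSubnormal) (hB : B.IsSubnormal) : (A ⊔ B).IsSubnormal :=
  join_aux _ G le_rfl A B hA hB

/-- Wielandt's criterion, by induction on the order of an ambient subgroup. -/
theorem criterion_aux : ∀ (n : ℕ) (G : Type u) [Group G] [Finite G], Nat.card G ≤ n →
    ∀ A : Subgroup G, (∀ g : G, (A.subgroupOf (A ⊔ A.map (MulAut.conj g).toMonoidHom)).IsSubnormal) →
      A.IsSubnormal := by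
  intro n
  induction n with
  | zero => intro G _ _ h; exact absurd h (Nat.not_le.2 Nat.card_pos)
  | succ n ih =>
    intro G _ _ hn A h
    by_contra hA
    have hloc : ∀ H : Subgroup G, H ≠ ⊤ → A ≤ H → (A.subgroupOf H).IsSubnormal := by
      intro H hH hAH
      refine ih H (by have := Cfsg.Lib.Core.lt_card_of_ne_top hH; omega) _ fun g => ?_
      let J := A ⊔ A.map (MulAut.conj (g : G)).toMonoidHom
      let J' := A.subgroupOf H ⊔ (A.subgroupOf H).map (MulAut.conj g).toMonoidHom
      have hJ : J'.map H.subtype = J := by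
        rw [Subgroup.map_sup, map_subgroupOf_eq_of_le hAH, Subgroup.map_map]
        show A ⊔ _ = A ⊔ _
        congr 1
        conv_rhs => rw [← map_subgroupOf_eq_of_le hAH, Subgroup.map_map]
        congr 1
      let f : J' →* J := (H.subtype.comp J'.subtype).codRestrict J
        fun x => hJ ▸ mem_map_of_mem H.subtype x.2
      have h1 := (h (g : G)).comap f
      have h2 : (A.subgroupOf J).comap f = (A.subgroupOf H).subgroupOf J' := by
        ext x
        simp [f, mem_subgroupOf]
      rwa [h2] at h1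
    obtain ⟨M, ⟨hM, hAM⟩, huniq⟩ := Cfsg.Lib.Subnormal.zipper A hA hloc
    have hall : normalClosure (A : Set G) ≤ M := by
      rw [normalClosure, closure_le]
      intro y hy
      obtain ⟨a, ha, hc⟩ := Group.mem_conjugatesOfSet_iff.mp hy
      obtain ⟨g, rfl⟩ := isConj_iff.mp hc
      have hJ : A ⊔ A.map (MulAut.conj g).toMonoidHom ≠ ⊤ := by
        intro ht
        apply hA
        exact (h g).trans le_sup_left (ht ▸ Subgroup.Normal.isSubnormal inferInstance)
      obtain ⟨M', hM', hJM⟩ := (eq_top_or_exists_le_coatom _).resolve_left hJ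
      rw [huniq M' ⟨hM', le_sup_left.trans hJM⟩] at hJM
      exact hJM (mem_sup_right ⟨a, ha, rfl⟩)
    have hN : normalClosure (A : Set G) ≠ ⊤ := fun ht => hM.1 (top_le_iff.1 (ht ▸ hall))
    exact hA ((hloc _ hN le_normalClosure).trans le_normalClosure normalClosure_normal.isSubnormal)

theorem criterion {G : Type u} [Group G] [Finite G] (A : Subgroup G)
    (h : ∀ g : G, (A.subgroupOf (A ⊔ A.map (MulAut.conj g).toMonoidHom)).IsSubnormal) :
    A.IsSubnormal :=
  criterion_aux _ G le_rfl A h

end Cfsg.Lib.SubnormalJoin
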