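import Cfsg.Agent.Lib.Core.PSolvable
import Mathlib.GroupTheory.GroupAction.Primitive

/-!
Core-free maximal subgroups and primitive solvable groups.
-/

set_option autoImplicit false

namespace Cfsg.Lib.Solv

open Subgroup Cfsg.Lib.Core

universe u

variable {G : Type u} [Group G]

theorem sup_eq_top_of_corefree {U : Subgroup G} (hU : IsCoatom U) (hcore : U.normalCore = ⊥)
    {N : Subgroup G} [N.Normal] (hN : N ≠ ⊥) : N ⊔ U = ⊤ := by
  refine hU.2 _ (right_lt_sup.2 fun hle => hN (eq_bot_iff.2 ?_))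
  rw [← hcore]
  exact normal_le_normalCore.2 hle

theorem centralizer_inf_eq_bot {U : Subgroup G} (hU : IsCoatom U) (hcore : U.normalCore = ⊥)
    {N : Subgroup G} [N.Normal] (hN : N ≠ ⊥) : centralizer (N : Set G) ⊓ U = ⊥ := by
  set X := centralizer (N : Set G) ⊓ U
  have hX : X.Normal := by
    rw [← normalizer_eq_top_iff, eq_top_iff, ← sup_eq_top_of_corefree hU hcore hN]
    refine sup_le (fun n hn => mem_normalizer_iff.2 fun x => ?_) ?_
    · have key : ∀ m ∈ N, ∀ y ∈ X, m * y * m⁻¹ = y := fun m hm y hy => by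
        rw [(mem_centralizer_iff.1 hy.1 m hm), mul_inv_cancel_right]
      refine ⟨fun hx => by rw [key n hn x hx]; exact hx, fun hx => ?_⟩
      have h := key n⁻¹ (N.inv_mem hn) _ hx
      have h' : n⁻¹ * (n * x * n⁻¹) * n⁻¹⁻¹ = x := by group
      rw [h'] at h
      exact h ▸ hx
    · have : U ≤ normalizer ((centralizer (N : Set G) : Subgroup G) : Set G) := by
        rw [normalizer_eq_top (H := centralizer (N : Set G))]; exact le_top
      exact (le_inf this le_normalizer).trans inf_normalizer_le_normalizer_inf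
  rw [eq_bot_iff, ← hcore]
  exact normal_le_normalCore.2 inf_le_right

theorem eq_centralizer_of_normal_le {U : Subgroup G} (hU : IsCoatom U) (hcore : U.normalCore = ⊥)
    {N : Subgroup G} [N.Normal] (hN : N ≠ ⊥) {K : Subgroup G} (hK : K.Normal) (hKne : K ≠ ⊥)
    (hle : K ≤ centralizer (N : Set G)) : K = centralizer (N : Set G) := by
  refine le_antisymm hle fun c hc => ?_
  have htop : c ∈ K ⊔ U := sup_eq_top_of_corefree hU hcore hKne ▸ mem_top c
  obtain ⟨k, hk, u, hu, rfl⟩ := mem_sup_of_normal_left.1 htop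
  have huC : u ∈ centralizer (N : Set G) ⊓ U := by
    refine ⟨?_, hu⟩
    have := mul_mem (Subgroup.inv_mem _ (hle hk)) hc
    rwa [inv_mul_cancel_left] at this
  rw [centralizer_inf_eq_bot hU hcore hN, Subgroup.mem_bot] at huC
  rw [huC, mul_one]; exact hk

section Action

variable {Ω : Type*} [MulAction G Ω] [FaithfulSMul G Ω]

theorem primitive_regular [Finite G] [Group.IsSolvable G] (hprim : MulAction.IsPreprimitive G Ω)
    {M : Subgroup G} [hMn : M.Normal] (hM : M ≠ ⊥)
    (hmin : ∀ K : Subgroup G, K.Normal → K ≤ M → K = ⊥ ∨ K = M) :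
    IsMulCommutative M ∧ MulAction.IsPretransitive M Ω ∧ (∀ ω : Ω, MulAction.stabilizer M ω = ⊥) ∧
      ∀ ω : Ω, IsCoatom (MulAction.stabilizer G ω) := by
  have hMin : IsMinNormal M := ⟨hMn, hM, hmin⟩
  obtain ⟨hab, -⟩ := minimal_solvable_elementary hMin inferInstance
  have hnt : Nontrivial Ω := by
    by_contra h
    rw [not_nontrivial_iff_subsingleton] at h
    obtain ⟨m, hm, hm1⟩ := M.bot_or_exists_ne_one.resolve_left hM
    exact hm1 (eq_of_smul_eq_smul fun ω : Ω => Subsingleton.elim _ _)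
  have hco : ∀ ω : Ω, IsCoatom (MulAction.stabilizer G ω) := fun ω =>
    MulAction.IsPreprimitive.isCoatom_stabilizer_of_isPreprimitive G ω
  have htrans : MulAction.IsPretransitive M Ω := by
    refine ⟨fun a b => ?_⟩
    have hnle : ¬ M ≤ MulAction.stabilizer G a := by
      intro hle
      obtain ⟨m, hm, hm1⟩ := M.bot_or_exists_ne_one.resolve_left hM
      refine hm1 (eq_of_smul_eq_smul fun ω : Ω => ?_)
      obtain ⟨g, rfl⟩ := MulAction.exists_smul_eq G a ω
      have h := hle (hMn.conj_mem m hm g⁻¹)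
      rw [MulAction.mem_stabilizer_iff, inv_inv, mul_smul, mul_smul, inv_smul_eq_iff] at h
      rw [one_smul]; exact h
    have htop : M ⊔ MulAction.stabilizer G a = ⊤ := (hco a).2 _ (right_lt_sup.2 hnle)
    obtain ⟨g, rfl⟩ := MulAction.exists_smul_eq G a b
    obtain ⟨m, hm, s, hs, rfl⟩ := mem_sup_of_normal_left.1 (htop ▸ mem_top g)
    refine ⟨⟨m, hm⟩, ?_⟩
    rw [mul_smul, MulAction.mem_stabilizer_iff.1 hs]; rfl
  refine ⟨hab, htrans, fun ω => eq_bot_iff.2 fun m hm => Subgroup.mem_bot.2 (Subtype.ext ?_), hco⟩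
  refine eq_of_smul_eq_smul fun α : Ω => ?_
  obtain ⟨n, rfl⟩ := MulAction.exists_smul_eq M ω α
  have h : m • (n • ω) = n • ω := by
    rw [smul_smul, mul_comm' m n, mul_smul, MulAction.mem_stabilizer_iff.1 hm]
  simpa using! h

end Action

end Cfsg.Lib.Solv
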