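import Cfsg.Agent.Lib.Core.Layer
import Cfsg.Agent.Lib.Core.Cores
import Cfsg.Agent.Lib.Solv.Hall
import Mathlib.GroupTheory.SchurZassenhaus

/-!
# Groups whose `p'`-subgroups are abelian of exponent dividing `p - 1`

The class is closed under subgroups and quotients; structure of the solvable members.
-/

set_option autoImplicit false

namespace Cfsg.Lib.AbelianPPrime

open Subgroup

universe u v

variable {G : Type u} [Group G] {p : ℕ}

/-- All `p'`-subgroups are abelian of exponent dividing `p - 1`. -/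
def Hyp (p : ℕ) (G : Type u) [Group G] : Prop :=
  ∀ H : Subgroup G, (Nat.card ↥H).Coprime p → IsMulCommutative ↥H ∧ ∀ x ∈ H, x ^ (p - 1) = 1

theorem Hyp.of_injective {K : Type v} [Group K] (f : K →* G) (hf : Function.Injective f)
    (h : Hyp p G) : Hyp p K := by
  intro H hH
  obtain ⟨h1, h2⟩ := h (H.map f) (by rwa [card_map_of_injective hf])
  refine ⟨⟨⟨fun a b => Subtype.ext (hf ?_)⟩⟩, fun x hx => hf ?_⟩
  · have := congrArg Subtype.val
      (h1.is_comm.comm ⟨f a, mem_map_of_mem f a.2⟩ ⟨f b, mem_map_of_mem f b.2⟩)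
    simpa using this
  · simpa using h2 (f x) (mem_map_of_mem f hx)

/-- A `p'`-subgroup of a homomorphic image is the image of a `p'`-subgroup. -/
theorem exists_coprime_lift [Finite G] [hp : Fact p.Prime] {K : Type v} [Group K] (f : G →* K)
    (hf : Function.Surjective f) (B : Subgroup K) (hB : (Nat.card B).Coprime p) :
    ∃ H : Subgroup G, (Nat.card H).Coprime p ∧ H.map f = B := by
  classical
  obtain ⟨H, hH, hmin⟩ := wellFounded_lt.has_min {H : Subgroup G | H.map f = B}
    ⟨B.comap f, map_comap_eq_self_of_surjective hf B⟩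
  refine ⟨H, ?_, hH⟩
  let g : H →* K := f.comp H.subtype
  have hfull : ∀ S : Subgroup H, S ⊔ g.ker = ⊤ → S = ⊤ := by
    intro S hS
    have h1 : (S.map H.subtype).map f = B := by
      have h2 : S.map g = (⊤ : Subgroup H).map g := by
        rw [← hS, Subgroup.map_sup, (Subgroup.map_eq_bot_iff g.ker).2 le_rfl, sup_bot_eq]
      rw [Subgroup.map_map]
      refine h2.trans ?_
      rw [← Subgroup.map_map, ← MonoidHom.range_eq_map, range_subtype]
      exact hH
    have h3 : S.map H.subtype = H :=
      eq_of_le_of_not_lt (map_subtype_le S) (hmin _ h1)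
    apply map_injective H.subtype_injective
    rw [h3, ← MonoidHom.range_eq_map, range_subtype]
  obtain ⟨P⟩ : Nonempty (Sylow p g.ker) := inferInstance
  have hN := hfull _ (Sylow.normalizer_sup_eq_top P)
  have hn : ((P : Subgroup g.ker).map g.ker.subtype).Normal := normalizer_eq_top_iff.mp hN
  set PK := (P : Subgroup g.ker).map g.ker.subtype with hPK
  have hrange : Nat.card g.range = Nat.card B := by
    rw [show g.range = B by
      rw [MonoidHom.range_comp, range_subtype]; exact hH]
  have hidx : PK.index.Coprime p := by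
    rw [← relIndex_mul_index (map_subtype_le (P : Subgroup g.ker)), index_ker, hrange]
    refine Nat.Coprime.mul_left ?_ hB
    rw [relIndex, subgroupOf, comap_map_eq_self_of_injective g.ker.subtype_injective]
    exact ((hp.out.coprime_iff_not_dvd).2 P.not_dvd_index).symm
  have hPKp : IsPGroup p PK := P.2.map _
  obtain ⟨a, ha⟩ := hPKp.exists_card_eq
  obtain ⟨C, hC⟩ := exists_right_complement'_of_coprime (N := PK)
    (by rw [ha]; exact (hidx.pow_right a).symm)
  have hPKle : PK ≤ g.ker := map_subtype_le _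
  have hCtop : C = ⊤ := by
    refine hfull C (top_le_iff.1 ?_)
    rw [← hC.sup_eq_top]
    exact sup_le (hPKle.trans le_sup_right) le_sup_left
  have hbot : PK = ⊥ := by
    have := hC.disjoint.eq_bot
    rwa [hCtop, inf_top_eq] at this
  have := PK.card_mul_index
  rw [hbot, card_bot, one_mul] at this
  rw [← this, ← hbot]
  exact hidx

theorem Hyp.of_surjective [Finite G] [hp : Fact p.Prime] {K : Type v} [Group K] (f : G →* K)
    (hf : Function.Surjective f) (h : Hyp p G) : Hyp p K := by
  intro B hB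
  obtain ⟨H, hH, rfl⟩ := exists_coprime_lift f hf B hB
  obtain ⟨h1, h2⟩ := h H hH
  refine ⟨⟨⟨fun a b => ?_⟩⟩, ?_⟩
  · obtain ⟨_, a, ha, rfl⟩ := a
    obtain ⟨_, b, hb, rfl⟩ := b
    refine Subtype.ext ?_
    have := congrArg Subtype.val (h1.is_comm.comm ⟨a, ha⟩ ⟨b, hb⟩)
    simpa using congrArg f this
  · rintro _ ⟨x, hx, rfl⟩
    rw [← map_pow, h2 x hx, map_one]

theorem le_of_index_pow [Finite G] [Fact p.Prime] {A B : Subgroup G} [B.Normal]
    (hA : (Nat.card A).Coprime p) (hB : (Nat.card B).Coprime p) {n : ℕ} (hi : A.index ∣ p ^ n) :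
    B ≤ A := by
  have h1 : (Nat.card ↥(A ⊔ B)).Coprime p :=
    (hA.mul_left hB).coprime_dvd_left (Core.card_sup_dvd_mul A B)
  have h2 : A.relIndex (A ⊔ B) ∣ Nat.card ↥(A ⊔ B) :=
    Dvd.intro_left _ (Core.card_mul_relIndex le_sup_left)
  have h3 : A.relIndex (A ⊔ B) ∣ p ^ n :=
    (relIndex_dvd_index_of_le le_sup_left).trans hi
  have h4 : A.relIndex (A ⊔ B) = 1 :=
    Nat.eq_one_of_dvd_coprimes (h1.pow_right n) h2 h3
  exact le_sup_right.trans (relIndex_eq_one.1 h4)

/-- In a solvable group with an abelian Hall `p'`-subgroup `A`, the subgroup `O_p(K) A` is normal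
and contains every `p`-subgroup normalised by `A`; those lie in `O_p(K)`. -/
theorem solvable_structure [Finite G] [Group.IsSolvable G] [hp : Fact p.Prime] (A : Subgroup G)
    [hA : IsMulCommutative A] (hc : (Nat.card A).Coprime p) {n : ℕ} (hi : A.index = p ^ n) :
    (Cfsg.pCore p G ⊔ A).Normal ∧
      ∀ D : Subgroup G, IsPGroup p D → A ≤ normalizer (D : Set G) → D ≤ Cfsg.pCore p G := by
  set f := QuotientGroup.mk' (Cfsg.pCore p G) with hf
  have hfs : Function.Surjective f := QuotientGroup.mk'_surjective _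
  have : Group.IsSolvable (G ⧸ Cfsg.pCore p G) := inferInstance
  set F := Cfsg.fittingSubgroup (G ⧸ Cfsg.pCore p G) with hF
  have hFn : F.Normal := Core.fittingSubgroup_normal' _
  have hFnil : Group.IsNilpotent F := Core.fittingSubgroup_isNilpotent _
  have hFc : (Nat.card F).Coprime p := by
    obtain ⟨P⟩ : Nonempty (Sylow p F) := inferInstance
    have hPn : (P : Subgroup F).Normal :=
      Sylow.normal_of_normalizerCondition Group.normalizerCondition_of_isNilpotent P
    have hb : (P : Subgroup F) = ⊥ := by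
      have h1 : (P : Subgroup F).map F.subtype ≤ ⊥ :=
        (map_mono (Core.le_pCore' hPn P.2)).trans
          ((Core.pCore_map_le_of_isSubnormal hFn.isSubnormal).trans_eq
            Core.pCore_quotient_pCore_eq_bot)
      exact (map_eq_bot_iff_of_injective _ F.subtype_injective).1 (le_bot_iff.1 h1)
    have := P.not_dvd_index
    rw [hb, index_bot] at this
    exact ((hp.out.coprime_iff_not_dvd).2 this).symm
  have hAc : (Nat.card (A.map f)).Coprime p := hc.coprime_dvd_left (card_map_dvd A f)
  have hAi : (A.map f).index ∣ p ^ n := hi ▸ index_map_dvd A hfs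
  have hFA : F ≤ A.map f := le_of_index_pow hAc hFc hAi
  have hcomm : ∀ a ∈ A.map f, ∀ b ∈ A.map f, a * b = b * a := by
    rintro _ ⟨a, ha, rfl⟩ _ ⟨b, hb, rfl⟩
    rw [← map_mul, ← map_mul]
    exact congrArg f (congrArg Subtype.val (hA.is_comm.comm ⟨a, ha⟩ ⟨b, hb⟩))
  have hcen : centralizer (F : Set (G ⧸ Cfsg.pCore p G)) ≤ F :=
    Core.centralizer_fitting_le_of_isSolvable
  have hAF : A.map f = F := le_antisymm
    (fun a ha => hcen (mem_centralizer_iff.2 fun b hb => hcomm b (hFA hb) a ha)) hFA
  constructor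
  · have : (A.map f).comap f = Cfsg.pCore p G ⊔ A := by
      rw [comap_map_eq, hf, QuotientGroup.ker_mk', sup_comm]
    rw [← this, hAF]
    exact hFn.comap f
  · intro D hD hAD
    have hN : A.map f ≤ normalizer ((D.map f : Subgroup _) : Set _) :=
      (map_mono hAD).trans (le_normalizer_map f)
    have hdisj : D.map f ⊓ F = ⊥ := by
      refine disjoint_iff.1 (disjoint_of_coprime_natCard ?_)
      obtain ⟨k, hk⟩ := (hD.map f).exists_card_eq
      rw [hk]
      exact (hFc.pow_right k).symm
    have h1 : D.map f ≤ ⊥ := by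
      intro d hd
      rw [← hdisj]
      refine ⟨hd, hcen (mem_centralizer_iff.2 fun a ha => ?_)⟩
      have h2 : d * a * d⁻¹ * a⁻¹ ∈ D.map f ⊓ F := by
        refine ⟨?_, mul_mem (hFn.conj_mem a ha d) (F.inv_mem ha)⟩
        have := (mem_normalizer_iff.1 (hN (hAF ▸ ha)) d⁻¹).1 (Subgroup.inv_mem _ hd)
        have h3 := mul_mem hd this
        simpa [mul_assoc] using h3
      rw [hdisj, mem_bot, mul_inv_eq_one, mul_inv_eq_iff_eq_mul] at h2
      exact h2.symm
    have := (map_eq_bot_iff D).1 (le_bot_iff.1 h1)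
    rwa [hf, QuotientGroup.ker_mk'] at this

end Cfsg.Lib.AbelianPPrime
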