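import Cfsg.Agent.Lib.Solv.AbelianPPrimeBasic
import Cfsg.Agent.Lib.Fusion.Abelian
import Cfsg.Agent.Lib.Coprime.Generation

/-!
# A simple group whose `p'`-subgroups are abelian of exponent dividing `p - 1`: local structure
-/

set_option autoImplicit false

namespace Cfsg.Lib.AbelianPPrime

open Subgroup
open scoped commutatorElement

set_option linter.unusedSectionVars false

universe u

variable {G : Type u} [Group G] {p : ℕ}

/-- The situation of a minimal nonsolvable example. -/
structure MinCase (p : ℕ) (G : Type u) [Group G] : Prop where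
  hyp : Hyp p G
  simple : IsSimpleGroup G
  nsol : ¬ Group.IsSolvable G
  sol : ∀ H : Subgroup G, H ≠ ⊤ → Group.IsSolvable H
  five : 5 ≤ p

/-- `O_p(H)` as a subgroup of the ambient group. -/
def opIn (p : ℕ) (H : Subgroup G) : Subgroup G :=
  (Cfsg.pCore p H).map H.subtype

/-- A maximal `p'`-subgroup. -/
def IsMaxPPrime (p : ℕ) (A : Subgroup G) : Prop :=
  (Nat.card A).Coprime p ∧ ∀ B : Subgroup G, A ≤ B → (Nat.card B).Coprime p → B = A

theorem opIn_le (H : Subgroup G) : opIn p H ≤ H := map_subtype_le _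

theorem le_normalizer_of_mem {H K : Subgroup G} (h : ∀ x ∈ H, ∀ y ∈ K, x * y * x⁻¹ ∈ K) :
    H ≤ normalizer (K : Set G) :=
  Subgroup.le_normalizer_iff.2 h

theorem le_normalizer_opIn (H : Subgroup G) : H ≤ normalizer (opIn p H : Set G) := by
  refine le_normalizer_of_mem fun x hx y hy => ?_
  obtain ⟨z, hz, rfl⟩ := hy
  exact ⟨⟨x, hx⟩ * z * ⟨x, hx⟩⁻¹,
    (inferInstance : (Cfsg.pCore p H).Normal).conj_mem z hz ⟨x, hx⟩, rfl⟩

variable [Finite G] [hp : Fact p.Prime]

theorem isPGroup_opIn (H : Subgroup G) : IsPGroup p (opIn p H) :=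
  (Core.pCore_isPGroup p H).map _

omit [Finite G] in
theorem coprime_of_isPGroup_prime {r : ℕ} [hr : Fact r.Prime] (hne : r ≠ p) {H : Subgroup G}
    [Finite H] (hH : IsPGroup r H) : (Nat.card H).Coprime p := by
  obtain ⟨k, hk⟩ := hH.exists_card_eq
  rw [hk]
  exact ((Nat.coprime_primes hr.out hp.out).2 hne).pow_left k

theorem inf_eq_bot_of_pGroup_coprime {P A : Subgroup G} (hP : IsPGroup p P)
    (hA : (Nat.card A).Coprime p) : P ⊓ A = ⊥ := by
  obtain ⟨k, hk⟩ := hP.exists_card_eq
  refine disjoint_iff.1 (disjoint_of_coprime_natCard ?_)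
  rw [hk]
  exact (hA.pow_right k).symm

namespace MinCase

variable (h : MinCase p G)
include h

theorem center_eq_bot : center G = ⊥ := by
  have := h.simple
  refine ((inferInstance : (center G).Normal).eq_bot_or_eq_top).resolve_right fun ht => h.nsol ?_
  exact Group.isSolvable_of_comm fun a b =>
    (mem_center_iff.1 (ht ▸ mem_top a : a ∈ center G) b).symm

theorem commutator_eq_top : commutator G = ⊤ := by
  have := h.simple
  refine ((inferInstance : (commutator G).Normal).eq_bot_or_eq_top).resolve_left fun hb => h.nsol ?_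
  refine Group.isSolvable_of_comm fun a b => ?_
  have h1 : ⁅a, b⁆ ∈ commutator G := commutator_mem_commutator (mem_top a) (mem_top b)
  rw [hb, mem_bot] at h1
  exact commutatorElement_eq_one_iff_mul_comm.1 h1

theorem normalizer_ne_top {H : Subgroup G} (h1 : H ≠ ⊥) (h2 : H ≠ ⊤) :
    normalizer (H : Set G) ≠ ⊤ := by
  intro hN
  have := h.simple
  rcases (normalizer_eq_top_iff.1 hN).eq_bot_or_eq_top with e | e
  exacts [h1 e, h2 e]

theorem centralizer_ne_top {x : G} (hx : x ≠ 1) : centralizer ({x} : Set G) ≠ ⊤ := by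
  intro hC
  have h1 : x ∈ center G := mem_center_iff.2 fun g => by
    have := mem_centralizer_singleton_iff.1 (hC ▸ mem_top g : g ∈ centralizer ({x} : Set G))
    exact this
  rw [h.center_eq_bot, mem_bot] at h1
  exact hx h1

theorem ne_top_of_solvable {H : Subgroup G} (hH : Group.IsSolvable H) : H ≠ ⊤ := by
  rintro rfl
  exact h.nsol (Group.isSolvable_of_surjective (f := (Subgroup.topEquiv (G := G)).toMonoidHom)
    (Subgroup.topEquiv (G := G)).surjective)

theorem ne_top_of_coprime {H : Subgroup G} (hH : (Nat.card H).Coprime p) : H ≠ ⊤ :=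
  h.ne_top_of_solvable (have := (h.hyp H hH).1; Core.isSolvable_of_isMulCommutative H)

theorem ne_top_of_pGroup {H : Subgroup G} (hH : IsPGroup p H) : H ≠ ⊤ :=
  h.ne_top_of_solvable (have := hH.isNilpotent; inferInstance)

theorem dvd_sub_one {r : ℕ} (hr : r.Prime) (hne : r ≠ p) (hd : r ∣ Nat.card G) : r ∣ p - 1 := by
  have := Fact.mk hr
  obtain ⟨g, hg⟩ := exists_prime_orderOf_dvd_card' r hd
  have h1 : (Nat.card (zpowers g)).Coprime p := by
    rw [Nat.card_zpowers, hg]
    exact (Nat.coprime_primes hr hp.out).2 hne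
  rw [← hg]
  exact orderOf_dvd_of_pow_eq_one ((h.hyp _ h1).2 g (mem_zpowers g))

theorem lt_prime {r : ℕ} (hr : r.Prime) (hne : r ≠ p) (hd : r ∣ Nat.card G) : r < p := by
  have := Nat.le_of_dvd (by have := h.five; omega) (h.dvd_sub_one hr hne hd)
  have := h.five
  omega

theorem exists_relIndex_pow {A H : Subgroup G} (hA : IsMaxPPrime p A) (hle : A ≤ H)
    (hH : H ≠ ⊤) : ∃ n : ℕ, A.relIndex H = p ^ n := by
  have := h.sol H hH
  have hN : Nat.card H ≠ 0 := Nat.card_pos.ne'
  have hcop : ((Nat.card H / p ^ (Nat.card H).factorization p)).Coprime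
      (p ^ (Nat.card H).factorization p) :=
    ((Nat.coprime_ordCompl hp.out hN).pow_left _).symm
  have hmul : Nat.card H = (Nat.card H / p ^ (Nat.card H).factorization p) *
      p ^ (Nat.card H).factorization p :=
    (Nat.div_mul_cancel (Nat.ordProj_dvd _ _)).symm
  obtain ⟨H1, hH1, hAH1⟩ := Solv.hall_dominance hmul hcop (K := A.subgroupOf H)
    (by rw [Nat.card_congr (subgroupOfEquivOfLe hle).toEquiv]; exact hA.1.pow_right _)
  have h1 : H1.map H.subtype = A := by
    refine hA.2 _ ?_ ?_
    · calc A = (A.subgroupOf H).map H.subtype := by rw [map_subgroupOf_eq_of_le hle]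
        _ ≤ H1.map H.subtype := map_mono hAH1
    · rw [Core.card_map_subtype, hH1]
      exact (Nat.coprime_ordCompl hp.out hN).symm
  refine ⟨(Nat.card H).factorization p, ?_⟩
  have h2 : H1.index = p ^ (Nat.card H).factorization p := by
    have h3 := H1.card_mul_index
    rw [hH1] at h3
    exact Nat.eq_of_mul_eq_mul_left (hH1 ▸ Nat.card_pos) (h3.trans hmul)
  rw [← h2, ← h1, relIndex, subgroupOf, comap_map_eq_self_of_injective H.subtype_injective]

/-- `O_p(H) A` is normal in `H`, and `A`-invariant `p`-subgroups of `H` lie in `O_p(H)`. -/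
theorem hall_structure {A H : Subgroup G} (hA : IsMaxPPrime p A) (hle : A ≤ H) (hH : H ≠ ⊤) :
    H ≤ normalizer ((opIn p H ⊔ A : Subgroup G) : Set G) ∧
      ∀ D : Subgroup G, IsPGroup p D → D ≤ H → A ≤ normalizer (D : Set G) → D ≤ opIn p H := by
  have := h.sol H hH
  obtain ⟨n, hn⟩ := h.exists_relIndex_pow hA hle hH
  have hAc : IsMulCommutative A := (h.hyp A hA.1).1
  have : IsMulCommutative (A.subgroupOf H) :=
    ⟨⟨fun a b => Subtype.ext (Subtype.ext
      (congrArg Subtype.val (hAc.is_comm.comm ⟨(a : H).1, a.2⟩ ⟨(b : H).1, b.2⟩) :))⟩⟩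
  obtain ⟨h1, h2⟩ := solvable_structure (p := p) (A.subgroupOf H)
    (by rw [Nat.card_congr (subgroupOfEquivOfLe hle).toEquiv]; exact hA.1)
    (n := n) hn
  constructor
  · have e : (Cfsg.pCore p H ⊔ A.subgroupOf H).map H.subtype = opIn p H ⊔ A := by
      rw [Subgroup.map_sup, map_subgroupOf_eq_of_le hle]; rfl
    rw [← e]
    refine le_normalizer_of_mem ?_
    rintro x hx _ ⟨y, hy, rfl⟩
    exact ⟨⟨x, hx⟩ * y * ⟨x, hx⟩⁻¹, h1.conj_mem y hy ⟨x, hx⟩, rfl⟩
  · intro D hD hDH hAD
    have hn' : A.subgroupOf H ≤ normalizer ((D.subgroupOf H : Subgroup H) : Set H) :=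
      le_normalizer_of_mem fun a ha d hd =>
        Subgroup.le_normalizer_iff.1 hAD _ ha _ hd
    have hDp : IsPGroup p (D.subgroupOf H) :=
      hD.of_equiv (subgroupOfEquivOfLe hDH).symm
    calc D = (D.subgroupOf H).map H.subtype := (map_subgroupOf_eq_of_le hDH).symm
      _ ≤ opIn p H := map_mono (h2 _ hDp hn')

/-- The Sylow `r`-subgroups for `r ≠ p`. -/
theorem sylow_facts {r : ℕ} [hr : Fact r.Prime] (hne : r ≠ p) (hd : r ∣ Nat.card G)
    (R : Sylow r G) :
    IsMulCommutative (R : Subgroup G) ∧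
      ∃ P0 : Subgroup G, IsPGroup p P0 ∧ P0 ≤ normalizer ((R : Subgroup G) : Set G) ∧
        ∀ y ∈ (R : Subgroup G), (∀ t ∈ P0, t * y = y * t) → y = 1 := by
  have hRc : (Nat.card (R : Subgroup G)).Coprime p := coprime_of_isPGroup_prime hne R.2
  have hRa : IsMulCommutative (R : Subgroup G) := (h.hyp _ hRc).1
  refine ⟨hRa, ?_⟩
  set N := normalizer ((R : Subgroup G) : Set G) with hN
  have hR1 : (R : Subgroup G) ≠ ⊥ := R.ne_bot_of_dvd_card hd
  have hNt : N ≠ ⊤ := h.normalizer_ne_top hR1 (h.ne_top_of_coprime hRc)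
  have := h.simple
  -- `R ≤ N'`
  have hres : Cfsg.pResidual r G = ⊤ := by
    have hn : (Cfsg.pResidual r G).Normal := by
      refine ⟨fun x hx g => ?_⟩
      have : (Cfsg.pResidual r G).map (MulAut.conj g).toMonoidHom ≤ Cfsg.pResidual r G := by
        rw [Cfsg.pResidual, MonoidHom.map_closure]
        refine closure_mono ?_
        rintro _ ⟨y, hy, rfl⟩
        show (orderOf (MulAut.conj g y)).Coprime r
        rwa [MulEquiv.orderOf_eq]
      exact this ⟨x, hx, rfl⟩
    refine top_le_iff.1 ?_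
    rw [← h.commutator_eq_top]
    exact Fusion.commutator_le_pResidual_of_abelian R
  have hRN : (R : Subgroup G) = ⁅(R : Subgroup G), N⁆ := by
    have := Fusion.pResidual_inf_eq_of_abelian R
    rwa [hres, top_inf_eq] at this
  -- a Hall `p'`-subgroup of `N` is abelian, so centralises `R`
  have := h.sol N hNt
  have hNc : Nat.card N ≠ 0 := Nat.card_pos.ne'
  have hcop : ((Nat.card N / p ^ (Nat.card N).factorization p)).Coprime
      (p ^ (Nat.card N).factorization p) :=
    ((Nat.coprime_ordCompl hp.out hNc).pow_left _).symm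
  have hmul : Nat.card N = (Nat.card N / p ^ (Nat.card N).factorization p) *
      p ^ (Nat.card N).factorization p :=
    (Nat.div_mul_cancel (Nat.ordProj_dvd _ _)).symm
  have hRle : (R : Subgroup G) ≤ N := le_normalizer
  obtain ⟨B, hB, hRB⟩ := Solv.hall_dominance hmul hcop (K := (R : Subgroup G).subgroupOf N)
    (by rw [Nat.card_congr (subgroupOfEquivOfLe hRle).toEquiv]; exact hRc.pow_right _)
  have hBc : (Nat.card (B.map N.subtype)).Coprime p := by
    rw [Core.card_map_subtype, hB]
    exact (Nat.coprime_ordCompl hp.out hNc).symm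
  obtain ⟨hBa, -⟩ := h.hyp _ hBc
  obtain ⟨P⟩ : Nonempty (Sylow p N) := inferInstance
  refine ⟨(P : Subgroup N).map N.subtype, P.2.map _, map_subtype_le _, fun y hy hfix => ?_⟩
  set y' : N := ⟨y, hRle hy⟩ with hy'
  have hgen : (P : Subgroup N) ⊔ B = ⊤ := by
    refine eq_top_of_card_eq _ (Nat.le_antisymm (card_le_card_group _) ?_)
    refine Nat.le_of_dvd Nat.card_pos ?_
    rw [hmul]
    refine hcop.mul_dvd_of_dvd_of_dvd (hB ▸ card_dvd_of_le le_sup_right) ?_
    rw [← P.card_eq_multiplicity]
    exact card_dvd_of_le le_sup_left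
  have hcen : y' ∈ center N := by
    rw [mem_center_iff]
    intro z
    have hz : z ∈ centralizer ({y'} : Set N) := by
      have : (⊤ : Subgroup N) ≤ centralizer ({y'} : Set N) := by
        rw [← hgen, sup_le_iff]
        constructor
        · intro t ht
          rw [mem_centralizer_singleton_iff]
          exact Subtype.ext (hfix t (mem_map_of_mem _ ht))
        · intro b hb
          rw [mem_centralizer_singleton_iff]
          have := congrArg Subtype.val (hBa.is_comm.comm
            ⟨(b : G), mem_map_of_mem _ hb⟩ ⟨y, mem_map_of_mem _ (hRB (show y' ∈ _ from hy))⟩)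
          exact Subtype.ext this
      exact this (mem_top z)
    exact mem_centralizer_singleton_iff.1 hz
  have hR' : IsMulCommutative (R.subtype hRle : Subgroup N) := by
    rw [Sylow.coe_subtype]
    exact ⟨⟨fun a b => Subtype.ext (Subtype.ext
      (congrArg Subtype.val (hRa.is_comm.comm ⟨(a : N).1, a.2⟩ ⟨(b : N).1, b.2⟩) :))⟩⟩
  have h0 := Fusion.inf_commutator_inf_center_eq_bot_sylow (R.subtype hRle)
  have hcomm : y' ∈ commutator N := by
    have h1 : (R : Subgroup G) ≤ (commutator N).map N.subtype := by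
      rw [map_subtype_commutator]
      exact hRN.le.trans (commutator_mono hRle le_rfl)
    obtain ⟨z, hz, hzy⟩ := h1 hy
    exact (Subtype.ext hzy : z = y') ▸ hz
  have h2 : y' ∈ (⊥ : Subgroup N) := h0 ▸ ⟨⟨(show y' ∈ _ from hy), hcomm⟩, hcen⟩
  exact congrArg Subtype.val (mem_bot.1 h2)

theorem sylow_card_modEq_one {r : ℕ} [hr : Fact r.Prime] (hne : r ≠ p) (hd : r ∣ Nat.card G)
    (R : Sylow r G) (E : Subgroup G) (hE : E ≤ R)
    (hinv : normalizer ((R : Subgroup G) : Set G) ≤ normalizer (E : Set G)) :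
    Nat.card E ≡ 1 [MOD p] := by
  classical
  obtain ⟨hRa, P0, hP0, hP0N, hfix⟩ := h.sylow_facts hne hd R
  let act : P0 →* MulAut E :=
    (normalizerMonoidHom E).comp (Subgroup.inclusion (hP0N.trans hinv))
  let : MulAction P0 E := MulAction.compHom _ act
  have h1 := hP0.card_modEq_card_fixedPoints E
  have h2 : MulAction.fixedPoints P0 E = ({1} : Set E) := by
    ext e
    simp only [MulAction.mem_fixedPoints, Set.mem_singleton_iff]
    constructor
    · intro he
      refine Subtype.ext (hfix e (hE e.2) fun t ht => ?_)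
      have := congrArg Subtype.val (he ⟨t, ht⟩)
      have h3 : t * (e : G) * t⁻¹ = e := this
      rwa [mul_inv_eq_iff_eq_mul] at h3
    · rintro rfl t
      exact map_one (act t)
  rw [h2] at h1
  simpa using h1

theorem ordCompl_modEq_one : Nat.card G / p ^ (Nat.card G).factorization p ≡ 1 [MOD p] := by
  classical
  set m := Nat.card G / p ^ (Nat.card G).factorization p with hm
  have hG : Nat.card G ≠ 0 := Nat.card_pos.ne'
  have hm0 : m ≠ 0 := (Nat.ordCompl_pos p hG).ne'
  rw [← Nat.prod_factorization_pow_eq_self hm0, Finsupp.prod]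
  refine Nat.modEq_iff_dvd.2 ?_ |>.trans rfl
  rw [← ZMod.intCast_eq_intCast_iff_dvd_sub]
  push_cast
  refine Finset.prod_eq_one fun r hr => ?_
  rw [Nat.support_factorization, Nat.mem_primeFactors] at hr
  obtain ⟨hrp, hrm, -⟩ := hr
  have hne : r ≠ p := by
    rintro rfl
    exact Nat.not_dvd_ordCompl hrp hG hrm
  have hd : r ∣ Nat.card G := hrm.trans (Nat.ordCompl_dvd _ _)
  have := Fact.mk hrp
  obtain ⟨R⟩ : Nonempty (Sylow r G) := inferInstance
  have h1 := h.sylow_card_modEq_one hne hd R R le_rfl le_rfl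
  rw [R.card_eq_multiplicity, ← ZMod.natCast_eq_natCast_iff] at h1
  have h2 : m.factorization r = (Nat.card G).factorization r := by
    rw [hm, Nat.factorization_ordCompl, Finsupp.erase_ne hne]
  rw [h2]
  simpa using h1

end MinCase

end Cfsg.Lib.AbelianPPrime
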