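import Cfsg.Agent.Lib.Solv.AbelianPPrimeMin

/-!
# The maximal `A`-invariant `p`-subgroup is unique

The transitivity argument for an abelian maximal `p'`-subgroup of rank at least three.
-/

set_option autoImplicit false
set_option linter.unusedSectionVars false

namespace Cfsg.Lib.AbelianPPrime

open Subgroup

universe u

variable {G : Type u} [Group G] {p : ℕ} [Finite G] [hp : Fact p.Prime]

theorem card_le_mul_of_cocyclic {E B : Subgroup G} [hE : IsMulCommutative E] {a : G} (hBE : B ≤ E)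
    (ha : a ∈ E) (hsup : B ⊔ zpowers a = E) : Nat.card E ≤ Nat.card B * orderOf a := by
  rw [← Nat.card_zpowers, ← Nat.card_prod]
  have hc : B ≤ normalizer (zpowers a : Set G) := Subgroup.le_normalizer_iff.2 fun b hb z hz => by
    have := congrArg Subtype.val
      (hE.is_comm.comm ⟨b, hBE hb⟩ ⟨z, (zpowers_le.2 ha) hz⟩)
    have h1 : b * z = z * b := this
    rwa [h1, mul_inv_cancel_right]
  refine Nat.card_le_card_of_surjective
    (fun q : B × zpowers a => (⟨(q.1 : G) * q.2, E.mul_mem (hBE q.1.2) ((zpowers_le.2 ha) q.2.2)⟩ : E))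
    fun e => ?_
  obtain ⟨b, hb, z, hz, hbz⟩ := (Core.mem_sup_of_le_normalizer hc).1 (hsup.ge e.2)
  exact ⟨(⟨b, hb⟩, ⟨z, hz⟩), Subtype.ext hbz⟩

theorem exists_mem_inf_of_card_lt {E B₁ B₂ : Subgroup G} (h₁ : B₁ ≤ E) (h₂ : B₂ ≤ E)
    (hlt : Nat.card E < Nat.card B₁ * Nat.card B₂) : ∃ x ∈ B₁ ⊓ B₂, x ≠ 1 := by
  refine (bot_or_exists_ne_one _).resolve_left fun hb => hlt.not_ge ?_
  rw [← Nat.card_prod]
  refine Nat.card_le_card_of_injective
    (fun q : B₁ × B₂ => (⟨(q.1 : G) * q.2, E.mul_mem (h₁ q.1.2) (h₂ q.2.2)⟩ : E)) ?_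
  intro x y hxy
  have := congrArg Subtype.val hxy
  exact mul_injective_of_disjoint (disjoint_iff.2 hb) this

namespace MinCase

variable (h : MinCase p G)
include h

/-- There is exactly one maximal `A`-invariant `p`-subgroup. -/
theorem exists_max_invariant {A : Subgroup G} (hA : IsMaxPPrime p A) {r : ℕ} (hr : r.Prime)
    (E : Subgroup G) (hEA : E ≤ A) (hexp : ∀ y ∈ E, y ^ r = 1) (hcard : r ^ 3 ≤ Nat.card E) :
    ∃ Q : Subgroup G, IsPGroup p Q ∧ A ≤ normalizer (Q : Set G) ∧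
      ∀ D : Subgroup G, IsPGroup p D → A ≤ normalizer (D : Set G) → D ≤ Q := by
  classical
  let S : Set (Subgroup G) := {Q | IsPGroup p Q ∧ A ≤ normalizer (Q : Set G)}
  have hbot : (⊥ : Subgroup G) ∈ S := ⟨IsPGroup.of_bot, le_normalizer_of_normal⟩
  have hAa : IsMulCommutative A := (h.hyp A hA.1).1
  have hcommA : ∀ a ∈ A, ∀ b ∈ A, a * b = b * a := fun a ha b hb =>
    congrArg Subtype.val (hAa.is_comm.comm ⟨a, ha⟩ ⟨b, hb⟩)
  have hEa : IsMulCommutative E :=
    ⟨⟨fun a b => Subtype.ext (hcommA _ (hEA a.2) _ (hEA b.2))⟩⟩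
  have hext : ∀ {Q : Subgroup G}, Q ∈ S → ∃ Q', Maximal (· ∈ S) Q' ∧ Q ≤ Q' := fun {Q} hQ => by
    obtain ⟨Q', h1, h2⟩ := Finite.exists_le_maximal (p := (· ∈ S)) hQ
    exact ⟨Q', h2, h1⟩
  suffices key : ∀ D Q₁ Q₂ : Subgroup G, Maximal (· ∈ S) Q₁ → Maximal (· ∈ S) Q₂ →
      Q₁ ⊓ Q₂ = D → Q₁ = Q₂ by
    obtain ⟨Q, hQ, -⟩ := hext hbot
    refine ⟨Q, hQ.prop.1, hQ.prop.2, fun D hD hAD => ?_⟩
    obtain ⟨Q', hQ', hDQ'⟩ := hext (Q := D) ⟨hD, hAD⟩
    exact key _ Q' Q hQ' hQ rfl ▸ hDQ'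
  intro D
  induction D using WellFoundedGT.induction with
  | ind D ih =>
    intro Q₁ Q₂ m₁ m₂ hD
    -- a proper subgroup containing `A` which meets both in more than `D` forces equality
    have finish : ∀ H : Subgroup G, A ≤ H → H ≠ ⊤ →
        (D < Q₁ ⊓ H) → (D < Q₂ ⊓ H) → Q₁ = Q₂ := by
      intro H hAH hH l₁ l₂
      obtain ⟨-, hst⟩ := h.hall_structure hA hAH hH
      have hinv : ∀ Q ∈ S, A ≤ normalizer ((Q ⊓ H : Subgroup G) : Set G) := fun Q hQ =>
        (le_inf hQ.2 (hAH.trans le_normalizer)).trans inf_normalizer_le_normalizer_inf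
      have hO : opIn p H ∈ S := ⟨isPGroup_opIn H, hAH.trans (le_normalizer_opIn H)⟩
      obtain ⟨Q₃, m₃, hle⟩ := hext hO
      have e₁ : Q₁ = Q₃ := by
        refine ih (Q₁ ⊓ Q₃) (lt_of_lt_of_le l₁ (le_inf inf_le_left ?_)) Q₁ Q₃ m₁ m₃ rfl
        exact (hst _ (m₁.prop.1.to_le inf_le_left) inf_le_right (hinv _ m₁.prop)).trans hle
      have e₂ : Q₂ = Q₃ := by
        refine ih (Q₂ ⊓ Q₃) (lt_of_lt_of_le l₂ (le_inf inf_le_left ?_)) Q₂ Q₃ m₂ m₃ rfl
        exact (hst _ (m₂.prop.1.to_le inf_le_left) inf_le_right (hinv _ m₂.prop)).trans hle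
      rw [e₁, e₂]
    by_cases hD1 : Q₁ ≤ Q₂
    · exact m₁.eq_of_le m₂.prop hD1
    by_cases hD2 : Q₂ ≤ Q₁
    · exact (m₂.eq_of_le m₁.prop hD2).symm
    by_cases hb : D = ⊥
    · subst hb
      have hcop : ∀ Q ∈ S, (Nat.card E).Coprime (Nat.card Q) := fun Q hQ => by
        obtain ⟨k, hk⟩ := hQ.1.exists_card_eq
        rw [hk]
        exact (Core.coprime_card_of_le hEA hA.1).pow_right k
      have hfix : ∀ Q ∈ S, ¬ Q ≤ (⊥ : Subgroup G) → ∃ B ∈ Coprime.cocyclic E,
          (⊥ : Subgroup G) < Q ⊓ centralizer (B : Set G) := by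
        intro Q hQ hne
        by_contra hcon
        push Not at hcon
        refine hne ((Coprime.le_iSup_centralizer_cocyclic Q (hEA.trans hQ.2) (hcop Q hQ)).trans
          (iSup₂_le fun B hB => ?_))
        by_contra hB'
        exact hcon B hB (lt_of_le_not_ge bot_le hB')
      obtain ⟨B₁, ⟨hB1E, a₁, ha₁, hs₁⟩, l₁⟩ := hfix Q₁ m₁.prop fun hle => hD1 (hle.trans bot_le)
      obtain ⟨B₂, ⟨hB2E, a₂, ha₂, hs₂⟩, l₂⟩ := hfix Q₂ m₂.prop fun hle => hD2 (hle.trans bot_le)
      have c₁ := (card_le_mul_of_cocyclic hB1E ha₁ hs₁).trans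
        (Nat.mul_le_mul_left _ (orderOf_le_of_pow_eq_one hr.pos (hexp a₁ ha₁)))
      have c₂ := (card_le_mul_of_cocyclic hB2E ha₂ hs₂).trans
        (Nat.mul_le_mul_left _ (orderOf_le_of_pow_eq_one hr.pos (hexp a₂ ha₂)))
      have hlt : Nat.card E < Nat.card B₁ * Nat.card B₂ := by
        by_contra hcon
        push Not at hcon
        have h4 : Nat.card E * Nat.card E ≤ Nat.card E * (r * r) :=
          calc Nat.card E * Nat.card E ≤ Nat.card B₁ * r * (Nat.card B₂ * r) :=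
                Nat.mul_le_mul c₁ c₂
            _ = Nat.card B₁ * Nat.card B₂ * (r * r) := by ring
            _ ≤ Nat.card E * (r * r) := Nat.mul_le_mul_right _ hcon
        have h5 := hcard.trans (Nat.le_of_mul_le_mul_left h4 Nat.card_pos)
        have h6 : r * r < r ^ 3 := by
          have := hr.two_le
          nlinarith [mul_pos hr.pos hr.pos]
        omega
      obtain ⟨x, hx, hx1⟩ := exists_mem_inf_of_card_lt hB1E hB2E hlt
      have hAx : A ≤ centralizer ({x} : Set G) := fun a ha =>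
        mem_centralizer_singleton_iff.2 (hcommA a ha x (hEA (hB1E hx.1)))
      refine finish _ hAx (h.centralizer_ne_top hx1) (l₁.trans_le ?_) (l₂.trans_le ?_)
      · exact inf_le_inf le_rfl (centralizer_le (Set.singleton_subset_iff.2 hx.1))
      · exact inf_le_inf le_rfl (centralizer_le (Set.singleton_subset_iff.2 hx.2))
    · have hDp : IsPGroup p D := hD ▸ m₁.prop.1.to_le inf_le_left
      have hAD : A ≤ normalizer (D : Set G) := hD ▸
        (le_inf m₁.prop.2 m₂.prop.2).trans inf_normalizer_le_normalizer_inf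
      have grow : ∀ Q : Subgroup G, IsPGroup p Q → D < Q →
          D < Q ⊓ normalizer (D : Set G) := by
        intro Q hQ hlt
        refine lt_of_le_not_ge (le_inf hlt.le le_normalizer) fun hle => ?_
        have := hQ.isNilpotent
        have hne : D.subgroupOf Q < ⊤ :=
          lt_top_iff_ne_top.2 fun e => hlt.not_ge (subgroupOf_eq_top.1 e)
        have h2 := Group.normalizerCondition_of_isNilpotent _ hne
        refine h2.not_ge fun y hy => ?_
        refine hle ⟨y.2, Fusion.le_normalizer_of_conj_mem fun d hd => ?_⟩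
        exact (mem_normalizer_iff.1 hy ⟨d, hlt.le hd⟩).1 hd
      refine finish _ hAD (h.normalizer_ne_top hb (h.ne_top_of_pGroup hDp)) ?_ ?_
      · exact grow Q₁ m₁.prop.1
          (lt_of_le_not_ge (hD ▸ inf_le_left) fun hle => hD1 (hle.trans (hD ▸ inf_le_right)))
      · exact grow Q₂ m₂.prop.1
          (lt_of_le_not_ge (hD ▸ inf_le_right) fun hle => hD2 (hle.trans (hD ▸ inf_le_left)))

end MinCase

end Cfsg.Lib.AbelianPPrime
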