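import Cfsg.Agent.Lib.Solv.SystemQuotient
import Cfsg.Agent.Lib.Core.Fitting
import Cfsg.Agent.Lib.Core.PSolvable

/-!
# Carter subgroups and system normalizers
-/

set_option autoImplicit false

namespace Cfsg.Lib.Carter

open Subgroup Cfsg
open scoped Pointwise commutatorElement

universe u

variable {G : Type u} [Group G]

/-- A self-normalizing nilpotent subgroup of a nilpotent group is the whole group. -/
theorem eq_top_of_nilpotent [Finite G] (hG : Group.IsNilpotent G) {C : Subgroup G}
    (hC : IsCarterSubgroup C) : C = ⊤ := by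
  by_contra hne
  have h := Group.normalizerCondition_of_isNilpotent (G := G) C (lt_top_iff_ne_top.2 hne)
  exact h.ne' hC.2

theorem carter_subgroupOf {C L : Subgroup G} (hC : IsCarterSubgroup C) (hle : C ≤ L) :
    IsCarterSubgroup (C.subgroupOf L) := by
  haveI := hC.1
  refine ⟨Group.nilpotent_of_mulEquiv (subgroupOfEquivOfLe hle).symm, le_antisymm (fun x hx => ?_) le_normalizer⟩
  rw [mem_subgroupOf]
  refine hC.2.le ?_
  rw [Cfsg.Lib.Core.mem_normalizer_iff_map_conj] at hx ⊢
  have h2 := congrArg (Subgroup.map L.subtype) hx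
  rw [Subgroup.map_map, show L.subtype.comp (MulAut.conj x).toMonoidHom =
      (MulAut.conj (x : G)).toMonoidHom.comp L.subtype from MonoidHom.ext fun _ => rfl,
    ← Subgroup.map_map, map_subgroupOf_eq_of_le hle] at h2
  exact h2

theorem carter_map_subtype {L : Subgroup G} {C : Subgroup L} (hC : IsCarterSubgroup C)
    (hN : ∀ g ∈ Subgroup.normalizer ((C.map L.subtype : Subgroup G) : Set G), g ∈ L) :
    IsCarterSubgroup (C.map L.subtype) := by
  haveI := hC.1
  refine ⟨Group.nilpotent_of_mulEquiv (C.equivMapOfInjective _ L.subtype_injective),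
    le_antisymm (fun g hg => ?_) le_normalizer⟩
  have hgL := hN g hg
  refine ⟨⟨g, hgL⟩, hC.2.le ?_, rfl⟩
  rw [Cfsg.Lib.Core.mem_normalizer_iff_map_conj]
  rw [Cfsg.Lib.Core.mem_normalizer_iff_map_conj, Subgroup.map_map,
    show (MulAut.conj g).toMonoidHom.comp L.subtype =
      L.subtype.comp (MulAut.conj (⟨g, hgL⟩ : L)).toMonoidHom from MonoidHom.ext fun _ => rfl,
    ← Subgroup.map_map] at hg
  exact Subgroup.map_injective L.subtype_injective hg

theorem carter_conj {C : Subgroup G} (hC : IsCarterSubgroup C) (g : G) :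
    IsCarterSubgroup (C.map (MulAut.conj g).toMonoidHom) := by
  haveI := hC.1
  refine ⟨Cfsg.Lib.Core.isNilpotent_map hC.1 _, le_antisymm (fun x hx => ?_) le_normalizer⟩
  refine ⟨g⁻¹ * x * g, hC.2.le ?_, by simp [mul_assoc]⟩
  rw [Cfsg.Lib.Core.mem_normalizer_iff_map_conj] at hx ⊢
  have h2 := congrArg (Subgroup.map (MulAut.conj g⁻¹).toMonoidHom) hx
  rw [Subgroup.map_map, Subgroup.map_map, Subgroup.map_map] at h2
  have e1 : ((MulAut.conj g⁻¹).toMonoidHom.comp (MulAut.conj x).toMonoidHom).comp (MulAut.conj g).toMonoidHom =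
      (MulAut.conj (g⁻¹ * x * g)).toMonoidHom := by
    ext z; simp [mul_assoc]
  have e2 : (MulAut.conj g⁻¹).toMonoidHom.comp (MulAut.conj g).toMonoidHom = MonoidHom.id G := by
    ext z; simp [mul_assoc]
  rwa [e1, e2, Subgroup.map_id] at h2

variable [Finite G]

/-- If `N` is an abelian minimal normal subgroup and `C` a Carter subgroup with `C ⊔ N = ⊤` in a
non-nilpotent group, then `C` is a maximal complement and the normalizer of one of its Sylow
subgroups. -/
theorem carter_sylow_normalizer [Group.IsSolvable G] {N : Subgroup G}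
    (hN : Cfsg.Lib.Core.IsMinNormal N) {C : Subgroup G} (hC : IsCarterSubgroup C) (htop : C ⊔ N = ⊤)
    (hG : ¬ Group.IsNilpotent G) {q : ℕ} [hq : Fact q.Prime] (hqN : ¬ q ∣ Nat.card N) (Q : Sylow q G)
    (hQ : ¬ (Q : Subgroup G).Normal) (hQC : (Q : Subgroup G) ≤ C) :
    C = Subgroup.normalizer ((Q : Subgroup G) : Set G) := by
  haveI := hN.1
  obtain ⟨hab, -⟩ := Cfsg.Lib.Core.minimal_solvable_elementary hN inferInstance
  haveI := hC.1
  have hle : C ≤ Subgroup.normalizer ((Q : Subgroup G) : Set G) := by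
    have hn := ((Group.isNilpotent_of_finite_tfae (G := C)).out 0 3 rfl rfl).mp hC.1 q hq (Q.subtype hQC)
    have h1 := (normal_subgroupOf_iff_le_normalizer hQC).1 (by rwa [Sylow.coe_subtype] at hn)
    exact h1
  have hCN : C ⊓ N = ⊥ := by
    have hn : (C ⊓ N).Normal := by
      rw [← normalizer_eq_top_iff, eq_top_iff, ← htop]
      refine sup_le (Cfsg.Lib.Core.le_normalizer_iff_conj_mem.2 fun c hc x hx =>
        ⟨C.mul_mem (C.mul_mem hc hx.1) (C.inv_mem hc), hN.1.conj_mem x hx.2 c⟩) ?_
      refine le_trans (fun a ha => ?_) (centralizer_le_normalizer _)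
      exact mem_centralizer_iff.2 fun x hx =>
        congrArg Subtype.val (hab.is_comm.comm (⟨x, hx.2⟩ : N) ⟨a, ha⟩)
    refine (hN.2.2 _ hn inf_le_right).resolve_right fun h => hG ?_
    have hCt : C = ⊤ := top_le_iff.1 (htop ▸ sup_le le_rfl (inf_eq_right.1 h))
    exact Group.nilpotent_of_mulEquiv ((MulEquiv.subgroupCongr hCt).trans Subgroup.topEquiv)
  refine le_antisymm hle fun g hg => ?_
  obtain ⟨a, ha, b, hb, rfl⟩ := mem_sup_of_normal_right.1 (htop ▸ mem_top g : g ∈ C ⊔ N)
  have hbN : b ∈ Subgroup.normalizer ((Q : Subgroup G) : Set G) := by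
    simpa using mul_mem (inv_mem (hle ha)) hg
  set R := N ⊓ Subgroup.normalizer ((Q : Subgroup G) : Set G)
  have hRn : R.Normal := by
    rw [← normalizer_eq_top_iff, eq_top_iff, ← htop]
    refine sup_le (Cfsg.Lib.Core.le_normalizer_iff_conj_mem.2 fun c hc x hx =>
      ⟨hN.1.conj_mem x hx.1 c, (Subgroup.normalizer _).mul_mem ((Subgroup.normalizer _).mul_mem (hle hc) hx.2)
        ((Subgroup.normalizer _).inv_mem (hle hc))⟩) ?_
    refine le_trans (fun a' ha' => ?_) (centralizer_le_normalizer _)
    exact mem_centralizer_iff.2 fun x hx =>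
      congrArg Subtype.val (hab.is_comm.comm (⟨x, hx.1⟩ : N) ⟨a', ha'⟩)
  rcases hN.2.2 R hRn inf_le_left with h | h
  · have : b ∈ R := ⟨hb, hbN⟩
    rw [h, mem_bot] at this
    rw [this, mul_one]; exact ha
  · exfalso
    refine hQ (normalizer_eq_top_iff.1 (top_le_iff.1 ?_))
    rw [← htop]
    exact sup_le hle (h ▸ inf_le_right)

theorem exists_nonnormal_sylow {N : Subgroup G} [N.Normal] (hNQ : Group.IsNilpotent (G ⧸ N))
    {p : ℕ} [Fact p.Prime] (hNp : IsPGroup p N) (hG : ¬ Group.IsNilpotent G) :
    ∃ (q : ℕ) (_ : Fact q.Prime), q ≠ p ∧ ∀ Q : Sylow q G, ¬ (Q : Subgroup G).Normal := by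
  by_contra hc
  push Not at hc
  refine hG (((Group.isNilpotent_of_finite_tfae (G := G)).out 0 3 rfl rfl).mpr fun q hq Q => ?_)
  by_cases hqp : q = p
  · subst hqp
    have hle : N ≤ (Q : Subgroup G) := sup_eq_right.1 (Q.3 (hNp.to_sup_of_normal_left Q.2) le_sup_right)
    have h1 := ((Group.isNilpotent_of_finite_tfae (G := G ⧸ N)).out 0 3 rfl rfl).mp hNQ q hq
      (Q.mapSurjective (QuotientGroup.mk'_surjective N))
    rw [Sylow.coe_mapSurjective] at h1
    have h2 := h1.comap (QuotientGroup.mk' N)
    rwa [comap_map_eq, QuotientGroup.ker_mk', sup_eq_left.2 hle] at h2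
  · obtain ⟨Q₀, hQ₀⟩ := hc q hq hqp
    haveI := Sylow.unique_of_normal Q₀ hQ₀
    rwa [Subsingleton.elim Q Q₀]

theorem sylow_le_of_sup_eq_top {N C : Subgroup G} [N.Normal] (htop : C ⊔ N = ⊤) {q : ℕ} [Fact q.Prime]
    (hqN : ¬ q ∣ Nat.card N) : ∃ Q : Sylow q G, (Q : Subgroup G) ≤ C := by
  obtain ⟨Q₀⟩ : Nonempty (Sylow q C) := inferInstance
  have hidx : ¬ q ∣ ((Q₀ : Subgroup C).map C.subtype).index := by
    rw [index_map_subtype]
    intro hd
    rcases (Fact.out : q.Prime).dvd_mul.1 hd with h | h
    · exact Q₀.not_dvd_index h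
    · refine hqN (h.trans ?_)
      have h1 : C.relIndex N = C.index := Cfsg.Lib.ThreeSolvable.relIndex_eq_index_of_mul fun g => by
        obtain ⟨a, ha, b, hb, he⟩ := mem_sup_of_normal_left.1
          ((sup_comm C N).symm.trans htop ▸ mem_top g : g ∈ N ⊔ C)
        exact ⟨a, ha, b, hb, he.symm⟩
      exact h1 ▸ relIndex_dvd_card C N
  exact ⟨(Q₀.2.map C.subtype).toSylow hidx, map_subtype_le _⟩

theorem carter_main : ∀ (n : ℕ) (G : Type u) [Group G] [Finite G] [Group.IsSolvable G], Nat.card G ≤ n →
    (∃ C : Subgroup G, IsCarterSubgroup C) ∧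
      ∀ C D : Subgroup G, IsCarterSubgroup C → IsCarterSubgroup D →
        ∃ g : G, C.map (MulAut.conj g).toMonoidHom = D := by
  intro n
  induction n with
  | zero => intro G _ _ _ h; exact absurd h (Nat.not_le.2 Nat.card_pos)
  | succ n ih =>
    intro G _ _ _ hn
    by_cases hnil : Group.IsNilpotent G
    · refine ⟨⟨⊤, Group.isNilpotent_top.2 hnil, top_le_iff.1 le_normalizer⟩, fun C D hC hD => ⟨1, ?_⟩⟩
      rw [eq_top_of_nilpotent hnil hC, eq_top_of_nilpotent hnil hD, map_top_of_surjective]
      exact (MulAut.conj (1 : G)).surjective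
    haveI : Nontrivial G := by
      by_contra h
      rw [not_nontrivial_iff_subsingleton] at h
      exact hnil inferInstance
    obtain ⟨N, hN⟩ := Cfsg.Lib.Core.exists_isMinNormal_univ (G := G)
    haveI := hN.1
    obtain ⟨hab, p, hp, -, hNp⟩ := Cfsg.Lib.Core.minimal_solvable_elementary hN inferInstance
    haveI : Fact p.Prime := ⟨hp⟩
    set f := QuotientGroup.mk' N
    have hf : Function.Surjective f := QuotientGroup.mk'_surjective N
    have hker : f.ker = N := QuotientGroup.ker_mk' N
    obtain ⟨⟨Cb, hCb⟩, hconjb⟩ := ih (G ⧸ N) (by have := Cfsg.Lib.Core.card_quotient_lt hN.2.1; omega)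
    have hsmall : ∀ L : Subgroup G, L ≠ ⊤ → (∃ C : Subgroup L, IsCarterSubgroup C) ∧
        ∀ C D : Subgroup L, IsCarterSubgroup C → IsCarterSubgroup D →
          ∃ g : L, C.map (MulAut.conj g).toMonoidHom = D := fun L hL =>
      ih L (by have := Cfsg.Lib.Core.lt_card_of_ne_top hL; omega)
    -- conjugacy inside a proper subgroup
    have hconjL : ∀ L : Subgroup G, L ≠ ⊤ → ∀ C D : Subgroup G, C ≤ L → D ≤ L → IsCarterSubgroup C →
        IsCarterSubgroup D → ∃ g ∈ L, C.map (MulAut.conj g).toMonoidHom = D := by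
      intro L hL C D hCL hDL hC hD
      obtain ⟨g, hg⟩ := (hsmall L hL).2 _ _ (carter_subgroupOf hC hCL) (carter_subgroupOf hD hDL)
      refine ⟨g, g.2, ?_⟩
      have h2 := congrArg (Subgroup.map L.subtype) hg
      rw [Subgroup.map_map, show L.subtype.comp (MulAut.conj g).toMonoidHom =
          (MulAut.conj (g : G)).toMonoidHom.comp L.subtype from MonoidHom.ext fun _ => rfl,
        ← Subgroup.map_map, map_subgroupOf_eq_of_le hCL, map_subgroupOf_eq_of_le hDL] at h2
      exact h2
    -- the image of a Carter subgroup is a Carter subgroup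
    have himg : ∀ C : Subgroup G, IsCarterSubgroup C → IsCarterSubgroup (C.map f) := by
      intro C hC
      refine ⟨Cfsg.Lib.Core.isNilpotent_map hC.1 f, le_antisymm (fun z hz => ?_) le_normalizer⟩
      obtain ⟨g, rfl⟩ := hf z
      have hg : g ∈ Subgroup.normalizer ((C ⊔ N : Subgroup G) : Set G) := by
        have h1 : ((C.map f)).comap f = C ⊔ N := by rw [comap_map_eq, hker]
        rw [← h1, ← comap_normalizer_eq_of_surjective _ hf]; exact hz
      by_cases htop : C ⊔ N = ⊤
      · obtain ⟨a, ha, b, hb, rfl⟩ := mem_sup_of_normal_right.1 (htop ▸ mem_top g : g ∈ C ⊔ N)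
        refine ⟨a, ha, ?_⟩
        rw [map_mul, show f b = 1 from (QuotientGroup.eq_one_iff b).2 hb, mul_one]
      · have hCg : C.map (MulAut.conj g).toMonoidHom ≤ C ⊔ N :=
          (Subgroup.map_mono le_sup_left).trans (Cfsg.Lib.Core.map_conj_eq_of_mem_normalizer hg).le
        obtain ⟨k, hk, hke⟩ := hconjL _ htop C _ le_sup_left hCg hC (carter_conj hC g)
        have hkg : k⁻¹ * g ∈ C := by
          refine hC.2.le ?_
          rw [Cfsg.Lib.Core.mem_normalizer_iff_map_conj]
          have h2 := congrArg (Subgroup.map (MulAut.conj k⁻¹).toMonoidHom) hke.symm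
          rw [Subgroup.map_map, Subgroup.map_map] at h2
          have e1 : (MulAut.conj k⁻¹).toMonoidHom.comp (MulAut.conj g).toMonoidHom =
              (MulAut.conj (k⁻¹ * g)).toMonoidHom := by ext z; simp [mul_assoc]
          have e2 : (MulAut.conj k⁻¹).toMonoidHom.comp (MulAut.conj k).toMonoidHom = MonoidHom.id G := by
            ext z; simp [mul_assoc]
          rwa [e1, e2, Subgroup.map_id] at h2
        obtain ⟨a, ha, b, hb, hab'⟩ := mem_sup_of_normal_right.1 hk
        refine ⟨a * (k⁻¹ * g) * 1, C.mul_mem (C.mul_mem ha hkg) C.one_mem, ?_⟩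
        have hfb : f b = 1 := (QuotientGroup.eq_one_iff b).2 hb
        rw [← hab']
        simp [map_mul, map_inv, hfb, mul_assoc]
    set L := Cb.comap f
    have hLtop : ∀ C : Subgroup G, IsCarterSubgroup C → C ⊔ N = ⊤ → Group.IsNilpotent (G ⧸ N) := by
      intro C hC htop
      have h1 : C.map f = ⊤ := by
        have h2 := congrArg (Subgroup.map f) htop
        rwa [Subgroup.map_sup, map_top_of_surjective _ hf, (Subgroup.map_eq_bot_iff _).2 hker.ge, sup_bot_eq] at h2
      haveI := (himg C hC).1
      exact Group.nilpotent_of_mulEquiv ((MulEquiv.subgroupCongr h1).trans Subgroup.topEquiv)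
    constructor
    · by_cases hL : L = ⊤
      · have hCt : Cb = ⊤ := by
          rw [← map_comap_eq_self_of_surjective hf Cb]
          show L.map f = ⊤
          rw [hL, map_top_of_surjective _ hf]
        haveI := hCb.1
        have hNQ : Group.IsNilpotent (G ⧸ N) :=
          Group.nilpotent_of_mulEquiv ((MulEquiv.subgroupCongr hCt).trans Subgroup.topEquiv)
        obtain ⟨q, hq, hqp, hQn⟩ := exists_nonnormal_sylow hNQ hNp hnil
        let Q : Sylow q G := default
        set H := Subgroup.normalizer ((Q : Subgroup G) : Set G)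
        -- `H` meets `N` trivially and covers the quotient
        have htop : H ⊔ N = ⊤ := by
          have h1 := ((Group.isNilpotent_of_finite_tfae (G := G ⧸ N)).out 0 3 rfl rfl).mp hNQ q hq
            (Q.mapSurjective hf)
          rw [Sylow.coe_mapSurjective] at h1
          have h2 : ((Q : Subgroup G) ⊔ N).Normal := by
            have h3 := h1.comap f
            rwa [comap_map_eq, hker] at h3
          refine top_le_iff.1 ?_
          rw [← Sylow.normalizer_sup_eq_top (Q.subtype (le_sup_left : (Q : Subgroup G) ≤ (Q : Subgroup G) ⊔ N)),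
            Sylow.coe_subtype, map_subgroupOf_eq_of_le le_sup_left]
          exact sup_le le_sup_left (sup_le (le_normalizer.trans le_sup_left) le_sup_right)
        have hn : (H ⊓ N).Normal := by
          rw [← normalizer_eq_top_iff, eq_top_iff, ← htop]
          refine sup_le (Cfsg.Lib.Core.le_normalizer_iff_conj_mem.2 fun c hc x hx =>
            ⟨H.mul_mem (H.mul_mem hc hx.1) (H.inv_mem hc), hN.1.conj_mem x hx.2 c⟩) ?_
          refine le_trans (fun a ha => ?_) (centralizer_le_normalizer _)
          exact mem_centralizer_iff.2 fun x hx =>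
            congrArg Subtype.val (hab.is_comm.comm (⟨x, hx.2⟩ : N) ⟨a, ha⟩)
        have hbot : H ⊓ N = ⊥ := by
          refine (hN.2.2 _ hn inf_le_right).resolve_right fun h => hQn Q (normalizer_eq_top_iff.1 ?_)
          exact top_le_iff.1 (htop ▸ sup_le le_rfl (inf_eq_right.1 h))
        have hinj : Function.Injective (f.comp H.subtype) := by
          rw [injective_iff_map_eq_one]
          intro x hx
          have h3 : (x : G) ∈ H ⊓ N := ⟨x.2, (QuotientGroup.eq_one_iff _).1 hx⟩
          rw [hbot, mem_bot] at h3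
          exact Subtype.ext h3
        have hHnil : Group.IsNilpotent H := by
          haveI := hNQ
          exact Group.nilpotent_of_mulEquiv (MulEquiv.ofBijective _ ⟨hinj, fun z => by
            obtain ⟨g, rfl⟩ := hf z
            obtain ⟨a, ha, b, hb, rfl⟩ := mem_sup_of_normal_right.1 (htop ▸ mem_top g : g ∈ H ⊔ N)
            exact ⟨⟨a, ha⟩, by simp [show f b = 1 from (QuotientGroup.eq_one_iff b).2 hb]⟩⟩).symm
        refine ⟨H, hHnil, le_antisymm (fun g hg => ?_) le_normalizer⟩
        obtain ⟨a, ha, b, hb, rfl⟩ := mem_sup_of_normal_right.1 (htop ▸ mem_top g : g ∈ H ⊔ N)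
        have hbH : b ∈ Subgroup.normalizer (H : Set G) := by
          simpa using mul_mem (inv_mem (le_normalizer ha)) hg
        have hcom : ∀ h ∈ H, b * h = h * b := fun h hh => by
          have h4 : b * h * b⁻¹ * h⁻¹ ∈ H ⊓ N := ⟨H.mul_mem ((mem_normalizer_iff.1 hbH h).1 hh) (H.inv_mem hh), by
            have e : b * h * b⁻¹ * h⁻¹ = b * (h * b⁻¹ * h⁻¹) := by group
            rw [e]; exact N.mul_mem hb (hN.1.conj_mem _ (N.inv_mem hb) h)⟩
          rw [hbot, mem_bot, mul_inv_eq_one, mul_inv_eq_iff_eq_mul] at h4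
          exact h4
        have hbH' : b ∈ H := centralizer_le_normalizer _ (mem_centralizer_iff.2 fun z hz =>
          (hcom z (le_normalizer hz)).symm)
        exact H.mul_mem ha hbH'
      · obtain ⟨C₀, hC₀⟩ := (hsmall L hL).1
        set C := C₀.map L.subtype
        have hC : IsCarterSubgroup C := by
          refine carter_map_subtype hC₀ fun g hg => ?_
          -- `C` covers `L / N`
          have hNL : N ≤ L := hker.ge.trans (ker_le_comap _ _)
          set fL : L →* Cb := f.subgroupComap Cb
          have hfL : Function.Surjective fL := f.subgroupComap_surjective_of_surjective Cb hf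
          have h1 : C₀.map fL = ⊤ := by
            haveI := hCb.1
            refine eq_top_of_nilpotent inferInstance ⟨Cfsg.Lib.Core.isNilpotent_map hC₀.1 fL, ?_⟩
            -- image of a Carter subgroup, by conjugacy in the smaller group
            refine le_antisymm (fun z hz => ?_) le_normalizer
            obtain ⟨g', rfl⟩ := hfL z
            set M := (C₀.map fL).comap fL
            have hgM : g' ∈ Subgroup.normalizer (M : Set L) := by
              rw [← comap_normalizer_eq_of_surjective _ hfL]; exact hz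
            have hCM : C₀ ≤ M := le_comap_map _ _
            have hC'M : C₀.map (MulAut.conj g').toMonoidHom ≤ M :=
              (Subgroup.map_mono hCM).trans (Cfsg.Lib.Core.map_conj_eq_of_mem_normalizer hgM).le
            obtain ⟨k, hk⟩ := (ih M (by
                have h5 := M.card_le_card_group
                have h6 := Cfsg.Lib.Core.lt_card_of_ne_top hL
                omega)).2 _ _ (carter_subgroupOf hC₀ hCM) (carter_subgroupOf (carter_conj hC₀ g') hC'M)
            have h2 := congrArg (Subgroup.map M.subtype) hk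
            rw [Subgroup.map_map, show M.subtype.comp (MulAut.conj k).toMonoidHom =
                (MulAut.conj (k : L)).toMonoidHom.comp M.subtype from MonoidHom.ext fun _ => rfl,
              ← Subgroup.map_map, map_subgroupOf_eq_of_le hCM, map_subgroupOf_eq_of_le hC'M] at h2
            have hkg : (k : L)⁻¹ * g' ∈ C₀ := by
              refine hC₀.2.le ?_
              rw [Cfsg.Lib.Core.mem_normalizer_iff_map_conj]
              have h3 := congrArg (Subgroup.map (MulAut.conj (k : L)⁻¹).toMonoidHom) h2.symm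
              rw [Subgroup.map_map, Subgroup.map_map] at h3
              have e1 : (MulAut.conj (k : L)⁻¹).toMonoidHom.comp (MulAut.conj g').toMonoidHom =
                  (MulAut.conj ((k : L)⁻¹ * g')).toMonoidHom := by ext z; simp [mul_assoc]
              have e2 : (MulAut.conj (k : L)⁻¹).toMonoidHom.comp (MulAut.conj (k : L)).toMonoidHom =
                  MonoidHom.id L := by ext z; simp [mul_assoc]
              rwa [e1, e2, Subgroup.map_id] at h3
            have h4 := mul_mem (show fL k ∈ C₀.map fL from k.2) (mem_map_of_mem fL hkg)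
            rwa [← map_mul, mul_inv_cancel_left] at h4
          have hCf : C.map f = Cb := by
            rw [Subgroup.map_map]
            refine le_antisymm ?_ fun z hz => ?_
            · rintro _ ⟨c, -, rfl⟩
              exact c.2
            · obtain ⟨c, hc, hce⟩ := (h1.symm ▸ mem_top _ : (⟨z, hz⟩ : Cb) ∈ C₀.map fL)
              exact ⟨c, hc, congrArg Subtype.val hce⟩
          have h2 := le_normalizer_map f ⟨g, hg, rfl⟩
          rw [show (C₀.map L.subtype).map f = Cb from hCf, hCb.2] at h2
          exact h2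
        exact ⟨C, hC⟩
    · intro C D hC hD
      obtain ⟨z, hz⟩ := hconjb _ _ (himg C hC) (himg D hD)
      obtain ⟨g, rfl⟩ := hf z
      set C' := C.map (MulAut.conj g).toMonoidHom
      have hC' : IsCarterSubgroup C' := carter_conj hC g
      have heq : C' ⊔ N = D ⊔ N := by
        have h1 : C'.map f = D.map f := by
          rw [← hz, Subgroup.map_map, Subgroup.map_map]
          congr 1
        have h2 := congrArg (Subgroup.comap f) h1
        rwa [comap_map_eq, comap_map_eq, hker] at h2
      suffices h : ∃ k, C'.map (MulAut.conj k).toMonoidHom = D by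
        obtain ⟨k, hk⟩ := h
        refine ⟨k * g, ?_⟩
        rw [← hk, Subgroup.map_map]
        congr 1
        ext z; simp [mul_assoc]
      by_cases htop : D ⊔ N = ⊤
      · have hNQ := hLtop D hD htop
        obtain ⟨q, hq, hqp, hQn⟩ := exists_nonnormal_sylow hNQ hNp hnil
        have hqN : ¬ q ∣ Nat.card N := by
          obtain ⟨i, hi⟩ := IsPGroup.iff_card.1 hNp
          rw [hi]
          exact fun hd => hqp ((Nat.prime_dvd_prime_iff_eq hq.out hp).1 (hq.out.dvd_of_dvd_pow hd))
        obtain ⟨Q, hQ⟩ := sylow_le_of_sup_eq_top (heq.trans htop) hqN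
        obtain ⟨R, hR⟩ := sylow_le_of_sup_eq_top htop hqN
        obtain ⟨k, hk⟩ := MulAction.exists_smul_eq G Q R
        refine ⟨k, ?_⟩
        rw [carter_sylow_normalizer hN hC' (heq.trans htop) hnil hqN Q (hQn Q) hQ,
          carter_sylow_normalizer hN hD htop hnil hqN R (hQn R) hR, ← hk,
          Sylow.coe_subgroup_smul, Cfsg.Lib.Core.conj_smul_eq_map, Subgroup.map_equiv_normalizer_eq]
      · obtain ⟨k, -, hk⟩ := hconjL _ htop C' D (le_sup_left.trans heq.le) le_sup_left hC' hD
        exact ⟨k, hk⟩

theorem exists_carter [Group.IsSolvable G] : ∃ C : Subgroup G, IsCarterSubgroup C :=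
  (carter_main _ G le_rfl).1

theorem carter_conjugate [Group.IsSolvable G] {C D : Subgroup G} (hC : IsCarterSubgroup C)
    (hD : IsCarterSubgroup D) : ∃ g : G, C.map (MulAut.conj g).toMonoidHom = D :=
  (carter_main _ G le_rfl).2 C D hC hD

/-- The image of a Carter subgroup in a quotient is a Carter subgroup. -/
theorem carter_map [Group.IsSolvable G] {C : Subgroup G} (hC : IsCarterSubgroup C) (N : Subgroup G)
    [N.Normal] : IsCarterSubgroup (C.map (QuotientGroup.mk' N)) := by
  set f := QuotientGroup.mk' N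
  have hf : Function.Surjective f := QuotientGroup.mk'_surjective N
  refine ⟨Cfsg.Lib.Core.isNilpotent_map hC.1 f, le_antisymm (fun z hz => ?_) le_normalizer⟩
  obtain ⟨g, rfl⟩ := hf z
  set M := (C.map f).comap f
  have hg : g ∈ Subgroup.normalizer (M : Set G) := by
    rw [← comap_normalizer_eq_of_surjective _ hf]; exact hz
  have hCM : C ≤ M := le_comap_map _ _
  have hC'M : C.map (MulAut.conj g).toMonoidHom ≤ M :=
    (Subgroup.map_mono hCM).trans (Cfsg.Lib.Core.map_conj_eq_of_mem_normalizer hg).le
  obtain ⟨k, hk⟩ := carter_conjugate (carter_subgroupOf hC hCM) (carter_subgroupOf (carter_conj hC g) hC'M)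
  have h2 := congrArg (Subgroup.map M.subtype) hk
  rw [Subgroup.map_map, show M.subtype.comp (MulAut.conj k).toMonoidHom =
      (MulAut.conj (k : G)).toMonoidHom.comp M.subtype from MonoidHom.ext fun _ => rfl,
    ← Subgroup.map_map, map_subgroupOf_eq_of_le hCM, map_subgroupOf_eq_of_le hC'M] at h2
  have hkg : (k : G)⁻¹ * g ∈ C := by
    refine hC.2.le ?_
    rw [Cfsg.Lib.Core.mem_normalizer_iff_map_conj]
    have h3 := congrArg (Subgroup.map (MulAut.conj (k : G)⁻¹).toMonoidHom) h2.symm
    rw [Subgroup.map_map, Subgroup.map_map] at h3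
    have e1 : (MulAut.conj (k : G)⁻¹).toMonoidHom.comp (MulAut.conj g).toMonoidHom =
        (MulAut.conj ((k : G)⁻¹ * g)).toMonoidHom := by ext z; simp [mul_assoc]
    have e2 : (MulAut.conj (k : G)⁻¹).toMonoidHom.comp (MulAut.conj (k : G)).toMonoidHom =
        MonoidHom.id G := by ext z; simp [mul_assoc]
    rwa [e1, e2, Subgroup.map_id] at h3
  have h4 := mul_mem (show f k ∈ C.map f from k.2) (mem_map_of_mem f hkg)
  rwa [← map_mul, mul_inv_cancel_left] at h4

/-! ### Reduction of complement systems -/

/-- `K` reduces into `L`: each `K p` meets `L` in a subgroup of `p`-power index. -/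
def Reduces (K : Nat.Primes → Subgroup G) (L : Subgroup G) : Prop :=
  ∀ p : Nat.Primes, ∃ j, (K p).relIndex L = (p : ℕ) ^ j

theorem reduces_subgroupOf {K : Nat.Primes → Subgroup G} (hK : IsComplementSystem K) {L : Subgroup G}
    (h : Reduces K L) : IsComplementSystem (fun p => (K p).subgroupOf L) := by
  intro p
  obtain ⟨j, hj⟩ := h p
  show ((K p).subgroupOf L).index = _
  have h1 := ((K p).subgroupOf L).card_mul_index
  have hnd : ¬ (p : ℕ) ∣ Nat.card ((K p).subgroupOf L) := fun hd => by
    have h3 : (p : ℕ) ∣ Nat.card (K p) :=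
      hd.trans (card_dvd_of_injective
        ({ toFun := fun x => ⟨((x : L) : G), x.2⟩, map_one' := rfl, map_mul' := fun _ _ => rfl } :
          (K p).subgroupOf L →* K p)
        fun x y hxy => Subtype.ext (Subtype.ext (congrArg (fun z : K p => (z : G)) hxy)))
    have h4 := Cfsg.Lib.SylowSystem.coprime_card_index hK p
    rw [hK p] at h4
    exact p.2.ne_one (Nat.eq_one_of_dvd_coprimes h4 h3
      (dvd_pow_self _ (p.2.factorization_pos_of_dvd Nat.card_pos.ne'
        (h3.trans (card_subgroup_dvd_card _))).ne'))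
  rw [← h1, Nat.factorization_mul Nat.card_pos.ne' index_ne_zero_of_finite, Finsupp.add_apply,
    Nat.factorization_eq_zero_of_not_dvd hnd, zero_add]
  show (K p).relIndex L = (p : ℕ) ^ ((K p).relIndex L).factorization p
  rw [hj, p.2.factorization_pow, Finsupp.single_eq_same]

/-- Every subgroup of a solvable group has a complement system reducing into it. -/
theorem exists_reduces [Group.IsSolvable G] (L : Subgroup G) :
    ∃ K : Nat.Primes → Subgroup G, IsComplementSystem K ∧ Reduces K L := by
  obtain ⟨K₀, hK₀⟩ := Cfsg.Lib.SylowSystem.exists_complementSystem (G := L)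
  obtain ⟨K₁, hK₁⟩ := Cfsg.Lib.SylowSystem.exists_complementSystem (G := G)
  have h : ∀ p : Nat.Primes, ∃ g : G, (K₀ p).map L.subtype ≤ MulAut.conj g • K₁ p := by
    intro p
    refine Cfsg.Lib.Solv.hall_le_conj (m := Nat.card (K₁ p)) (k := (K₁ p).index)
      ((K₁ p).card_mul_index).symm (Cfsg.Lib.SylowSystem.coprime_card_index hK₁ p) rfl ?_
    rw [Cfsg.Lib.Core.card_map_subtype, hK₁ p]
    refine Nat.Coprime.pow_right _ (Nat.Coprime.symm ((p.2.coprime_iff_not_dvd).2 fun hd => ?_))
    have h1 := Cfsg.Lib.SylowSystem.coprime_card_index hK₀ p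
    rw [hK₀ p] at h1
    exact p.2.ne_one (Nat.eq_one_of_dvd_coprimes h1 hd
      (dvd_pow_self _ (p.2.factorization_pos_of_dvd Nat.card_pos.ne'
        (hd.trans (card_subgroup_dvd_card _))).ne'))
  choose g hg using h
  refine ⟨fun p => MulAut.conj (g p) • K₁ p, fun p => ?_, fun p => ?_⟩
  · show (MulAut.conj (g p) • K₁ p).index = _
    rw [Cfsg.Lib.Core.conj_smul_eq_map]
    exact (index_map_equiv (K₁ p) (MulAut.conj (g p))).trans (hK₁ p)
  · have h1 : (MulAut.conj (g p) • K₁ p).relIndex L ∣ ((K₀ p).map L.subtype).relIndex L :=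
      relIndex_dvd_of_le_left L (hg p)
    rw [show ((K₀ p).map L.subtype).relIndex L = (K₀ p).index from by
      rw [relIndex, Subgroup.subgroupOf, comap_map_eq_self_of_injective L.subtype_injective], hK₀ p] at h1
    obtain ⟨j, -, hj⟩ := (Nat.dvd_prime_pow p.2).1 h1
    exact ⟨j, hj⟩

theorem reduces_map {K : Nat.Primes → Subgroup G} {C : Subgroup G} (h : Reduces K C) (N : Subgroup G)
    [N.Normal] :
    Reduces (fun p => (K p).map (QuotientGroup.mk' N)) (C.map (QuotientGroup.mk' N)) := by
  intro p
  obtain ⟨j, hj⟩ := h p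
  set f := QuotientGroup.mk' N
  have h1 : ((K p).map f).relIndex (C.map f) ∣ (K p).relIndex C := by
    have hle : ((K p).subgroupOf C).map (f.subgroupMap C) ≤ ((K p).map f).subgroupOf (C.map f) := by
      rintro _ ⟨x, hx, rfl⟩
      exact mem_map_of_mem f (show (x : G) ∈ K p from hx)
    exact (index_dvd_of_le hle).trans (index_map_dvd _ (f.subgroupMap_surjective C))
  rw [hj] at h1
  obtain ⟨i, -, hi⟩ := (Nat.dvd_prime_pow p.2).1 h1
  exact ⟨i, hi⟩

theorem index_eq_relIndex_mul (N : Subgroup G) [N.Normal] (J : Subgroup G) :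
    J.index = J.relIndex N * (J ⊔ N).index := by
  have h5 := relIndex_mul_index (inf_le_left : J ⊓ N ≤ J)
  have h6 := relIndex_mul_index (inf_le_right : J ⊓ N ≤ N)
  rw [inf_relIndex_left, ← relIndex_sup_right (H := J) (K := N)] at h5
  rw [inf_relIndex_right, ← relIndex_mul_index (le_sup_right : N ≤ J ⊔ N)] at h6
  have hpos : 0 < N.relIndex (J ⊔ N) :=
    Nat.pos_of_ne_zero fun h => index_ne_zero_of_finite (H := N) (by
      rw [← relIndex_mul_index (le_sup_right : N ≤ J ⊔ N), h, zero_mul])
  apply Nat.eq_of_mul_eq_mul_left hpos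
  rw [h5, ← h6]; ring

theorem reduces_sup {K : Nat.Primes → Subgroup G} (hK : IsComplementSystem K) {C : Subgroup G}
    (h : Reduces K C) (N : Subgroup G) [N.Normal] : Reduces K (C ⊔ N) := by
  intro p
  set L := C ⊔ N
  obtain ⟨j, hj⟩ := h p
  haveI : (N.subgroupOf L).Normal := normal_subgroupOf
  have h1 := index_eq_relIndex_mul (N.subgroupOf L) ((K p).subgroupOf L)
  have h2 : ((K p).subgroupOf L).relIndex (N.subgroupOf L) = (K p).relIndex N :=
    relIndex_subgroupOf le_sup_right
  have h3 : ((K p).subgroupOf L ⊔ N.subgroupOf L).index ∣ (K p).relIndex C := by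
    rw [← relIndex_subgroupOf (le_sup_left : C ≤ L)]
    refine dvd_trans ?_ (relIndex_dvd_of_le_left _ (le_sup_left : (K p).subgroupOf L ≤ (K p).subgroupOf L ⊔ N.subgroupOf L))
    refine (Cfsg.Lib.ThreeSolvable.relIndex_eq_index_of_mul fun x => ?_).symm.dvd
    obtain ⟨a, ha, b, hb, he⟩ := mem_sup_of_normal_right.1 x.2
    exact ⟨⟨a, mem_sup_left ha⟩, ha, ⟨b, mem_sup_right hb⟩, mem_sup_right (mem_subgroupOf.2 hb), Subtype.ext he.symm⟩
  have h4 : (K p).relIndex N ∣ (p : ℕ) ^ (Nat.card G).factorization p :=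
    hK p ▸ Cfsg.Lib.ThreeSolvable.relIndex_normal_dvd_index N (K p)
  have h5 : (K p).relIndex L ∣ (p : ℕ) ^ ((Nat.card G).factorization p + j) := by
    show ((K p).subgroupOf L).index ∣ _
    rw [h1, h2, pow_add]
    exact mul_dvd_mul h4 (hj ▸ h3)
  obtain ⟨i, -, hi⟩ := (Nat.dvd_prime_pow p.2).1 h5
  exact ⟨i, hi⟩

/-- A system normalizer lies in every Carter subgroup into which the system reduces. -/
theorem systemNormalizer_le_aux : ∀ (n : ℕ) (G : Type u) [Group G] [Finite G] [Group.IsSolvable G],
    Nat.card G ≤ n → ∀ (K : Nat.Primes → Subgroup G) (C : Subgroup G), IsComplementSystem K →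
    IsCarterSubgroup C → Reduces K C → systemNormalizer K ≤ C := by
  intro n
  induction n with
  | zero => intro G _ _ _ h; exact absurd h (Nat.not_le.2 Nat.card_pos)
  | succ n ih =>
    intro G _ _ _ hn K C hK hC hR
    by_cases hnil : Group.IsNilpotent G
    · rw [eq_top_of_nilpotent hnil hC]; exact le_top
    haveI : Nontrivial G := by
      by_contra h
      rw [not_nontrivial_iff_subsingleton] at h
      exact hnil inferInstance
    obtain ⟨N, hN⟩ := Cfsg.Lib.Core.exists_isMinNormal_univ (G := G)
    haveI := hN.1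
    obtain ⟨-, p, hp, -, hNp⟩ := Cfsg.Lib.Core.minimal_solvable_elementary hN inferInstance
    haveI : Fact p.Prime := ⟨hp⟩
    set f := QuotientGroup.mk' N
    have hdown := ih (G ⧸ N) (by have := Cfsg.Lib.Core.card_quotient_lt hN.2.1; omega) _ _
      (Cfsg.Lib.SylowSystem.isComplementSystem_map hK N) (carter_map hC N) (reduces_map hR N)
    rw [Cfsg.Lib.SylowSystem.systemNormalizer_map hK N, map_le_iff_le_comap, comap_map_eq,
      QuotientGroup.ker_mk'] at hdown
    set L := C ⊔ N
    by_cases hL : L = ⊤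
    · have hNQ : Group.IsNilpotent (G ⧸ N) := by
        have h1 : C.map f = ⊤ := by
          have h2 := congrArg (Subgroup.map f) hL
          rwa [Subgroup.map_sup, map_top_of_surjective _ (QuotientGroup.mk'_surjective N),
            (Subgroup.map_eq_bot_iff _).2 (QuotientGroup.ker_mk' N).ge, sup_bot_eq] at h2
        haveI := (carter_map hC N).1
        exact Group.nilpotent_of_mulEquiv ((MulEquiv.subgroupCongr h1).trans Subgroup.topEquiv)
      obtain ⟨q, hq, hqp, hQn⟩ := exists_nonnormal_sylow hNQ hNp hnil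
      obtain ⟨i, hi⟩ := IsPGroup.iff_card.1 hNp
      have hqN : ¬ q ∣ Nat.card N := by
        rw [hi]
        exact fun hd => hqp ((Nat.prime_dvd_prime_iff_eq hq.out hp).1 (hq.out.dvd_of_dvd_pow hd))
      obtain ⟨Q, hQC⟩ := sylow_le_of_sup_eq_top hL hqN
      rw [carter_sylow_normalizer hN hC hL hnil hqN Q (hQn Q) hQC]
      -- `C ⊓ K p` is all of `K p`
      let r : Nat.Primes := ⟨p, hp⟩
      obtain ⟨j, hj⟩ := hR r
      have hle : K r ≤ C := by
        have h1 := relIndex_mul_index (inf_le_left : K r ⊓ C ≤ K r)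
        have h2 := relIndex_mul_index (inf_le_right : K r ⊓ C ≤ C)
        rw [inf_relIndex_left, hK r] at h1
        rw [inf_relIndex_right, hj] at h2
        have hCi : C.relIndex N = C.index := Cfsg.Lib.ThreeSolvable.relIndex_eq_index_of_mul fun g => by
          obtain ⟨a, ha, b, hb, he⟩ := mem_sup_of_normal_left.1
            ((sup_comm C N).symm.trans hL ▸ mem_top g : g ∈ N ⊔ C)
          exact ⟨a, ha, b, hb, he.symm⟩
        obtain ⟨b, -, hb⟩ := (Nat.dvd_prime_pow hp).1 (hi ▸ relIndex_dvd_card C N)
        rw [hCi] at hb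
        have h3 : C.relIndex (K r) ∣ p ^ (j + b) :=
          ⟨p ^ (Nat.card G).factorization p, by rw [pow_add]; exact (h1.trans (h2.symm.trans (by rw [hb]))).symm⟩
        refine relIndex_eq_one.1 (Nat.eq_one_of_dvd_coprimes ?_ (relIndex_dvd_card C (K r)) h3)
        refine Nat.Coprime.pow_right _ (Nat.Coprime.symm ((hp.coprime_iff_not_dvd).2 fun hd => ?_))
        have h4 := Cfsg.Lib.SylowSystem.coprime_card_index hK r
        rw [hK r] at h4
        exact hp.ne_one (Nat.eq_one_of_dvd_coprimes h4 hd
          (dvd_pow_self _ (hp.factorization_pos_of_dvd Nat.card_pos.ne'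
            (hd.trans (card_subgroup_dvd_card _))).ne'))
      have hQK : (Q : Subgroup G) ≤ K r := by
        haveI := hC.1
        intro x hx
        have h1 : ((K r).subgroupOf C).index ∣ p ^ j := hj.dvd
        obtain ⟨T⟩ : Nonempty (Sylow q ((K r).subgroupOf C)) := inferInstance
        have hTi : ¬ q ∣ ((T : Subgroup _).map ((K r).subgroupOf C).subtype).index := by
          rw [index_map_subtype]
          intro hd
          rcases hq.out.dvd_mul.1 hd with h | h
          · exact T.not_dvd_index h
          · exact hqp ((Nat.prime_dvd_prime_iff_eq hq.out hp).1 (hq.out.dvd_of_dvd_pow (h.trans h1)))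
        let T' : Sylow q C := (T.2.map _).toSylow hTi
        have hn := ((Group.isNilpotent_of_finite_tfae (G := C)).out 0 3 rfl rfl).mp hC.1 q hq T'
        haveI := Sylow.unique_of_normal T' hn
        have h2 : (⟨x, hQC hx⟩ : C) ∈ (T' : Subgroup C) := by
          rw [Subsingleton.elim T' (Q.subtype hQC), Sylow.coe_subtype]; exact hx
        obtain ⟨t, -, ht⟩ := h2
        have h7 : (((K r).subgroupOf C).subtype t : C) ∈ (K r).subgroupOf C := t.2
        rw [ht] at h7
        exact h7
      intro d hd
      have hdK : d ∈ Subgroup.normalizer (K r : Set G) := (mem_iInf.1 hd) r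
      rw [Cfsg.Lib.Core.mem_normalizer_iff_map_conj] at hdK ⊢
      have hle' : (Q : Subgroup G).map (MulAut.conj d).toMonoidHom ≤ C :=
        ((Subgroup.map_mono hQK).trans hdK.le).trans hle
      haveI := hC.1
      have hn := ((Group.isNilpotent_of_finite_tfae (G := C)).out 0 3 rfl rfl).mp hC.1 q hq (Q.subtype hQC)
      haveI := Sylow.unique_of_normal _ hn
      let Q' : Sylow q G := d • Q
      have hQ' : (Q' : Subgroup G) = (Q : Subgroup G).map (MulAut.conj d).toMonoidHom := by
        rw [Sylow.coe_subgroup_smul, Cfsg.Lib.Core.conj_smul_eq_map]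
      have h2 : Q'.subtype (hQ'.le.trans hle') = Q.subtype hQC := Subsingleton.elim _ _
      rw [← hQ']
      have h3 := congrArg (fun T : Sylow q C => (T : Subgroup C).map C.subtype) h2
      simp only [Sylow.coe_subtype] at h3
      rwa [map_subgroupOf_eq_of_le (hQ'.le.trans hle'), map_subgroupOf_eq_of_le hQC] at h3
    · intro d hd
      have hdL : d ∈ L := hdown hd
      have h1 := ih L (by have := Cfsg.Lib.Core.lt_card_of_ne_top hL; omega) _ _
        (reduces_subgroupOf hK (reduces_sup hK hR N)) (carter_subgroupOf hC le_sup_left) (fun r => by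
          obtain ⟨j, hj⟩ := hR r
          exact ⟨j, (relIndex_subgroupOf (le_sup_left : C ≤ L)).trans hj⟩)
      have h2 : (⟨d, hdL⟩ : L) ∈ systemNormalizer (fun r => (K r).subgroupOf L) := by
        refine mem_iInf.2 fun r => ?_
        have h3 := (mem_iInf.1 hd) r
        rw [mem_normalizer_iff] at h3 ⊢
        intro x
        exact h3 (x : G)
      exact h1 h2

theorem systemNormalizer_le [Group.IsSolvable G] {K : Nat.Primes → Subgroup G} {C : Subgroup G}
    (hK : IsComplementSystem K) (hC : IsCarterSubgroup C) (hR : Reduces K C) : systemNormalizer K ≤ C :=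
  systemNormalizer_le_aux _ G le_rfl K C hK hC hR

theorem systemNormalizer_conj {K L : Nat.Primes → Subgroup G} (g : G)
    (h : ∀ p, (K p).map (MulAut.conj g).toMonoidHom = L p) :
    (systemNormalizer K).map (MulAut.conj g).toMonoidHom = systemNormalizer L := by
  unfold systemNormalizer
  rw [Subgroup.map_iInf _ (MulAut.conj g).injective]
  refine iInf_congr fun p => ?_
  rw [← h p, Subgroup.map_equiv_normalizer_eq, Subgroup.coe_map]

/-- When the nilpotent length is at most two a Carter subgroup normalizes each member of a system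
reducing into it. -/
theorem carter_le_systemNormalizer [Group.IsSolvable G] (F : Subgroup G) [F.Normal]
    (hF : Group.IsNilpotent F) (hGF : Group.IsNilpotent (G ⧸ F)) {K : Nat.Primes → Subgroup G}
    (hK : IsComplementSystem K) {C : Subgroup G} (hC : IsCarterSubgroup C) (hR : Reduces K C) :
    C ≤ systemNormalizer K := by
  haveI := hC.1
  have htop : C ⊔ F = ⊤ := by
    have h1 : C.map (QuotientGroup.mk' F) = ⊤ := eq_top_of_nilpotent hGF (carter_map hC F)
    have h2 := congrArg (Subgroup.comap (QuotientGroup.mk' F)) h1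
    rwa [comap_map_eq, QuotientGroup.ker_mk', comap_top] at h2
  intro c hc
  refine mem_iInf.2 fun p => ?_
  haveI : Fact (p : ℕ).Prime := ⟨p.2⟩
  set F₁ := F ⊓ K p
  set C₁ := C ⊓ K p
  -- elements of order prime to `p` of a nilpotent group form the `p`-complement
  have hchar : ∀ (M : Subgroup G), Group.IsNilpotent M → ∀ j : ℕ, (K p).relIndex M = (p : ℕ) ^ j →
      ∀ g ∈ Subgroup.normalizer (M : Set G), ∀ x ∈ M ⊓ K p, g * x * g⁻¹ ∈ M ⊓ K p := by
    intro M hM j hj g hg x hx
    set H := (K p).subgroupOf M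
    have hgx : g * x * g⁻¹ ∈ M := (mem_normalizer_iff.1 hg x).1 hx.1
    have hcop : (Nat.card H).Coprime H.index := by
      have h1 : Nat.card H ∣ Nat.card (K p) := card_dvd_of_injective
        ({ toFun := fun x => ⟨((x : M) : G), x.2⟩, map_one' := rfl, map_mul' := fun _ _ => rfl } :
          H →* K p) fun x y hxy => Subtype.ext (Subtype.ext (congrArg (fun z : K p => (z : G)) hxy))
      rw [show H.index = (p : ℕ) ^ j from hj]
      refine Nat.Coprime.pow_right _ (Nat.Coprime.symm ((p.2.coprime_iff_not_dvd).2 fun hd => ?_))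
      have h4 := Cfsg.Lib.SylowSystem.coprime_card_index hK p
      rw [hK p] at h4
      exact p.2.ne_one (Nat.eq_one_of_dvd_coprimes h4 (hd.trans h1)
        (dvd_pow_self _ (p.2.factorization_pos_of_dvd Nat.card_pos.ne'
          ((hd.trans h1).trans (card_subgroup_dvd_card _))).ne'))
    have hHn : H.Normal := by
      rw [← normalizer_eq_top_iff, ← index_eq_one]
      by_contra hne
      obtain ⟨q, hq, hd⟩ := Nat.exists_prime_and_dvd hne
      haveI : Fact q.Prime := ⟨hq⟩
      have hd' : q ∣ H.index := hd.trans (index_dvd_of_le le_normalizer)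
      -- the Sylow `q` subgroup of `M` normalizes `H`
      obtain ⟨T⟩ : Nonempty (Sylow q M) := inferInstance
      refine T.not_dvd_index (hd.trans (index_dvd_of_le fun t ht => centralizer_le_normalizer _ ?_))
      refine mem_centralizer_iff.2 fun h hh => ?_
      have htop' : H ≤ centralizer ({t} : Set M) := by
        rw [← subgroupOf_eq_top, ← index_eq_one]
        by_contra hne'
        obtain ⟨l, hl, hld⟩ := Nat.exists_prime_and_dvd hne'
        haveI : Fact l.Prime := ⟨hl⟩
        have hlq : l ≠ q := by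
          rintro rfl
          exact hq.ne_one (Nat.eq_one_of_dvd_coprimes hcop (hld.trans (index_dvd_card _)) hd')
        refine (default : Sylow l H).not_dvd_index (hld.trans (index_dvd_of_le fun u hu => ?_))
        rw [mem_subgroupOf, mem_centralizer_iff]
        intro w hw
        rw [Set.mem_singleton_iff.1 hw]
        have hn := ((Group.isNilpotent_of_finite_tfae (G := M)).out 0 3 rfl rfl).mp hM
        obtain ⟨S, hS⟩ := ((default : Sylow l H).2.map H.subtype).exists_le_sylow
        exact (commute_of_normal_of_disjoint _ _ (hn l ⟨hl⟩ S) (hn q ⟨hq⟩ T)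
          (IsPGroup.disjoint_of_ne l q hlq _ _ S.2 T.2) _ _ (hS ⟨u, hu, rfl⟩) ht).symm
      exact (mem_centralizer_iff.1 (htop' hh) t rfl).symm
    -- a normal Hall subgroup contains every element of order prime to its index
    have hord : orderOf (⟨g * x * g⁻¹, hgx⟩ : M) = orderOf (⟨x, hx.1⟩ : M) := by
      rw [← orderOf_coe (H := M), ← orderOf_coe (H := M)]
      exact MulEquiv.orderOf_eq (MulAut.conj g) x
    haveI := hHn
    have h1 : orderOf (QuotientGroup.mk' H ⟨g * x * g⁻¹, hgx⟩) = 1 := by
      refine Nat.eq_one_of_dvd_coprimes hcop ?_ (orderOf_dvd_natCard _)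
      refine (orderOf_map_dvd _ _).trans ?_
      rw [hord]
      exact H.orderOf_dvd_natCard (show (⟨x, hx.1⟩ : M) ∈ H from hx.2)
    rw [orderOf_eq_one_iff, QuotientGroup.mk'_apply, QuotientGroup.eq_one_iff] at h1
    exact ⟨hgx, h1⟩
  obtain ⟨j, hj⟩ := hR p
  obtain ⟨i, -, hi⟩ := (Nat.dvd_prime_pow p.2).1 (hK p ▸ Cfsg.Lib.ThreeSolvable.relIndex_normal_dvd_index F (K p))
  have hgen : K p = C₁ ⊔ F₁ := by
    refine le_antisymm ?_ (sup_le inf_le_right inf_le_right)
    rw [← relIndex_eq_one]
    set J := C₁ ⊔ F₁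
    have h1 := relIndex_mul_index (sup_le inf_le_right inf_le_right : J ≤ K p)
    have h2 := index_eq_relIndex_mul F J
    have h3 : (J ⊔ F).index ∣ (K p).relIndex C := by
      rw [show (K p).relIndex C = (C ⊓ K p).relIndex C from (inf_relIndex_left (H := C) (K := K p)).symm]
      refine dvd_trans ?_ (relIndex_dvd_of_le_left C (le_sup_left.trans le_sup_left : C ⊓ K p ≤ J ⊔ F))
      refine (Cfsg.Lib.ThreeSolvable.relIndex_eq_index_of_mul fun g => ?_).symm.dvd
      obtain ⟨a, ha, b, hb, he⟩ := mem_sup_of_normal_right.1 (htop.symm ▸ mem_top g : g ∈ C ⊔ F)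
      exact ⟨a, ha, b, mem_sup_right hb, he.symm⟩
    have h4 : J.relIndex F ∣ (K p).relIndex F := by
      rw [show (K p).relIndex F = (F ⊓ K p).relIndex F from (inf_relIndex_left (H := F) (K := K p)).symm]
      exact relIndex_dvd_of_le_left F (le_sup_right : F₁ ≤ J)
    have h5 : J.relIndex (K p) ∣ (p : ℕ) ^ (i + j) := by
      refine (Dvd.intro _ h1).trans ?_
      rw [h2, pow_add]
      exact mul_dvd_mul (hi ▸ h4) (hj ▸ h3)
    refine Nat.eq_one_of_dvd_coprimes ?_ (relIndex_dvd_card J (K p)) h5
    refine Nat.Coprime.pow_right _ (Nat.Coprime.symm ((p.2.coprime_iff_not_dvd).2 fun hd => ?_))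
    have h6 := Cfsg.Lib.SylowSystem.coprime_card_index hK p
    rw [hK p] at h6
    exact p.2.ne_one (Nat.eq_one_of_dvd_coprimes h6 hd
      (dvd_pow_self _ (p.2.factorization_pos_of_dvd Nat.card_pos.ne'
        (hd.trans (card_subgroup_dvd_card _))).ne'))
  rw [hgen, Cfsg.Lib.Core.mem_normalizer_iff_map_conj]
  refine eq_of_le_of_card_ge ?_
    (Nat.card_congr ((C₁ ⊔ F₁).equivMapOfInjective _ (MulAut.conj c).injective).toEquiv).le
  rw [Subgroup.map_sup]
  refine sup_le_sup ?_ ?_
  · rintro _ ⟨x, hx, rfl⟩
    exact hchar C hC.1 j hj c (le_normalizer hc) x hx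
  · rintro _ ⟨x, hx, rfl⟩
    exact hchar F hF i hi c (by rw [normalizer_eq_top]; exact mem_top c) x hx

end Cfsg.Lib.Carter
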