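import Cfsg.Agent.Lib.Core.PSolvable
import Cfsg.Agent.Lib.PGroup.Elements
import Cfsg.Agent.Lib.Sig.LocalBalanceApps
import Cfsg.Agent.S1279
import Cfsg.Agent.S0217

/-!
# No class size divisible by four: solvability, given that groups of odd order are solvable

The theorem is parametrised by the odd order theorem `hFT`.  A minimal counterexample is simple;
every element centralizes a conjugate of the subgroup generated by the squares of a Sylow
2-subgroup `S`, so `S` is elementary abelian.  Then the signalizer functor of the odd cores of the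
involution centralizers gives a proper subgroup whose conjugates cover the group.
-/

set_option autoImplicit false
set_option linter.unusedSectionVars false
set_option linter.style.haveILetI false

namespace Cfsg.Lib.ClassSizeFour

open Cfsg Subgroup

universe u

variable {G : Type u} [Group G] [Finite G]

/-- The 2-elements square to one. -/
def TwoExp (G : Type u) [Group G] : Prop := ∀ (x : G) (k : ℕ), x ^ 2 ^ k = 1 → x * x = 1

/-- No element of odd order has class size divisible by four. -/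
def OddClass (G : Type u) [Group G] : Prop :=
  ∀ x : G, Odd (orderOf x) → ¬ 4 ∣ (centralizer ({x} : Set G)).index

theorem mem_sylow_sq (h : TwoExp G) {R : Subgroup G} (hR : IsPGroup 2 R) {a : G} (ha : a ∈ R) :
    a * a = 1 := by
  obtain ⟨k, hk⟩ := hR ⟨a, ha⟩
  exact h a k (by simpa using congrArg Subtype.val hk)

theorem comm_of_two_group (h : TwoExp G) {R : Subgroup G} (hR : IsPGroup 2 R) {a b : G}
    (ha : a ∈ R) (hb : b ∈ R) : a * b = b * a := by
  have e : ∀ z ∈ R, z⁻¹ = z := fun z hz => inv_eq_of_mul_eq_one_right (mem_sylow_sq h hR hz)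
  have := e _ (mul_mem ha hb)
  rwa [mul_inv_rev, e a ha, e b hb, eq_comm] at this

theorem not_four_dvd_of_dvd {a b : ℕ} (h : ¬ 4 ∣ b) (hab : a ∣ b) : ¬ 4 ∣ a :=
  fun h4 => h (h4.trans hab)

theorem four_dvd_of_mul_odd {a b : ℕ} (h : 4 ∣ a * b) (hb : ¬ 2 ∣ b) : 4 ∣ a :=
  (Nat.Coprime.pow_left 2 ((Nat.prime_two.coprime_iff_not_dvd).2 hb) :
    Nat.Coprime (2 ^ 2) b).dvd_of_dvd_mul_right h

theorem exists_lift_pow (x : G) :
    ∃ a m e : ℕ, Odd m ∧ orderOf x = 2 ^ a * m ∧ e ≡ 1 [MOD m] ∧ e ≡ 0 [MOD 2 ^ a] := by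
  obtain ⟨a, m, hm, ho⟩ := Nat.exists_eq_two_pow_mul_odd (orderOf_pos x).ne'
  have hco : Nat.Coprime m (2 ^ a) := (Nat.Coprime.pow_right a (Nat.coprime_two_right.2 hm))
  obtain ⟨e, he1, he2⟩ := Nat.chineseRemainder hco 1 0
  exact ⟨a, m, e, hm, ho, he1, he2⟩

theorem exists_lift_odd (N : Subgroup G) [N.Normal] {y : G ⧸ N} (hy : Odd (orderOf y)) :
    ∃ x : G, (x : G ⧸ N) = y ∧ Odd (orderOf x) := by
  obtain ⟨x, rfl⟩ := QuotientGroup.mk_surjective y
  obtain ⟨a, m, e, hm, ho, he1, he2⟩ := exists_lift_pow x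
  refine ⟨x ^ e, ?_, ?_⟩
  · rw [QuotientGroup.mk_pow]
    have hd : orderOf (x : G ⧸ N) ∣ m := by
      refine (Nat.Coprime.pow_right a (Nat.coprime_two_right.2 hy)).dvd_of_dvd_mul_left ?_
      exact ho ▸ orderOf_map_dvd (QuotientGroup.mk' N) x
    rw [pow_eq_pow_iff_modEq.2 (he1.of_dvd hd), pow_one]
  · have h1 : (x ^ e) ^ m = 1 := by
      rw [← pow_mul, ← orderOf_dvd_iff_pow_eq_one, ho]
      exact mul_dvd_mul_right (Nat.modEq_zero_iff_dvd.1 he2) m
    exact hm.of_dvd_nat (orderOf_dvd_of_pow_eq_one h1)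

theorem exists_lift_two (N : Subgroup G) [N.Normal] {y : G ⧸ N} {k : ℕ} (hy : y ^ 2 ^ k = 1) :
    ∃ (x : G) (l : ℕ), (x : G ⧸ N) = y ∧ x ^ 2 ^ l = 1 := by
  obtain ⟨x, rfl⟩ := QuotientGroup.mk_surjective y
  obtain ⟨a, m, hm, ho⟩ := Nat.exists_eq_two_pow_mul_odd (orderOf_pos x).ne'
  have hco : Nat.Coprime (2 ^ k) m := Nat.Coprime.pow_left k (Nat.coprime_two_left.2 hm)
  obtain ⟨e, he1, he2⟩ := Nat.chineseRemainder hco 1 0
  refine ⟨x ^ e, a, ?_, ?_⟩
  · rw [QuotientGroup.mk_pow, pow_eq_pow_iff_modEq.2 (he1.of_dvd (orderOf_dvd_of_pow_eq_one hy)),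
      pow_one]
  · rw [← pow_mul, ← orderOf_dvd_iff_pow_eq_one, ho, mul_comm e]
    exact mul_dvd_mul_left _ (Nat.modEq_zero_iff_dvd.1 he2)

theorem relIndex_dvd_index {C N : Subgroup G} [N.Normal] : C.relIndex N ∣ C.index := by
  have e1 : (C ⊓ N).relIndex C = N.relIndex C := by rw [inf_comm, Subgroup.inf_relIndex_right]
  have e2 : (C ⊓ N).relIndex N = C.relIndex N := Subgroup.inf_relIndex_right C N
  have e3 : N.relIndex (N ⊔ C) = N.relIndex C := Subgroup.relIndex_sup_left C N
  have e4 := Subgroup.relIndex_mul_relIndex (C ⊓ N) C (N ⊔ C) inf_le_left le_sup_right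
  have e5 := Subgroup.relIndex_mul_relIndex (C ⊓ N) N (N ⊔ C) inf_le_right le_sup_left
  rw [e1] at e4
  rw [e2, e3, mul_comm] at e5
  have h := Nat.eq_of_mul_eq_mul_left
    (Nat.pos_of_ne_zero (Subgroup.index_ne_zero_of_finite (H := N.subgroupOf C))) (e4.trans e5.symm)
  exact h ▸ ⟨_, (Subgroup.relIndex_mul_index (le_sup_right : C ≤ N ⊔ C)).symm⟩

theorem index_centralizer_dvd (H : Subgroup G) (s : H) {K : Subgroup G}
    (hK : K ≤ centralizer ({(s : G)} : Set G)) :
    (centralizer ({s} : Set H)).index ∣ K.relIndex H :=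
  Subgroup.index_dvd_of_le fun k hk => mem_centralizer_singleton_iff.2
    (Subtype.ext (mem_centralizer_singleton_iff.1 (hK (mem_subgroupOf.1 hk))))

theorem index_centralizer_quotient_dvd (N : Subgroup G) [N.Normal] (x : G) :
    (centralizer ({(x : G ⧸ N)} : Set (G ⧸ N))).index ∣ (centralizer ({x} : Set G)).index := by
  refine (Subgroup.index_dvd_of_le ?_).trans
    (Subgroup.index_map_dvd _ (QuotientGroup.mk'_surjective N))
  rintro _ ⟨z, hz, rfl⟩
  exact mem_centralizer_singleton_iff.2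
    (congrArg (QuotientGroup.mk' N) (mem_centralizer_singleton_iff.1 hz))

theorem twoExp_subgroup (h : TwoExp G) (H : Subgroup G) : TwoExp H := fun x k hx =>
  Subtype.ext (h x k (by simpa using congrArg Subtype.val hx))

theorem oddClass_normal (h : OddClass G) (N : Subgroup G) [N.Normal] : OddClass N := fun x hx =>
  not_four_dvd_of_dvd (h x (by rwa [Subgroup.orderOf_coe]))
    ((index_centralizer_dvd N x le_rfl).trans relIndex_dvd_index)

theorem oddClass_centralizer (h2 : TwoExp G) (h : OddClass G) {t : G} (ht : orderOf t = 2) :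
    OddClass (centralizer ({t} : Set G)) := by
  suffices aux : ∀ H, H = centralizer ({t} : Set G) → OddClass H from aux _ rfl
  intro H hH s hs
  set C := centralizer ({(s : G)} : Set G) with hC
  have htC : t ∈ C := mem_centralizer_singleton_iff.2 (mem_centralizer_singleton_iff.1 (hH.le s.2)).symm
  have htp : IsPGroup 2 (zpowers (⟨t, htC⟩ : C)) :=
    IsPGroup.of_card (n := 1) (by rw [Nat.card_zpowers, Subgroup.orderOf_mk, ht, pow_one])
  obtain ⟨R, hR⟩ := htp.exists_le_sylow
  set R' := (R : Subgroup C).map C.subtype with hR'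
  have hR'p : IsPGroup 2 R' := R.isPGroup'.map _
  have htR : t ∈ R' := ⟨⟨t, htC⟩, hR (mem_zpowers _), rfl⟩
  have hR'H : R' ≤ H := fun r hr =>
    hH.ge (mem_centralizer_singleton_iff.2 (comm_of_two_group h2 hR'p hr htR))
  have hidx : ¬ 4 ∣ R'.index := by
    rw [hR', Subgroup.index_map_subtype, mul_comm]
    intro h4
    haveI : Fact (Nat.Prime 2) := ⟨Nat.prime_two⟩
    exact h (s : G) (by rwa [Subgroup.orderOf_coe]) (four_dvd_of_mul_odd h4 R.not_dvd_index)
  exact not_four_dvd_of_dvd hidx ((index_centralizer_dvd H s (Subgroup.map_subtype_le _)).trans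
    ⟨H.index, (Subgroup.relIndex_mul_index hR'H).symm⟩)

theorem normalizer_ne_le_centralizer [IsSimpleGroup G] (hns : ¬ Group.IsSolvable G)
    (heven : 2 ∣ Nat.card G) (S : Sylow 2 G) :
    ¬ normalizer ((S : Subgroup G) : Set G) ≤ centralizer ((S : Subgroup G) : Set G) := by
  haveI : Fact (Nat.Prime 2) := ⟨Nat.prime_two⟩
  intro hle
  have hc := MonoidHom.ker_transferSylow_isComplement' S hle
  have hodd := MonoidHom.not_dvd_card_ker_transferSylow S hle
  rcases (MonoidHom.normal_ker (MonoidHom.transferSylow S hle)).eq_bot_or_eq_top with h | h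
  · rw [h, isComplement'_bot_left] at hc
    haveI : IsPGroup 2 G → Group.IsNilpotent G := fun hp => hp.isNilpotent
    have hp : IsPGroup 2 G := IsPGroup.of_equiv (hc ▸ S.isPGroup' : IsPGroup 2 (⊤ : Subgroup G))
      Subgroup.topEquiv
    haveI := hp.isNilpotent
    exact hns inferInstance
  · rw [h, Subgroup.card_top] at hodd
    exact hodd heven

/-- A solvable group with trivial odd core and abelian 2-subgroups has a normal Sylow 2-subgroup. -/
theorem sylow_normal_of_core_eq_bot [Group.IsSolvable G] (h2 : TwoExp G)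
    (hO : pPrimeCore 2 G = ⊥) (S : Sylow 2 G) : (S : Subgroup G).Normal := by
  haveI : Fact (Nat.Prime 2) := ⟨Nat.prime_two⟩
  have hle : pCore 2 G ≤ (S : Subgroup G) := Core.pCore_le_sylow S
  have h1 : (S : Subgroup G) ≤ centralizer (pCore 2 G : Set G) := fun s hs =>
    mem_centralizer_iff.2 fun z hz => comm_of_two_group h2 S.isPGroup' (hle hz) hs
  have h3 := h1.trans (Core.centralizer_pCore_le_of_isPSolvable Core.isPSolvable_of_isSolvable hO)
  rw [le_antisymm h3 hle]
  infer_instance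

/-- The structure of a solvable involution centralizer. -/
theorem centralizer_le (h2 : TwoExp G) {t : G}
    [Group.IsSolvable (centralizer ({t} : Set G))] (S : Sylow 2 G)
    (hSC : (S : Subgroup G) ≤ centralizer ({t} : Set G)) :
    centralizer ({t} : Set G) ≤
      centralizerPPrimeCore 2 t ⊔ normalizer ((S : Subgroup G) : Set G) := by
  haveI : Fact (Nat.Prime 2) := ⟨Nat.prime_two⟩
  set C := centralizer ({t} : Set G) with hC
  let T : Sylow 2 C := S.subtype hSC
  set O := pPrimeCore 2 C with hO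
  haveI : O.Normal := inferInstanceAs (pPrimeCore 2 C).Normal
  haveI : Group.IsSolvable (C ⧸ O) := inferInstance
  have h2q : TwoExp (C ⧸ O) := by
    intro y k hy
    obtain ⟨x, l, rfl, hx⟩ := exists_lift_two O hy
    rw [← QuotientGroup.mk_mul, twoExp_subgroup h2 C x l hx, QuotientGroup.mk_one]
  let Tq : Sylow 2 (C ⧸ O) := T.mapSurjective (QuotientGroup.mk'_surjective O)
  have hTq : (Tq : Subgroup (C ⧸ O)).Normal :=
    sylow_normal_of_core_eq_bot h2q Core.pPrimeCore_quotient_eq_bot Tq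
  have hn : (O ⊔ (T : Subgroup C)).Normal := by
    have h := hTq.comap (QuotientGroup.mk' O)
    rwa [show ((Tq : Subgroup (C ⧸ O))).comap (QuotientGroup.mk' O) = O ⊔ (T : Subgroup C) by
      show ((T : Subgroup C).map (QuotientGroup.mk' O)).comap _ = _
      rw [Subgroup.comap_map_eq, QuotientGroup.ker_mk', sup_comm]] at h
  haveI := hn
  have hfr := Sylow.normalizer_sup_eq_top' (N := O ⊔ (T : Subgroup C)) T le_sup_right
  intro c hc
  have hmem : (⟨c, hc⟩ : C) ∈ O ⊔ normalizer ((T : Subgroup C) : Set C) := by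
    have hle : normalizer ((T : Subgroup C) : Set C) ⊔ (O ⊔ (T : Subgroup C)) ≤
        O ⊔ normalizer ((T : Subgroup C) : Set C) :=
      sup_le le_sup_right (sup_le le_sup_left (Subgroup.le_normalizer.trans le_sup_right))
    exact hle (hfr ▸ Subgroup.mem_top _)
  have hmap : (O ⊔ normalizer ((T : Subgroup C) : Set C)).map C.subtype ≤
      centralizerPPrimeCore 2 t ⊔ normalizer ((S : Subgroup G) : Set G) := by
    rw [Subgroup.map_sup]
    refine sup_le_sup le_rfl ?_
    refine (Subgroup.le_normalizer_map C.subtype).trans (le_of_eq ?_)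
    rw [show ((T : Subgroup C)).map C.subtype = (S : Subgroup G) from
      Subgroup.map_subgroupOf_eq_of_le hSC]
  exact hmap ⟨_, hmem, rfl⟩

theorem sylow_four_one_class (h2 : TwoExp G) [IsSimpleGroup G] (hns : ¬ Group.IsSolvable G)
    (heven : 2 ∣ Nat.card G) (S : Sylow 2 G) (hS : Nat.card (S : Subgroup G) ≤ 4) :
    ∃ t ∈ (S : Subgroup G), t ≠ 1 ∧ ∀ v ∈ (S : Subgroup G), v ≠ 1 → ∃ g : G, g * t * g⁻¹ = v := by
  classical
  haveI : Fact (Nat.Prime 2) := ⟨Nat.prime_two⟩
  obtain ⟨e₀, he₀N, he₀C⟩ := SetLike.not_le_iff_exists.1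
    (normalizer_ne_le_centralizer hns heven S)
  have hcomm : (S : Subgroup G) ≤ centralizer ((S : Subgroup G) : Set G) := fun s hs =>
    mem_centralizer_iff.2 fun z hz => comm_of_two_group h2 S.isPGroup' hz hs
  obtain ⟨a, m, e, hm, ho, he1, he2⟩ := exists_lift_pow e₀
  set E := e₀ ^ e with hE
  have hEN : E ∈ normalizer ((S : Subgroup G) : Set G) := pow_mem he₀N _
  have hEodd : Odd (orderOf E) := hm.of_dvd_nat (orderOf_dvd_of_pow_eq_one (by
    rw [hE, ← pow_mul, ← orderOf_dvd_iff_pow_eq_one, ho]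
    exact mul_dvd_mul_right (Nat.modEq_zero_iff_dvd.1 he2) m))
  set y := e₀ * E⁻¹ with hy
  have hyN : y ∈ normalizer ((S : Subgroup G) : Set G) := mul_mem he₀N (inv_mem hEN)
  have hyp : y ^ 2 ^ a = 1 := by
    rw [hy, hE, (Commute.refl e₀).pow_right e |>.inv_right.mul_pow, inv_pow, mul_inv_eq_one,
      ← pow_mul, pow_eq_pow_iff_modEq, ho]
    have := he1.mul_right' (2 ^ a)
    rw [mul_comm m (2 ^ a), one_mul] at this
    exact this.symm
  have hyS : y ∈ (S : Subgroup G) := by
    have hz : IsPGroup 2 (zpowers y) := by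
      obtain ⟨j, -, hj⟩ := (Nat.dvd_prime_pow Nat.prime_two).1 (orderOf_dvd_of_pow_eq_one hyp)
      exact IsPGroup.of_card (n := j) (by rw [Nat.card_zpowers, hj])
    have hsup := hz.to_sup_of_normal_right' S.isPGroup' (zpowers_le.2 hyN)
    exact S.is_maximal' hsup le_sup_right ▸ (le_sup_left : zpowers y ≤ _) (mem_zpowers y)
  have hEC : E ∉ centralizer ((S : Subgroup G) : Set G) := fun hEC => he₀C (by
    rw [show e₀ = y * E by rw [hy, inv_mul_cancel_right]]
    exact mul_mem (hcomm hyS) hEC)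
  obtain ⟨t, htS, hte⟩ : ∃ t ∈ (S : Subgroup G), E * t * E⁻¹ ≠ t := by
    by_contra hcon
    push Not at hcon
    exact hEC (mem_centralizer_iff.2 fun t ht => (mul_inv_eq_iff_eq_mul.1 (hcon t ht)).symm)
  have hconjS : ∀ z ∈ (S : Subgroup G), E * z * E⁻¹ ∈ (S : Subgroup G) := fun z hz =>
    (Subgroup.mem_normalizer_iff.1 hEN z).1 hz
  set u := E * t * E⁻¹ with hu
  have ht1 : t ≠ 1 := fun h => hte (by rw [hu, h, mul_one, mul_inv_cancel])
  have hu1 : u ≠ 1 := fun h => ht1 (conj_eq_one_iff.1 h)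
  have htt := mem_sylow_sq h2 S.isPGroup' htS
  have htu1 : t * u ≠ 1 := fun h => hte (mul_left_cancel (h.trans htt.symm))
  have hall : ∀ v ∈ (S : Subgroup G), v = 1 ∨ v = t ∨ v = u ∨ v = t * u := by
    intro v hv
    haveI := Fintype.ofFinite (S : Subgroup G)
    let F : Finset (S : Subgroup G) :=
      {1, ⟨t, htS⟩, ⟨u, hconjS t htS⟩, ⟨t * u, mul_mem htS (hconjS t htS)⟩}
    have hF : F = Finset.univ := by
      apply Finset.eq_univ_of_card
      have hle : F.card ≤ Fintype.card (S : Subgroup G) := F.card_le_univ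
      have h4 : F.card = 4 := by
        have hutu : u ≠ t * u := fun h => ht1 (mul_eq_right.1 h.symm)
        have httu : t ≠ t * u := fun h => hu1 (mul_eq_left.1 h.symm)
        rw [Finset.card_insert_of_notMem, Finset.card_insert_of_notMem, Finset.card_pair] <;>
          simp [Subtype.ext_iff, ht1.symm, hu1.symm, htu1.symm, Ne.symm hte, hutu, httu]
      rw [Nat.card_eq_fintype_card] at hS
      omega
    have := hF.symm ▸ Finset.mem_univ (⟨v, hv⟩ : (S : Subgroup G))
    simpa [F, Subtype.ext_iff] using this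
  have hEu : E * u * E⁻¹ = t * u := by
    rcases hall _ (hconjS u (hconjS t htS)) with h | h | h | h
    · exact absurd (conj_eq_one_iff.1 h) hu1
    · exfalso
      have h2t : E * E * t * (E * E)⁻¹ = t := by
        rw [show E * E * t * (E * E)⁻¹ = E * (E * t * E⁻¹) * E⁻¹ by group]; exact h
      obtain ⟨r, hr⟩ := hEodd
      have hE2 : (E * E) ^ (r + 1) = E := by
        rw [← pow_two, ← pow_mul, show 2 * (r + 1) = orderOf E + 1 by omega, pow_succ,
          pow_orderOf_eq_one, one_mul]
      have hcomm' : Commute (E * E) t := mul_inv_eq_iff_eq_mul.1 h2t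
      exact hte (mul_inv_eq_iff_eq_mul.2 (hE2 ▸ hcomm'.pow_left (r + 1) : Commute E t))
    · exact absurd (mul_left_cancel (mul_right_cancel (h.trans hu))) hte
    · exact h
  refine ⟨t, htS, ht1, fun v hv hv1 => ?_⟩
  rcases hall v hv with h | h | h | h
  · exact absurd h hv1
  · exact ⟨1, by simp [h]⟩
  · exact ⟨E, h ▸ rfl⟩
  · exact ⟨E * E, by rw [h, ← hEu, hu]; group⟩

theorem solvable_of_oddClass_aux
    (hFT : ∀ (H : Type u) [Group H] [Finite H], Odd (Nat.card H) → Group.IsSolvable H) (n : ℕ) :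
    ∀ (G : Type u) [Group G] [Finite G], Nat.card G = n → TwoExp G → OddClass G →
      Group.IsSolvable G := by
  induction n using Nat.strong_induction_on with
  | _ n ih =>
  intro G _ _ hn h2 hcl
  haveI : Fact (Nat.Prime 2) := ⟨Nat.prime_two⟩
  by_cases hodd : Odd (Nat.card G)
  · exact hFT G hodd
  by_contra hns
  have hlt : ∀ H : Subgroup G, H ≠ ⊤ → Nat.card H < n := fun H hH => hn ▸ lt_of_le_of_ne
    (Nat.le_of_dvd Nat.card_pos (card_subgroup_dvd_card H)) fun e => hH (eq_top_of_card_eq H e)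
  haveI : Nontrivial G := by
    by_contra hnt
    rw [not_nontrivial_iff_subsingleton] at hnt
    exact hns (Group.isSolvable_of_comm fun a b => Subsingleton.elim _ _)
  haveI : IsSimpleGroup G := ⟨fun N hN => by
    by_contra hcon
    push Not at hcon
    haveI := hN
    haveI := ih _ (hlt N hcon.2) N rfl (twoExp_subgroup h2 N) (oddClass_normal hcl N)
    haveI : Group.IsSolvable (G ⧸ N) := by
      refine ih _ (hn ▸ Core.card_quotient_lt hcon.1) (G ⧸ N) rfl (fun y k hy => ?_) fun y hy => ?_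
      · obtain ⟨x, l, rfl, hx⟩ := exists_lift_two N hy
        rw [← QuotientGroup.mk_mul, h2 x l hx, QuotientGroup.mk_one]
      · obtain ⟨x, rfl, hx⟩ := exists_lift_odd N hy
        exact not_four_dvd_of_dvd (hcl x hx) (index_centralizer_quotient_dvd N x)
    exact hns (Group.isSolvable_of_ker_le_range N.subtype (QuotientGroup.mk' N) (by simp))⟩
  have heven : 2 ∣ Nat.card G := even_iff_two_dvd.1 (Nat.not_odd_iff_even.1 hodd)
  have hCsolv : ∀ t : G, orderOf t = 2 → Group.IsSolvable (centralizer ({t} : Set G)) := by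
    intro t ht
    refine ih _ (hlt _ fun htop => ?_) _ rfl (twoExp_subgroup h2 _) (oddClass_centralizer h2 hcl ht)
    have hz : t ∈ center G := mem_center_iff.2 fun g =>
      mem_centralizer_singleton_iff.1 (htop ▸ Subgroup.mem_top g)
    rcases (inferInstance : (center G).Normal).eq_bot_or_eq_top with h | h
    · rw [h, mem_bot] at hz
      rw [hz, orderOf_one] at ht
      omega
    · exact hns (Group.isSolvable_of_comm fun a b => mem_center_iff.1 (h ▸ Subgroup.mem_top b) a)
  obtain ⟨S⟩ : Nonempty (Sylow 2 G) := inferInstance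
  have hSord : ∀ t ∈ (S : Subgroup G), t ≠ 1 → orderOf t = 2 := fun t ht ht1 =>
    orderOf_eq_prime (by rw [pow_two]; exact mem_sylow_sq h2 S.isPGroup' ht) ht1
  have hSC : ∀ t ∈ (S : Subgroup G), (S : Subgroup G) ≤ centralizer ({t} : Set G) := fun t ht s hs =>
    mem_centralizer_singleton_iff.2 (comm_of_two_group h2 S.isPGroup' hs ht)
  -- a proper subgroup with a conjugate above every involution centralizer
  obtain ⟨M, hM, hMC⟩ : ∃ M : Subgroup G, M ≠ ⊤ ∧ ∀ t ∈ (S : Subgroup G), t ≠ 1 →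
      ∃ g : G, ∀ z ∈ centralizer ({t} : Set G), g * z * g⁻¹ ∈ M := by
    by_cases h4 : Nat.card (S : Subgroup G) ≤ 4
    · obtain ⟨t, htS, ht1, hone⟩ := sylow_four_one_class h2 hns heven S h4
      refine ⟨centralizer ({t} : Set G), fun htop => ?_, fun v hv hv1 => ?_⟩
      · haveI := hCsolv t (hSord t htS ht1)
        exact hns (Group.isSolvable_of_surjective (f := (centralizer ({t} : Set G)).subtype)
          fun g => ⟨⟨g, htop ▸ Subgroup.mem_top g⟩, rfl⟩)
      · obtain ⟨g, rfl⟩ := hone v hv hv1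
        refine ⟨g⁻¹, fun z hz => mem_centralizer_singleton_iff.2 ?_⟩
        have h := mem_centralizer_singleton_iff.1 hz
        calc g⁻¹ * z * g⁻¹⁻¹ * t = g⁻¹ * (z * (g * t * g⁻¹)) * g := by group
          _ = g⁻¹ * ((g * t * g⁻¹) * z) * g := by rw [h]
          _ = t * (g⁻¹ * z * g⁻¹⁻¹) := by group
    set A := (S : Subgroup G)
    obtain ⟨j, hj⟩ := IsPGroup.iff_card.1 S.isPGroup'
    have hA3 : 2 ^ 3 ≤ Nat.card A := by
      rw [hj] at h4 ⊢
      exact Nat.pow_le_pow_right (by norm_num) (by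
        by_contra hj3
        exact h4 ((Nat.pow_le_pow_right (by norm_num) (show j ≤ 2 by omega)).trans le_rfl))
    have hAcomm : ∀ a ∈ A, ∀ b ∈ A, a * b = b * a :=
      fun a ha b hb => comm_of_two_group h2 S.isPGroup' ha hb
    have hAexp : ∀ a ∈ A, a ^ 2 = 1 := fun a ha => by
      rw [pow_two]; exact mem_sylow_sq h2 S.isPGroup' ha
    have hAel : IsElementaryAbelian 2 A :=
      ⟨⟨⟨fun a b => Subtype.ext (hAcomm a a.2 b b.2)⟩⟩, hAexp⟩
    obtain ⟨⟨hC, hp, hinv, hbal⟩, hsolv⟩ := Cfsg.Agent.S1279.result 2 A hAel (by omega)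
      fun a ha ha1 => hCsolv a (hSord a ha ha1)
    obtain ⟨hWodd, -⟩ := Cfsg.Agent.S0217.result A hAcomm hAexp hA3
      (fun a => centralizerPPrimeCore 2 a) hC hp hinv hsolv hbal
    set W := ⨆ a : {a : G // a ∈ A ∧ a ≠ 1}, centralizerPPrimeCore 2 (a : G) with hW
    set N := normalizer (A : Set G) with hN
    have hNW : N ≤ normalizer (W : Set G) := by
      intro g hg
      have key : ∀ h ∈ N, W.map (MulAut.conj h).toMonoidHom ≤ W := by
        intro h hh
        rw [hW, Subgroup.map_iSup]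
        refine iSup_le fun a => ?_
        have ha' : h * (a : G) * h⁻¹ ∈ A ∧ h * (a : G) * h⁻¹ ≠ 1 :=
          ⟨(Subgroup.mem_normalizer_iff.1 hh a).1 a.2.1, fun e => a.2.2 (conj_eq_one_iff.1 e)⟩
        rintro _ ⟨d, hd, rfl⟩
        refine le_iSup (fun b : {a : G // a ∈ A ∧ a ≠ 1} => centralizerPPrimeCore 2 (b : G)) ⟨_, ha'⟩
          (Sig.LocalBalance.mem_core_map (p := 2) (MulAut.conj h).toMonoidHom (fun z hz => ?_) hd)
        refine ⟨h⁻¹ * z * h, mem_centralizer_singleton_iff.2 ?_, by simp [mul_assoc]⟩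
        have e : z * (h * (a : G) * h⁻¹) = h * (a : G) * h⁻¹ * z := mem_centralizer_singleton_iff.1 hz
        calc h⁻¹ * z * h * (a : G) = h⁻¹ * (z * (h * (a : G) * h⁻¹)) * h := by group
          _ = h⁻¹ * (h * (a : G) * h⁻¹ * z) * h := by rw [e]
          _ = (a : G) * (h⁻¹ * z * h) := by group
      refine Subgroup.mem_normalizer_iff.2 fun z => ⟨fun hz => key g hg ⟨z, hz, rfl⟩, fun hz => ?_⟩
      have h := key g⁻¹ (inv_mem hg) ⟨_, hz, rfl⟩
      simpa [mul_assoc] using h
    refine ⟨W ⊔ N, fun htop => ?_, fun t ht ht1 => ⟨1, fun z hz => ?_⟩⟩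
    · have hWn : W.Normal := normalizer_eq_top_iff.1 (top_le_iff.1
        (htop ▸ sup_le Subgroup.le_normalizer hNW))
      rcases hWn.eq_bot_or_eq_top with h | h
      · rw [h, bot_sup_eq] at htop
        have hAn : A.Normal := normalizer_eq_top_iff.1 htop
        rcases hAn.eq_bot_or_eq_top with h' | h'
        · rw [h', Subgroup.card_bot] at hA3
          norm_num at hA3
        · exact hns (Group.isSolvable_of_comm fun a b =>
            hAcomm a (by rw [h']; exact Subgroup.mem_top _) b (by rw [h']; exact Subgroup.mem_top _))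
      · exact hWodd (by
          show 2 ∣ Nat.card W
          rw [h, Subgroup.card_top]
          exact heven)
    · haveI := hCsolv t (hSord t ht ht1)
      rw [one_mul, inv_one, mul_one]
      exact (centralizer_le h2 S (hSC t ht)).trans
        (sup_le_sup (le_iSup (fun b : {a : G // a ∈ A ∧ a ≠ 1} =>
          centralizerPPrimeCore 2 (b : G)) ⟨t, ht, ht1⟩) le_rfl) hz
  -- every element commutes with an involution
  refine hM (PGroup.eq_top_of_forall_exists_conj_mem fun y => ?_)
  obtain ⟨r, hr, hyr⟩ : ∃ r : G, orderOf r = 2 ∧ y ∈ centralizer ({r} : Set G) := by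
    by_cases hy : Odd (orderOf y)
    · have h2C : 2 ∣ Nat.card (centralizer ({y} : Set G)) := by
        by_contra hC
        refine hcl y hy (four_dvd_of_mul_odd (b := Nat.card (centralizer ({y} : Set G))) ?_ hC)
        rw [mul_comm, Subgroup.card_mul_index]
        have hne : Nat.card (S : Subgroup G) ≠ 2 ∧ Nat.card (S : Subgroup G) ≠ 1 := by
          refine ⟨fun hS2 => normalizer_ne_le_centralizer hns heven S fun g hg => ?_, fun hS1 => ?_⟩
          · refine mem_centralizer_iff.2 fun s hs => ?_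
            by_cases hs1 : s = 1
            · rw [hs1, one_mul, mul_one]
            have hgs := (Subgroup.mem_normalizer_iff.1 hg s).1 hs
            have huniq : ∀ z ∈ (S : Subgroup G), z ≠ 1 → z = s := fun z hz hz1 => by
              obtain ⟨w, hw, hwu⟩ := (Nat.card_eq_two_iff' (1 : (S : Subgroup G))).1 hS2
              have a1 := hwu ⟨z, hz⟩ (by simpa [Subtype.ext_iff] using hz1)
              have a2 := hwu ⟨s, hs⟩ (by simpa [Subtype.ext_iff] using hs1)
              exact congrArg Subtype.val (a1.trans a2.symm)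
            exact (mul_inv_eq_iff_eq_mul.1
              (huniq _ hgs fun e => hs1 (conj_eq_one_iff.1 e))).symm
          · exact S.not_dvd_index (by
              have := Subgroup.card_mul_index (S : Subgroup G)
              rw [hS1, one_mul] at this
              rw [this]; exact heven)
        obtain ⟨j, hj⟩ := IsPGroup.iff_card.1 S.isPGroup'
        refine dvd_trans ?_ (Subgroup.card_subgroup_dvd_card (S : Subgroup G))
        rw [hj] at hne ⊢
        match j, hne with
        | 0, h => exact absurd rfl h.2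
        | 1, h => exact absurd rfl h.1
        | j + 2, _ => exact ⟨2 ^ j, by ring⟩
      obtain ⟨r, hr⟩ := exists_prime_orderOf_dvd_card' (G := centralizer ({y} : Set G)) 2 h2C
      exact ⟨r, by rw [Subgroup.orderOf_coe, hr],
        mem_centralizer_singleton_iff.2 (mem_centralizer_singleton_iff.1 r.2).symm⟩
    · refine ⟨y ^ (orderOf y / 2), orderOf_pow_orderOf_div (orderOf_pos y).ne'
        (even_iff_two_dvd.1 (Nat.not_odd_iff_even.1 hy)), mem_centralizer_singleton_iff.2 ?_⟩
      exact (Commute.refl y).pow_right _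
  obtain ⟨R, hR⟩ := (IsPGroup.of_card (n := 1) (by rw [Nat.card_zpowers, hr, pow_one]) :
    IsPGroup 2 (zpowers r)).exists_le_sylow
  obtain ⟨g, hg⟩ := MulAction.exists_smul_eq G R S
  have hrS : g * r * g⁻¹ ∈ (S : Subgroup G) := by
    rw [← hg, Sylow.coe_subgroup_smul]
    exact ⟨r, hR (mem_zpowers r), rfl⟩
  have hr1 : g * r * g⁻¹ ≠ 1 := fun h => by
    rw [conj_eq_one_iff.1 h, orderOf_one] at hr
    omega
  obtain ⟨k, hk⟩ := hMC _ hrS hr1
  refine ⟨k * g, ?_⟩
  have := hk (g * y * g⁻¹) (mem_centralizer_singleton_iff.2 (by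
    have h := mem_centralizer_singleton_iff.1 hyr
    calc g * y * g⁻¹ * (g * r * g⁻¹) = g * (y * r) * g⁻¹ := by group
      _ = g * (r * y) * g⁻¹ := by rw [h]
      _ = g * r * g⁻¹ * (g * y * g⁻¹) := by group))
  rwa [show k * g * y * (k * g)⁻¹ = k * (g * y * g⁻¹) * k⁻¹ by group]

/-- Some conjugate of the subgroup generated by the squares of `S` centralizes `x`. -/
theorem exists_conj_commute_squares (S : Sylow 2 G) {x : G}
    (hx : ¬ 4 ∣ (centralizer ({x} : Set G)).index) :
    ∃ g : G, ∀ s ∈ (S : Subgroup G), Commute (g * x * g⁻¹) (s * s) := by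
  haveI : Fact (Nat.Prime 2) := ⟨Nat.prime_two⟩
  set C := centralizer ({x} : Set G)
  obtain ⟨R⟩ : Nonempty (Sylow 2 C) := inferInstance
  obtain ⟨Q, hQ⟩ := (R.isPGroup'.map C.subtype).exists_le_sylow
  set R' := (R : Subgroup C).map C.subtype with hR'
  have h4 : ¬ 4 ∣ R'.relIndex (Q : Subgroup G) := fun h => by
    refine hx (four_dvd_of_mul_odd (b := (R : Subgroup C).index) ?_ R.not_dvd_index)
    rw [mul_comm, ← Subgroup.index_map_subtype, ← hR']
    exact h.trans ⟨_, (Subgroup.relIndex_mul_index hQ).symm⟩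
  obtain ⟨j, hj⟩ := Q.isPGroup'.index (R'.subgroupOf (Q : Subgroup G))
  obtain ⟨g, hg⟩ := MulAction.exists_smul_eq G Q S
  refine ⟨g, fun s hs => ?_⟩
  rw [← hg, Sylow.coe_subgroup_smul] at hs
  obtain ⟨q, hq, rfl⟩ := hs
  have hsq : q * q ∈ R' := by
    have key : ∀ z : (Q : Subgroup G), z * z ∈ R'.subgroupOf (Q : Subgroup G) := by
      intro z
      rw [Subgroup.relIndex] at h4
      match j, hj with
      | 0, hj => rw [Subgroup.index_eq_one.1 (hj.trans (pow_zero 2))]; trivial
      | 1, hj => exact Subgroup.mul_self_mem_of_index_two (hj.trans (pow_one 2)) z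
      | j + 2, hj => exact absurd (hj ▸ ⟨2 ^ j, by ring⟩) h4
    exact Subgroup.mem_subgroupOf.1 (key ⟨q, hq⟩)
  have hc : q * q * x = x * (q * q) :=
    mem_centralizer_singleton_iff.1 (Subgroup.map_subtype_le _ hsq)
  show g * x * g⁻¹ * (g * q * g⁻¹ * (g * q * g⁻¹)) = g * q * g⁻¹ * (g * q * g⁻¹) * (g * x * g⁻¹)
  calc g * x * g⁻¹ * (g * q * g⁻¹ * (g * q * g⁻¹)) = g * (x * (q * q)) * g⁻¹ := by group
    _ = g * (q * q * x) * g⁻¹ := by rw [hc]
    _ = _ := by group

/-- No class size divisible by four forces solvability, given the odd order theorem. -/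
theorem solvable_of_classes
    (hFT : ∀ (H : Type u) [Group H] [Finite H], Odd (Nat.card H) → Group.IsSolvable H) (n : ℕ) :
    ∀ (G : Type u) [Group G] [Finite G], Nat.card G = n →
      (∀ x : G, ¬ 4 ∣ (centralizer ({x} : Set G)).index) → Group.IsSolvable G := by
  induction n using Nat.strong_induction_on with
  | _ n ih =>
  intro G _ _ hn h
  by_cases hs : ∃ N : Subgroup G, N.Normal ∧ N ≠ ⊥ ∧ N ≠ ⊤
  · obtain ⟨N, hN, hN1, hN2⟩ := hs
    have hlt : Nat.card N < n := hn ▸ lt_of_le_of_ne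
      (Nat.le_of_dvd Nat.card_pos (card_subgroup_dvd_card N)) fun e => hN2 (eq_top_of_card_eq N e)
    haveI : Group.IsSolvable N := ih _ hlt N rfl fun x =>
      not_four_dvd_of_dvd (h x) ((index_centralizer_dvd N x le_rfl).trans relIndex_dvd_index)
    haveI : Group.IsSolvable (G ⧸ N) := ih _ (hn ▸ Core.card_quotient_lt hN1) _ rfl fun y => by
      obtain ⟨x, rfl⟩ := QuotientGroup.mk_surjective y
      exact not_four_dvd_of_dvd (h x) (index_centralizer_quotient_dvd N x)
    exact Group.isSolvable_of_ker_le_range N.subtype (QuotientGroup.mk' N) (by simp)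
  by_contra hns
  push Not at hs
  haveI : Fact (Nat.Prime 2) := ⟨Nat.prime_two⟩
  obtain ⟨S⟩ : Nonempty (Sylow 2 G) := inferInstance
  set W := closure {w : G | ∃ s ∈ (S : Subgroup G), w = s * s} with hW
  have htop : centralizer (W : Set G) = ⊤ := PGroup.eq_top_of_forall_exists_conj_mem fun x => by
    obtain ⟨g, hg⟩ := exists_conj_commute_squares S (h x)
    refine ⟨g, ?_⟩
    rw [hW, centralizer_closure, mem_centralizer_iff]
    rintro _ ⟨s, hs, rfl⟩
    exact (hg s hs).eq.symm
  have hWc : W ≤ center G := fun w hw => mem_center_iff.2 fun g =>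
    ((mem_centralizer_iff.1 (htop ▸ Subgroup.mem_top g)) w hw).symm
  have hcen : center G = ⊥ := by
    by_contra hc
    have := hs (center G) inferInstance hc
    exact hns (Group.isSolvable_of_comm fun a b => mem_center_iff.1 (this ▸ Subgroup.mem_top b) a)
  have h2 : TwoExp G := by
    intro x k hx
    have hz : IsPGroup 2 (zpowers x) := by
      obtain ⟨j, -, hj⟩ := (Nat.dvd_prime_pow Nat.prime_two).1 (orderOf_dvd_of_pow_eq_one hx)
      exact IsPGroup.of_card (n := j) (by rw [Nat.card_zpowers, hj])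
    obtain ⟨R, hR⟩ := hz.exists_le_sylow
    obtain ⟨g, hg⟩ := MulAction.exists_smul_eq G R S
    have hxS : g * x * g⁻¹ ∈ (S : Subgroup G) := by
      rw [← hg, Sylow.coe_subgroup_smul]
      exact ⟨x, hR (mem_zpowers x), rfl⟩
    have h1 : g * x * g⁻¹ * (g * x * g⁻¹) = 1 := by
      rw [← mem_bot, ← hcen]
      exact hWc (subset_closure ⟨_, hxS, rfl⟩)
    have h2 : g * (x * x) * g⁻¹ = 1 := by rw [← h1]; group
    exact conj_eq_one_iff.1 h2
  exact hns (solvable_of_oddClass_aux hFT _ G rfl h2 fun x _ => h x)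

end Cfsg.Lib.ClassSizeFour
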