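import Cfsg.Agent.Lib.Solv.FrobeniusBasic
import Mathlib.GroupTheory.SemidirectProduct
import Mathlib.LinearAlgebra.FreeModule.PID
import Mathlib.LinearAlgebra.Matrix.ToLin
import Mathlib.NumberTheory.PrimesCongruentOne
import Mathlib.Algebra.CharP.Algebra
import Mathlib.Algebra.Algebra.ZMod
import Mathlib.Tactic.NoncommRing

/-!
Producing Frobenius complements: fixed-point-free actions, subgroups of division rings.
-/

set_option autoImplicit false
set_option linter.style.haveILetI false

namespace Cfsg.Lib.Solv.ComplementExamples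

open Subgroup Cfsg Cfsg.Lib.Core
open scoped Pointwise

/-- `H` occurs as a Frobenius complement of a finite group. -/
def OccursAsComplement (H : Type*) [Group H] : Prop :=
  ∃ (L : Type) (_ : Group L) (_ : Finite L) (C : Subgroup L),
    IsFrobeniusComplement C ∧ Nonempty (H ≃* C)

theorem occurs_congr {H H' : Type*} [Group H] [Group H'] (e : H ≃* H')
    (h : OccursAsComplement H') : OccursAsComplement H := by
  obtain ⟨L, i1, i2, C, hC, ⟨f⟩⟩ := h
  exact ⟨L, i1, i2, C, hC, ⟨e.trans f⟩⟩

/-- A fixed-point-free action of a nontrivial group makes it occur as a Frobenius complement. -/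
theorem occurs_of_fpf {B V : Type*} [Group B] [Finite B] [Nontrivial B] [Group V] [Finite V]
    [Nontrivial V] (φ : B →* MulAut V) (hfpf : ∀ b : B, b ≠ 1 → ∀ v : V, φ b v = v → v = 1) :
    OccursAsComplement B := by
  classical
  let X := SemidirectProduct V B φ
  haveI : Finite X := Finite.of_equiv _ SemidirectProduct.equivProd.symm
  set K : Subgroup X := (SemidirectProduct.inl : V →* X).range with hK
  set H : Subgroup X := (SemidirectProduct.inr : B →* X).range with hH
  haveI : K.Normal := by rw [hK, SemidirectProduct.range_inl_eq_ker_rightHom]; infer_instance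
  have hcompl : K.IsComplement' H := by
    refine isComplement'_of_disjoint_and_mul_eq_univ ?_ (Set.eq_univ_of_forall fun x =>
      ⟨_, ⟨x.left, rfl⟩, _, ⟨x.right, rfl⟩, SemidirectProduct.inl_left_mul_inr_right x⟩)
    rw [disjoint_iff, eq_bot_iff]
    rintro x ⟨⟨v, hv⟩, ⟨b, hb⟩⟩
    have h := congrArg SemidirectProduct.left (hv.trans hb.symm)
    simp only [SemidirectProduct.left_inl, SemidirectProduct.left_inr] at h
    rw [mem_bot, ← hv, h, map_one]
  have hKb : K ≠ ⊥ := fun h => by
    obtain ⟨v, hv⟩ := exists_ne (1 : V)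
    have : SemidirectProduct.inl v ∈ K := ⟨v, rfl⟩
    rw [h, mem_bot] at this
    exact hv (SemidirectProduct.inl_injective (this.trans (map_one _).symm))
  have hHb : H ≠ ⊥ := fun h => by
    obtain ⟨b, hb⟩ := exists_ne (1 : B)
    have : SemidirectProduct.inr b ∈ H := ⟨b, rfl⟩
    rw [h, mem_bot] at this
    exact hb (SemidirectProduct.inr_injective (this.trans (map_one _).symm))
  have hfc : IsFrobeniusComplement H := by
    refine isFrobeniusComplement_of_fpf hcompl hKb hHb ?_
    rintro _ ⟨b, rfl⟩ hb1
    rw [eq_bot_iff]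
    rintro _ ⟨⟨v, rfl⟩, hvc⟩
    have hb : b ≠ 1 := fun h => hb1 (by rw [h, map_one])
    have hcomm := mem_centralizer_singleton_iff.1 hvc
    have : φ b v = v := by
      apply SemidirectProduct.inl_injective (φ := φ)
      rw [SemidirectProduct.inl_aut, map_inv, ← hcomm]
      group
    rw [mem_bot, hfpf b hb v this, map_one]
  -- transport to `Type`
  obtain ⟨L, i1, i2, ⟨e⟩⟩ : ∃ (L : Type) (_ : Group L) (_ : Finite L), Nonempty (X ≃* L) := by
    obtain ⟨L, i1, i2, e⟩ := Finite.exists_type_univ_nonempty_mulEquiv.{_, 0} X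
    exact ⟨L, i1, Finite.of_fintype L, e⟩
  refine ⟨L, i1, i2, H.map e.toMonoidHom, ⟨?_, ?_, fun g hg => ?_⟩,
    ⟨(MonoidHom.ofInjective SemidirectProduct.inr_injective).trans (H.equivMapOfInjective _ e.injective)⟩⟩
  · exact fun h => hfc.1 ((H.map_eq_bot_iff_of_injective e.injective).1 h)
  · exact fun h => hfc.2.1 (map_injective e.injective (h.trans (map_top_of_surjective _ e.surjective).symm))
  · obtain ⟨g, rfl⟩ := e.surjective g
    have hg' : g ∉ H := fun h => hg (mem_map_of_mem _ h)
    rw [eq_bot_iff]
    rintro _ ⟨⟨x, hx, rfl⟩, hx2⟩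
    have hx2' : (e.toMonoidHom x) ∈ MulAut.conj (e g) • H.map e.toMonoidHom := hx2
    rw [mem_conj_smul] at hx2'
    obtain ⟨y, hy, hye⟩ := hx2'
    have hy' : y = g⁻¹ * x * g := e.injective (hye.trans (by simp))
    have : x ∈ H ⊓ MulAut.conj g • H := ⟨hx, mem_conj_smul.2 (hy' ▸ hy)⟩
    rw [hfc.2.2 g hg', mem_bot] at this
    rw [mem_bot, this, map_one]

/-- A matrix representation in which every nontrivial element has vanishing power sum gives a
fixed-point-free action after reduction to a prime field of coprime characteristic. -/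
theorem occurs_of_matrix {B : Type*} [Group B] [Finite B] [Nontrivial B] {k : Type*} [CommRing k]
    {n : ℕ} (hn : n ≠ 0) (ρ : B →* Matrix (Fin n) (Fin n) k)
    (hsum : ∀ b : B, b ≠ 1 → ∑ i ∈ Finset.range (orderOf b), ρ b ^ i = 0)
    (q : ℕ) [Fact q.Prime] (hq : ¬ q ∣ Nat.card B) (f : k →+* ZMod q) : OccursAsComplement B := by
  classical
  let ρ' : B →* Matrix (Fin n) (Fin n) (ZMod q) := (f.mapMatrix.toMonoidHom).comp ρ
  let U := ρ'.toHomUnits
  let act : B →* MulAut (Multiplicative (Fin n → ZMod q)) :=
    { toFun := fun b =>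
        { toFun := fun v => Multiplicative.ofAdd (Matrix.mulVec (ρ' b) v.toAdd)
          invFun := fun v => Multiplicative.ofAdd (Matrix.mulVec (ρ' b⁻¹) v.toAdd)
          left_inv := fun v => by
            simp [Matrix.mulVec_mulVec, ← map_mul]
          right_inv := fun v => by
            simp [Matrix.mulVec_mulVec, ← map_mul]
          map_mul' := fun v w => by simp [Matrix.mulVec_add] }
      map_one' := by ext v; simp
      map_mul' := fun a b => by ext v; simp [Matrix.mulVec_mulVec] }
  haveI : Nonempty (Fin n) := ⟨⟨0, Nat.pos_of_ne_zero hn⟩⟩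
  refine occurs_of_fpf act fun b hb v hv => ?_
  have hv' : Matrix.mulVec (ρ' b) v.toAdd = v.toAdd := congrArg Multiplicative.toAdd hv
  have hpow : ∀ i : ℕ, Matrix.mulVec (ρ' b ^ i) v.toAdd = v.toAdd := fun i => by
    induction i with
    | zero => simp
    | succ i ih => rw [pow_succ, ← Matrix.mulVec_mulVec, hv', ih]
  have hs : ∑ i ∈ Finset.range (orderOf b), ρ' b ^ i = 0 := by
    have h := congrArg f.mapMatrix (hsum b hb)
    simpa [ρ', map_sum, map_pow] using h
  have h2 : (orderOf b : ZMod q) • v.toAdd = 0 := by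
    have h := congrArg (fun M => Matrix.mulVec M v.toAdd) hs
    simp only [Matrix.sum_mulVec, hpow, Finset.sum_const, Finset.card_range, Matrix.zero_mulVec] at h
    rwa [Nat.cast_smul_eq_nsmul]
  have hne : (orderOf b : ZMod q) ≠ 0 := fun h =>
    hq (((CharP.cast_eq_zero_iff (ZMod q) q _).1 h).trans (orderOf_dvd_natCard b))
  exact congrArg Multiplicative.ofAdd ((smul_eq_zero.1 h2).resolve_left hne)

/-- The `k`-span of a finite subgroup of units of a division algebra gives a matrix representation. -/
theorem exists_matrix {D : Type*} [DivisionRing D] {k : Type*} [CommRing k] [IsDomain k]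
    [IsPrincipalIdealRing k] [Module k D] [SMulCommClass k D D] [IsScalarTower k D D]
    [Module.IsTorsionFree k D] (H : Subgroup Dˣ) [Finite H] :
    ∃ (n : ℕ) (ρ : H →* Matrix (Fin n) (Fin n) k), n ≠ 0 ∧
      ∀ b : H, b ≠ 1 → ∑ i ∈ Finset.range (orderOf b), ρ b ^ i = 0 := by
  classical
  set R : Submodule k D := Submodule.span k (Set.range fun h : H => ((h : Dˣ) : D)) with hR
  haveI : Module.Finite k R := Module.Finite.span_of_finite k (Set.finite_range _)
  haveI : Module.Free k R := Module.free_of_finite_type_torsion_free'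
  have hmem : ∀ (h : H) (x : D), x ∈ R → ((h : Dˣ) : D) * x ∈ R := fun h x hx => by
    induction hx using Submodule.span_induction with
    | mem x hx =>
      obtain ⟨g, rfl⟩ := hx
      exact Submodule.subset_span ⟨h * g, by simp⟩
    | zero => simp
    | add x y _ _ hx hy => rw [mul_add]; exact R.add_mem hx hy
    | smul a x _ hx => rw [mul_smul_comm]; exact R.smul_mem a hx
  let μ : H →* Module.End k R :=
    { toFun := fun h =>
        { toFun := fun x => ⟨((h : Dˣ) : D) * x, hmem h x x.2⟩
          map_add' := fun x y => Subtype.ext (mul_add _ _ _)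
          map_smul' := fun a x => Subtype.ext (mul_smul_comm a _ _) }
      map_one' := by ext x; simp
      map_mul' := fun g h => by ext x; simp [mul_assoc] }
  obtain ⟨n, bas⟩ : ∃ n, Nonempty (Module.Basis (Fin n) k R) :=
    ⟨_, ⟨Module.finBasis k R⟩⟩
  obtain ⟨bas⟩ := bas
  refine ⟨n, ((LinearMap.toMatrixAlgEquiv bas).toAlgHom.toMonoidHom).comp μ, ?_, fun b hb => ?_⟩
  · rintro rfl
    have h1 : (⟨1, Submodule.subset_span ⟨1, by simp⟩⟩ : R) = 0 :=
      bas.repr.injective (Subsingleton.elim _ _)
    exact one_ne_zero (congrArg Subtype.val h1)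
  · have hne : ((b : Dˣ) : D) ≠ 1 := fun h => hb (Subtype.ext (Units.ext h))
    have hs : ∑ i ∈ Finset.range (orderOf b), ((b : Dˣ) : D) ^ i = 0 := by
      have h := geom_sum_mul ((b : Dˣ) : D) (orderOf b)
      have h1 : ((b : Dˣ) : D) ^ orderOf b = 1 := by
        rw [← Units.val_pow_eq_pow_val, ← Subgroup.coe_pow, pow_orderOf_eq_one]; rfl
      rw [h1, sub_self] at h
      exact (mul_eq_zero.1 h).resolve_right (sub_ne_zero.2 hne)
    have hμ : ∑ i ∈ Finset.range (orderOf b), μ b ^ i = 0 := by
      ext x
      simp only [← map_pow, LinearMap.sum_apply, Submodule.coe_sum, LinearMap.zero_apply,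
        ZeroMemClass.coe_zero]
      show ∑ i ∈ Finset.range (orderOf b), (((b ^ i : H) : Dˣ) : D) * (x : D) = 0
      simp only [Subgroup.coe_pow, Units.val_pow_eq_pow_val, ← Finset.sum_mul, hs, zero_mul]
    have h := congrArg (LinearMap.toMatrixAlgEquiv bas) hμ
    simp only [map_sum, map_pow, map_zero] at h
    exact h

/-- Nontrivial finite subgroups of the units of a division ring occur as Frobenius complements. -/
theorem occurs_of_divisionRing {D : Type*} [DivisionRing D] (H : Subgroup Dˣ) [Finite H]
    (hH : H ≠ ⊥) : OccursAsComplement H := by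
  classical
  haveI : Nontrivial H := (nontrivial_iff_ne_bot H).2 hH
  obtain ⟨q, hq⟩ := CharP.exists D
  rcases CharP.char_is_prime_or_zero D q with hqp | rfl
  · haveI : Fact q.Prime := ⟨hqp⟩
    letI : Algebra (ZMod q) D := ZMod.algebra D q
    obtain ⟨n, ρ, hn, hsum⟩ := exists_matrix (k := ZMod q) H
    refine occurs_of_matrix hn ρ hsum q (fun hd => ?_) (RingHom.id _)
    obtain ⟨b, hb⟩ := exists_prime_orderOf_dvd_card' q hd
    have h1 : ((b : Dˣ) : D) ^ q = 1 := by
      rw [← hb, ← Units.val_pow_eq_pow_val, ← Subgroup.coe_pow, pow_orderOf_eq_one]; rfl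
    have h2 : (((b : Dˣ) : D) - 1) ^ q = 0 := by
      rw [sub_pow_char_of_commute _ (Commute.one_right _), h1, one_pow, sub_self]
    have h3 : b = 1 := Subtype.ext (Units.ext (sub_eq_zero.1 (pow_eq_zero_iff hqp.ne_zero |>.1 h2)))
    rw [h3, orderOf_one] at hb
    exact hqp.ne_one hb.symm
  · haveI : CharZero D := CharP.charP_to_charZero D
    obtain ⟨n, ρ, hn, hsum⟩ := exists_matrix (k := ℤ) H
    obtain ⟨q, hq1, hq2⟩ := Nat.exists_infinite_primes (Nat.card H + 1)
    haveI : Fact q.Prime := ⟨hq2⟩
    exact occurs_of_matrix hn ρ hsum q (fun hd => by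
      have := Nat.le_of_dvd Nat.card_pos hd; omega) (Int.castRingHom _)

/-- A nontrivial group embedded in the units of a division ring occurs as a Frobenius complement. -/
theorem occurs_of_injective {D : Type*} [DivisionRing D] {B : Type*} [Group B] [Finite B]
    [Nontrivial B] (f : B →* Dˣ) (hf : Function.Injective f) : OccursAsComplement B := by
  haveI : Finite f.range := Finite.of_surjective _ f.rangeRestrict_surjective
  refine occurs_congr (MonoidHom.ofInjective hf) (occurs_of_divisionRing f.range fun h => ?_)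
  obtain ⟨b, hb⟩ := exists_ne (1 : B)
  have : f b ∈ f.range := ⟨b, rfl⟩
  rw [h, mem_bot] at this
  exact hb (hf (this.trans (map_one f).symm))

end Cfsg.Lib.Solv.ComplementExamples
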