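import Mathlib

/-!
# The geometric mean of fixed point orders

If a solvable group `A` acts irreducibly and nontrivially on an abelian `p`-group `V`, then
`(∏ a, |C_V(a)|) ^ 2 ≤ |V| ^ |A|`: on average the fixed points take up at most half of `V`.
-/

set_option autoImplicit false
set_option linter.unusedSectionVars false
set_option linter.style.haveILetI false

namespace Cfsg.Lib.Solv.FixedPointProduct

open Subgroup

universe u v

variable {A : Type u} [Group A] [Finite A] {V : Type v} [CommGroup V] [Finite V]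
  [MulDistribMulAction A V]

/-- The fixed points of a subgroup. -/
def fix (K : Subgroup A) : Subgroup V where
  carrier := {v | ∀ k ∈ K, k • v = v}
  one_mem' k _ := smul_one k
  mul_mem' {a b} ha hb k hk := by rw [smul_mul', ha k hk, hb k hk]
  inv_mem' {a} ha k hk := by rw [smul_inv', ha k hk]

theorem mem_fix {K : Subgroup A} {v : V} : v ∈ fix (V := V) K ↔ ∀ k ∈ K, k • v = v := Iff.rfl

/-- The fixed points of an element. -/
abbrev fixOne (a : A) : Set V := {v | a • v = v}

/-- Averaging over a subgroup. -/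
noncomputable def avg (K : Subgroup A) : V →* V where
  toFun v := ∏ᶠ k : K, (k : A) • v
  map_one' := by simp
  map_mul' a b := by
    rw [← finprod_mul_distrib (Set.toFinite _) (Set.toFinite _)]
    exact finprod_congr fun k => smul_mul' _ a b

theorem avg_mem (K : Subgroup A) (v : V) : avg K v ∈ fix (V := V) K := by
  intro k hk
  show (MulDistribMulAction.toMonoidHom V k) (∏ᶠ x : K, (x : A) • v) = ∏ᶠ x : K, (x : A) • v
  rw [MonoidHom.map_finprod_of_preimage_one]
  · refine finprod_eq_of_bijective (fun x : K => (⟨k, hk⟩ * x : K)) (Equiv.mulLeft _).bijective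
      fun x => ?_
    show k • (x : A) • v = _
    rw [smul_smul]; rfl
  · intro x hx
    rw [← smul_one k] at hx
    exact MulAction.injective k hx

theorem avg_of_mem {K : Subgroup A} {v : V} (h : v ∈ fix (V := V) K) :
    avg K v = v ^ Nat.card K := by
  show ∏ᶠ k : K, (k : A) • v = _
  haveI := Fintype.ofFinite K
  rw [finprod_eq_prod_of_fintype, Finset.prod_congr rfl fun (k : K) _ => h k k.2, Finset.prod_const,
    Finset.card_univ, Nat.card_eq_fintype_card]

/-- The bound on one coset of an abelian normal subgroup without fixed points. -/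
theorem coset_bound (p : ℕ) [Fact p.Prime] (hV : IsPGroup p V) (N : Subgroup A) [N.Normal]
    (hab : ∀ a ∈ N, ∀ b ∈ N, a * b = b * a) (hp : ¬ p ∣ Nat.card N) (hN : fix (V := V) N = ⊥)
    (hirr : ∀ W : Subgroup V, (∀ (a : A), ∀ w ∈ W, a • w ∈ W) → W = ⊥ ∨ W = ⊤)
    [Fintype N] (g : A) :
    (∏ n : N, Nat.card (fixOne (V := V) (g * n))) ^ 2 ≤ Nat.card V ^ Nat.card N := by
  classical
  let S : Set (Subgroup A) :=
    {K | K ≤ N ∧ fix (V := V) K ≠ ⊥ ∧ ∀ K' ≤ N, K ≤ K' → fix (V := V) K' ≠ ⊥ → K' = K}
  -- conjugation permutes `S`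
  let cj : A → Subgroup A → Subgroup A := fun a K => K.map (MulAut.conj a).toMonoidHom
  have hcjm : ∀ (a x : A) (K : Subgroup A), a * x * a⁻¹ ∈ cj a K ↔ x ∈ K := fun a x K =>
    Subgroup.mem_map_iff_mem (MulEquiv.injective (MulAut.conj a))
  have hcjc : ∀ (a : A) (K : Subgroup A), cj a⁻¹ (cj a K) = K := fun a K => by
    ext x
    have h1 : x = a⁻¹ * (a * x * a⁻¹) * a⁻¹⁻¹ := by group
    rw [h1, hcjm, hcjm, ← h1]
  have hfixcj : ∀ (a : A) (K : Subgroup A) (v : V), v ∈ fix (V := V) K → a • v ∈ fix (V := V) (cj a K) := by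
    rintro a K v hv _ ⟨k, hk, rfl⟩
    show (a * k * a⁻¹) • a • v = a • v
    rw [smul_smul, inv_mul_cancel_right, ← smul_smul, hv k hk]
  have hcjS : ∀ (a : A) (K : Subgroup A), K ∈ S → cj a K ∈ S := by
    have hne : ∀ (a : A) (K : Subgroup A), fix (V := V) K ≠ ⊥ → fix (V := V) (cj a K) ≠ ⊥ := by
      intro a K hK h
      obtain ⟨v, hv, hv1⟩ := (Subgroup.bot_or_exists_ne_one (fix (V := V) K)).resolve_left hK
      have := hfixcj a K v hv
      rw [h, Subgroup.mem_bot] at this
      exact hv1 ((MulAction.injective a) (this.trans (smul_one a).symm))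
    have hle : ∀ (a : A) (K : Subgroup A), K ≤ N → cj a K ≤ N := by
      rintro a K hK _ ⟨k, hk, rfl⟩
      exact (inferInstance : N.Normal).conj_mem k (hK hk) a
    rintro a K ⟨h1, h2, h3⟩
    refine ⟨hle a K h1, hne a K h2, fun K' h4 h5 h6 => ?_⟩
    have h7 := h3 (cj a⁻¹ K') (hle _ _ h4) (by
      rw [← hcjc a K]; exact Subgroup.map_mono h5) (hne _ _ h6)
    rw [← h7]
    have := hcjc a⁻¹ K'
    rwa [inv_inv, eq_comm] at this
  let ι := {K : Subgroup A // K ∈ S}
  haveI : Finite ι := Subtype.finite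
  haveI := Fintype.ofFinite ι
  let W : ι → Subgroup V := fun K => fix (V := V) K.1
  let Φ : ((K : ι) → W K) →* V :=
    { toFun := fun f => ∏ K, (f K : V)
      map_one' := by simp
      map_mul' := fun a b => by simp [Finset.prod_mul_distrib] }
  have hΦsingle : ∀ (K : ι) (w : W K), Φ (Pi.mulSingle K w) = w := fun K w => by
    show ∏ K', ((Pi.mulSingle K w : (K : ι) → W K) K' : V) = w
    rw [Finset.prod_eq_single K (fun b _ hb => by simp [Pi.mulSingle_eq_of_ne hb]) (by simp),
      Pi.mulSingle_eq_same]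
  have hcard : ∀ K : Subgroup A, K ≤ N → (Nat.card K).Coprime p := fun K hK =>
    ((Fact.out : p.Prime).coprime_iff_not_dvd.2 fun h => hp (h.trans (Subgroup.card_dvd_of_le hK))).symm
  have hpow : ∀ K : Subgroup A, K ≤ N → ∀ w : V, w ^ Nat.card K = 1 → w = 1 := fun K hK w hw => by
    obtain ⟨n, hn⟩ := hV w
    have h1 : orderOf w ∣ Nat.gcd (Nat.card K) (p ^ n) :=
      Nat.dvd_gcd (orderOf_dvd_of_pow_eq_one hw) (orderOf_dvd_of_pow_eq_one hn)
    rw [(hcard K hK).pow_right n, Nat.dvd_one, orderOf_eq_one_iff] at h1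
    exact h1
  have hkill : ∀ K K' : ι, K ≠ K' → ∀ w ∈ W K', avg K.1 w = 1 := by
    intro K K' hne w hw
    have hmem : avg K.1 w ∈ fix (V := V) (K.1 ⊔ K'.1) := by
      have h2 : avg K.1 w ∈ fix (V := V) K'.1 := by
        intro k hk
        show (MulDistribMulAction.toMonoidHom V k) (∏ᶠ x : K.1, (x : A) • w) = ∏ᶠ x : K.1, (x : A) • w
        rw [MonoidHom.map_finprod_of_preimage_one]
        · refine finprod_congr fun x => ?_
          show k • (x : A) • w = (x : A) • w
          rw [smul_smul, hab k (K'.2.1 hk) x (K.2.1 x.2), ← smul_smul, hw k hk]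
        · intro x hx
          rw [← smul_one k] at hx
          exact MulAction.injective k hx
      intro k hk
      have hle : K.1 ⊔ K'.1 ≤ MulAction.stabilizer A (avg K.1 w) :=
        sup_le (fun x hx => avg_mem K.1 w x hx) (fun x hx => h2 x hx)
      exact hle hk
    by_cases hbot : fix (V := V) (K.1 ⊔ K'.1) = ⊥
    · rw [hbot, Subgroup.mem_bot] at hmem; exact hmem
    · exfalso
      have e1 := K.2.2.2 _ (sup_le K.2.1 K'.2.1) le_sup_left hbot
      have e2 := K'.2.2.2 _ (sup_le K.2.1 K'.2.1) le_sup_right hbot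
      exact hne (Subtype.ext (e1.symm.trans e2))
  have hΦinj : Function.Injective Φ := by
    rw [injective_iff_map_eq_one]
    intro f hf
    funext K
    refine Subtype.ext (hpow K.1 K.2.1 _ ?_)
    have h := congrArg (avg (V := V) K.1) hf
    rw [show Φ f = ∏ K', (f K' : V) from rfl, map_prod, map_one,
      Finset.prod_eq_single K (fun b _ hb => hkill K b (Ne.symm hb) _ (f b).2) (by simp),
      avg_of_mem (f K).2] at h
    exact h
  -- the sum is everything
  have hΦsurj : Function.Surjective Φ := by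
    rw [← MonoidHom.range_eq_top]
    rcases subsingleton_or_nontrivial V with hsub | hnt
    · exact Subsingleton.elim _ _
    refine (hirr Φ.range ?_).resolve_left ?_
    · rintro a _ ⟨f, rfl⟩
      rw [show Φ f = ∏ K, (f K : V) from rfl, Finset.smul_prod']
      refine prod_mem fun K _ => ?_
      exact ⟨Pi.mulSingle ⟨cj a K.1, hcjS a K.1 K.2⟩ ⟨a • (f K : V), hfixcj a K.1 _ (f K).2⟩,
        hΦsingle _ _⟩
    · intro hbot
      -- a maximal subgroup with fixed points
      obtain ⟨K, hK, hmax⟩ := Set.Finite.exists_maximal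
        (s := {K : Subgroup A | K ≤ N ∧ fix (V := V) K ≠ ⊥}) (Set.toFinite _) ⟨⊥, bot_le, fun h => by
          obtain ⟨v, hv⟩ := exists_ne (1 : V)
          have : v ∈ fix (V := V) (⊥ : Subgroup A) := fun k hk => by
            rw [Subgroup.mem_bot.1 hk, one_smul]
          rw [h, Subgroup.mem_bot] at this
          exact hv this⟩
      obtain ⟨v, hv, hv1⟩ := (Subgroup.bot_or_exists_ne_one (fix (V := V) K)).resolve_left hK.2
      have hKS : K ∈ S := ⟨hK.1, hK.2, fun K' h4 h5 h6 => le_antisymm (hmax ⟨h4, h6⟩ h5) h5⟩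
      have : v ∈ Φ.range := ⟨Pi.mulSingle ⟨K, hKS⟩ ⟨v, hv⟩, hΦsingle _ _⟩
      rw [hbot, Subgroup.mem_bot] at this
      exact hv1 this
  let e : ((K : ι) → W K) ≃* V := MulEquiv.ofBijective Φ ⟨hΦinj, hΦsurj⟩
  -- the permutation induced by `g`
  let σ : Equiv.Perm ι :=
    { toFun := fun K => ⟨cj g K.1, hcjS g K.1 K.2⟩
      invFun := fun K => ⟨cj g⁻¹ K.1, hcjS g⁻¹ K.1 K.2⟩
      left_inv := fun K => Subtype.ext (hcjc g K.1)
      right_inv := fun K => Subtype.ext (by
        show cj g (cj g⁻¹ K.1) = K.1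
        have h := hcjc g⁻¹ K.1
        rwa [inv_inv] at h) }
  have hcjn : ∀ (n : N) (K : ι), cj (g * n) K.1 = (σ K).1 := by
    intro n K
    show K.1.map (MulAut.conj (g * n)).toMonoidHom = K.1.map (MulAut.conj g).toMonoidHom
    have key : ∀ x ∈ K.1, g * n * x * (g * n)⁻¹ = g * x * g⁻¹ := fun x hx => by
      rw [show g * n * x * (g * n)⁻¹ = g * ((n : A) * x * (n : A)⁻¹) * g⁻¹ by group,
        hab n n.2 x (K.2.1 hx), mul_inv_cancel_right]
    ext y
    exact ⟨fun ⟨x, hx, hy⟩ => ⟨x, hx, by rw [← hy]; exact (key x hx).symm⟩,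
      fun ⟨x, hx, hy⟩ => ⟨x, hx, by rw [← hy]; exact key x hx⟩⟩
  have hfixed : ∀ (n : N) (f : (K : ι) → W K), (g * (n : A)) • Φ f = Φ f →
      ∀ K, (f (σ K) : V) = (g * (n : A)) • (f K : V) := by
    intro n f hf K
    let f' : (K : ι) → W K := fun K' => ⟨(g * (n : A)) • (f (σ.symm K') : V), by
      have h1 := hfixcj (g * (n : A)) (σ.symm K').1 _ (f (σ.symm K')).2
      rw [hcjn, Equiv.apply_symm_apply] at h1
      exact h1⟩
    have h2 : Φ f' = (g * (n : A)) • Φ f := by
      rw [show Φ f = ∏ K, (f K : V) from rfl, Finset.smul_prod']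
      exact Equiv.prod_comp σ.symm (fun K => (g * (n : A)) • (f K : V))
    have h3 := congrFun (hΦinj (h2.trans hf)) (σ K)
    rw [← h3]
    show (g * (n : A)) • (f (σ.symm (σ K)) : V) = _
    rw [Equiv.symm_apply_apply]
  -- fixed components
  let Fx : Finset ι := Finset.univ.filter fun K => σ K = K
  let Mv : Finset ι := Finset.univ.filter fun K => ¬ σ K = K
  let dK : ι → N → ℕ := fun K n => Nat.card {w : W K // (g * (n : A)) • (w : V) = w}
  -- representatives of the moved cycles
  letI sC : Setoid ι := Equiv.Perm.SameCycle.setoid σ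
  let rep : ι → ι := fun K => (Quotient.mk sC K).out
  have hrep : ∀ K, σ.SameCycle (rep K) K := fun K => Quotient.mk_out (s := sC) K
  have hrepeq : ∀ K K', σ.SameCycle K K' → rep K = rep K' := fun K K' h =>
    congrArg Quotient.out (Quotient.sound (s := sC) h)
  let T : Finset ι := Mv.filter fun K => rep K = K
  have hTdisj : ∀ K ∈ T, σ K ∉ T := by
    intro K hK hσK
    simp only [T, Mv, Finset.mem_filter, Finset.mem_univ, true_and] at hK hσK
    exact hK.1 (by rw [← hσK.2, ← hrepeq K (σ K) ⟨1, by simp⟩, hK.2])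
  have hmain : ∀ n : N, Nat.card (fixOne (V := V) (g * n)) ^ 2 ≤
      (∏ K ∈ Fx, dK K n ^ 2) * ∏ K ∈ Mv, Nat.card (W K) := by
    intro n
    set D := fixOne (V := V) (g * (n : A)) with hD
    have hcomp : ∀ (v : D), (g * (n : A)) • Φ (e.symm (v : V)) = Φ (e.symm (v : V)) := fun v => by
      have : Φ (e.symm (v : V)) = v := e.apply_symm_apply _
      rw [this]; exact v.2
    -- a fixed vector is determined by its components at fixed indices and representatives
    let c1 : D → ((K : {K // K ∈ Fx}) → {w : W K.1 // (g * (n : A)) • (w : V) = w}) := fun v K =>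
      ⟨e.symm (v : V) K.1, by
        have h := hfixed n _ (hcomp v) K.1
        have hσ : σ K.1 = K.1 := (Finset.mem_filter.1 K.2).2
        have hh : ((e.symm (v : V) (σ K.1) : W (σ K.1)) : V) = (e.symm (v : V) K.1 : V) :=
          congrArg (fun L => ((e.symm (v : V) L : W L) : V)) hσ
        rw [hh] at h
        exact h.symm⟩
    let c2 : D → ((K : {K // K ∈ T}) → W K.1) := fun v K => e.symm (v : V) K.1
    have hdet : ∀ v v' : D, c1 v = c1 v' → c2 v = c2 v' → v = v' := by
      intro v v' h1 h2
      refine Subtype.ext (e.symm.injective (funext fun K => Subtype.ext ?_))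
      by_cases hK : σ K = K
      · exact congrArg (fun f => ((f ⟨K, Finset.mem_filter.2 ⟨Finset.mem_univ _, hK⟩⟩ :
          {w : W K // (g * (n : A)) • (w : V) = w}).1 : V)) h1
      · have hrT : rep K ∈ T := by
          simp only [T, Mv, Finset.mem_filter, Finset.mem_univ, true_and]
          refine ⟨fun h => hK ?_, hrepeq _ _ (hrep K)⟩
          have := (hrep K).eq_of_left h
          rw [← this]; exact h
        obtain ⟨i, hi⟩ : ∃ i : ℕ, (σ ^ i) (rep K) = K := by
          obtain ⟨i, -, hi⟩ := (hrep K).exists_pow_eq'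
          exact ⟨i, hi⟩
        have key : ∀ j : ℕ, (e.symm (v : V) ((σ ^ j) (rep K)) : V) =
            (e.symm (v' : V) ((σ ^ j) (rep K)) : V) := by
          intro j
          induction j with
          | zero => exact congrArg (fun f => ((f ⟨rep K, hrT⟩ : W (rep K)) : V)) h2
          | succ j ih =>
            rw [pow_succ', Equiv.Perm.mul_apply, hfixed n _ (hcomp v), hfixed n _ (hcomp v'), ih]
        have hk := key i
        have hh : ∀ (x : V), ((e.symm x ((σ ^ i) (rep K)) : W _) : V) = (e.symm x K : V) := fun x =>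
          congrArg (fun L => ((e.symm x L : W L) : V)) hi
        rw [hh, hh] at hk
        exact hk
    let inj : D × D → (((K : {K // K ∈ Fx}) → {w : W K.1 // (g * (n : A)) • (w : V) = w}) ×
        ((K : {K // K ∈ Fx}) → {w : W K.1 // (g * (n : A)) • (w : V) = w})) ×
        (((K : {K // K ∈ T}) → W K.1) × ((K : {K // K ∈ T}) → W K.1)) :=
      fun x => ((c1 x.1, c1 x.2), (c2 x.1, c2 x.2))
    have hinj : Function.Injective inj := fun x y h => by
      simp only [inj, Prod.mk.injEq] at h
      exact Prod.ext (hdet _ _ h.1.1 h.2.1) (hdet _ _ h.1.2 h.2.2)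
    have h := Nat.card_le_card_of_injective inj hinj
    simp only [Nat.card_prod, Nat.card_pi] at h
    rw [Finset.prod_coe_sort Fx fun K => dK K n, Finset.prod_coe_sort T fun K => Nat.card (W K)] at h
    have hTT : (∏ K ∈ T, Nat.card (W K)) * ∏ K ∈ T, Nat.card (W K) ≤ ∏ K ∈ Mv, Nat.card (W K) := by
      have hsame : ∀ K : ι, Nat.card (W (σ K)) = Nat.card (W K) := fun K =>
        (Nat.card_congr
          { toFun := fun w => ⟨g • (w : V), hfixcj g K.1 _ w.2⟩
            invFun := fun w => ⟨g⁻¹ • (w : V), by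
              have := hfixcj g⁻¹ (σ K).1 _ w.2
              rwa [show cj g⁻¹ (σ K).1 = K.1 from hcjc g K.1] at this⟩
            left_inv := fun w => Subtype.ext (inv_smul_smul g (w : V))
            right_inv := fun w => Subtype.ext (smul_inv_smul g (w : V)) }).symm
      have hd : Disjoint T (T.map σ.toEmbedding) := by
        rw [Finset.disjoint_left]
        intro K hK hK'
        obtain ⟨K', hK'T, rfl⟩ := Finset.mem_map.1 hK'
        exact hTdisj K' hK'T hK
      calc _ = (∏ K ∈ T, Nat.card (W K)) * ∏ K ∈ T.map σ.toEmbedding, Nat.card (W K) := by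
            rw [Finset.prod_map]
            congr 1
            exact Finset.prod_congr rfl fun K _ => (hsame K).symm
        _ = ∏ K ∈ T ∪ T.map σ.toEmbedding, Nat.card (W K) := (Finset.prod_union hd).symm
        _ ≤ _ := by
            refine Finset.prod_le_prod_of_subset_of_one_le (fun K hK => ?_) (fun K _ => Nat.zero_le _)
              (fun K _ _ => Nat.card_pos)
            rcases Finset.mem_union.1 hK with hK | hK
            · exact (Finset.mem_filter.1 hK).1
            · obtain ⟨K', hK', rfl⟩ := Finset.mem_map.1 hK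
              have hK'' := (Finset.mem_filter.1 (Finset.mem_filter.1 hK').1).2
              exact Finset.mem_filter.2 ⟨Finset.mem_univ _, fun he => hK'' (σ.injective he)⟩
    calc Nat.card D ^ 2 = Nat.card D * Nat.card D := sq _
      _ ≤ _ := h
      _ ≤ _ := by
          rw [Finset.prod_pow, sq]
          exact Nat.mul_le_mul le_rfl hTT
  -- pairing inside a fixed component
  have hpair : ∀ K ∈ Fx, (∏ n : N, dK K n) ^ 2 ≤ Nat.card (W K) ^ Nat.card N := by
    intro K _
    obtain ⟨m, hm, hmK⟩ : ∃ m ∈ N, m ∉ K.1 := by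
      by_contra h
      push Not at h
      exact K.2.2.1 (by rw [le_antisymm K.2.1 h]; exact hN)
    have hle : ∀ n : N, dK K n * dK K (n * ⟨m, hm⟩) ≤ Nat.card (W K) := by
      intro n
      let Cg : A → Subgroup (W K) := fun a =>
        { carrier := {w | a • (w : V) = w}
          one_mem' := smul_one a
          mul_mem' := fun {x y} hx hy => by
            show a • ((x : V) * y) = x * y
            rw [smul_mul', hx, hy]
          inv_mem' := fun {x} hx => by
            show a • (x : V)⁻¹ = (x : V)⁻¹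
            rw [smul_inv', hx] }
      let φ : Cg (g * (n : A)) × Cg (g * ((n * ⟨m, hm⟩ : N) : A)) → W K := fun x => x.1.1 * x.2.1
      have hφ : Function.Injective φ := by
        rintro ⟨a, b⟩ ⟨a', b'⟩ h
        have h' : a.1 * b.1 = a'.1 * b'.1 := h
        have e1 : a'.1⁻¹ * a.1 = b'.1 * b.1⁻¹ := by
          rw [eq_mul_inv_iff_mul_eq, mul_assoc, h', inv_mul_cancel_left]
        have m1 : a'.1⁻¹ * a.1 ∈ Cg (g * (n : A)) := mul_mem (inv_mem a'.2) a.2
        have m2 : a'.1⁻¹ * a.1 ∈ Cg (g * ((n * ⟨m, hm⟩ : N) : A)) := e1 ▸ mul_mem b'.2 (inv_mem b.2)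
        set z := a'.1⁻¹ * a.1
        have hmz : m • (z : V) = z := by
          have u1 : (g * (n : A)) • (z : V) = z := m1
          have u2 : (g * ((n * ⟨m, hm⟩ : N) : A)) • (z : V) = z := m2
          rw [Subgroup.coe_mul, ← mul_assoc, ← smul_smul] at u2
          exact MulAction.injective (g * (n : A)) (u2.trans u1.symm)
        have hz1 : z = 1 := by
          by_contra hne
          refine hmK ?_
          have hzfix : (z : V) ∈ fix (V := V) (K.1 ⊔ Subgroup.zpowers m) := fun k hk => by
            have hle : K.1 ⊔ Subgroup.zpowers m ≤ MulAction.stabilizer A (z : V) :=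
              sup_le (fun x hx => z.2 x hx) (Subgroup.zpowers_le.2 hmz)
            exact hle hk
          have h1 := K.2.2.2 _ (sup_le K.2.1 (Subgroup.zpowers_le.2 hm)) le_sup_left (fun hb => by
            rw [hb, Subgroup.mem_bot] at hzfix
            exact hne (Subtype.ext hzfix))
          rw [← h1]
          exact Subgroup.mem_sup_right (Subgroup.mem_zpowers m)
        have ea : a = a' := Subtype.ext (inv_mul_eq_one.1 hz1).symm
        subst ea
        exact Prod.ext rfl (Subtype.ext (mul_left_cancel h'))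
      have := Nat.card_le_card_of_injective φ hφ
      rw [Nat.card_prod] at this
      exact this
    calc (∏ n : N, dK K n) ^ 2 = ∏ n : N, dK K n * dK K (n * ⟨m, hm⟩) := by
          rw [Finset.prod_mul_distrib, sq]
          congr 1
          exact (Equiv.prod_comp (Equiv.mulRight (⟨m, hm⟩ : N)) (dK K)).symm
      _ ≤ ∏ _n : N, Nat.card (W K) := Finset.prod_le_prod' fun n _ => hle n
      _ = _ := by rw [Finset.prod_const, Finset.card_univ, ← Nat.card_eq_fintype_card (α := N)]
  calc (∏ n : N, Nat.card (fixOne (V := V) (g * n))) ^ 2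
      = ∏ n : N, Nat.card (fixOne (V := V) (g * n)) ^ 2 := (Finset.prod_pow _ _ _).symm
    _ ≤ ∏ n : N, ((∏ K ∈ Fx, dK K n ^ 2) * ∏ K ∈ Mv, Nat.card (W K)) :=
        Finset.prod_le_prod' fun n _ => hmain n
    _ = (∏ K ∈ Fx, (∏ n : N, dK K n) ^ 2) * ∏ K ∈ Mv, Nat.card (W K) ^ Nat.card N := by
        have e1 : ∏ n : N, ∏ K ∈ Fx, dK K n ^ 2 = ∏ K ∈ Fx, (∏ n : N, dK K n) ^ 2 := by
          rw [Finset.prod_comm]
          exact Finset.prod_congr rfl fun K _ => Finset.prod_pow _ _ _
        have e2 : ∏ _n : N, ∏ K ∈ Mv, Nat.card (W K) = ∏ K ∈ Mv, Nat.card (W K) ^ Nat.card N := by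
          rw [Finset.prod_pow, Finset.prod_const, Finset.card_univ, ← Nat.card_eq_fintype_card (α := N)]
        rw [Finset.prod_mul_distrib, e1, e2]
    _ ≤ (∏ K ∈ Fx, Nat.card (W K) ^ Nat.card N) * ∏ K ∈ Mv, Nat.card (W K) ^ Nat.card N :=
        Nat.mul_le_mul (Finset.prod_le_prod' hpair) le_rfl
    _ = Nat.card V ^ Nat.card N := by
        rw [Finset.prod_filter_mul_prod_filter_not, Finset.prod_pow, ← Nat.card_pi,
          Nat.card_congr e.toEquiv]

/-- A normal `p`-subgroup of the acting group fixes everything in an irreducible action. -/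
theorem fix_eq_top_of_isPGroup (p : ℕ) [Fact p.Prime] (hV : IsPGroup p V) (N : Subgroup A) [N.Normal]
    (hN : IsPGroup p N) (hirr : ∀ W : Subgroup V, (∀ (a : A), ∀ w ∈ W, a • w ∈ W) → W = ⊥ ∨ W = ⊤) :
    fix (V := V) N = ⊤ := by
  rcases subsingleton_or_nontrivial V with hs | hs
  · exact Subsingleton.elim _ _
  refine (hirr (fix (V := V) N) fun a v hv => mem_fix.2 fun n hn => ?_).resolve_left fun hbot => ?_
  · rw [smul_smul, show n * a = a * (a⁻¹ * n * a) by group, ← smul_smul,
      hv _ (by simpa using (inferInstance : N.Normal).conj_mem n hn a⁻¹)]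
  · haveI : Fintype (MulAction.fixedPoints N V) := Fintype.ofFinite _
    obtain ⟨k, hk⟩ := IsPGroup.iff_card.1 hV
    have hk0 : k ≠ 0 := fun h => by
      rw [h, pow_zero] at hk
      exact (Finite.one_lt_card (α := V)).ne' hk
    obtain ⟨v, hv, hv1⟩ := hN.exists_fixed_point_of_prime_dvd_card_of_fixed_point V
      (by rw [hk]; exact dvd_pow_self p hk0) (a := (1 : V)) (fun n => smul_one (n : A))
    have : v ∈ fix (V := V) N := fun n hn => hv ⟨n, hn⟩
    rw [hbot, Subgroup.mem_bot] at this
    exact hv1 this.symm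

/-- The fixed points of the elements of a solvable group acting irreducibly and nontrivially. -/
theorem prod_fix_sq_le [Group.IsSolvable A] [Fintype A] (p : ℕ) [Fact p.Prime] (hV : IsPGroup p V)
    (hirr : ∀ W : Subgroup V, (∀ (a : A), ∀ w ∈ W, a • w ∈ W) → W = ⊥ ∨ W = ⊤)
    (hnt : ∃ (a : A) (v : V), a • v ≠ v) :
    (∏ a : A, Nat.card (fixOne (V := V) a)) ^ 2 ≤ Nat.card V ^ Nat.card A := by
  classical
  -- an abelian normal subgroup acting nontrivially, modulo its `p`-part
  have hker : ∃ j, ∀ x ∈ derivedSeries A j, ∀ v : V, x • v = v := by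
    obtain ⟨n, hn⟩ := (inferInstance : Group.IsSolvable A).solvable
    exact ⟨n, fun x hx v => by rw [hn, Subgroup.mem_bot] at hx; rw [hx, one_smul]⟩
  set j := Nat.find hker with hj
  have hj0 : j ≠ 0 := by
    intro h0
    obtain ⟨a, v, hav⟩ := hnt
    have := Nat.find_spec hker
    rw [← hj, h0] at this
    exact hav (this a (by simp) v)
  obtain ⟨i, hi⟩ : ∃ i, j = i + 1 := ⟨j - 1, by omega⟩
  -- the kernel and the image
  set B := (MulDistribMulAction.toMulAut A V).range with hB
  letI : MulDistribMulAction B V := MulDistribMulAction.compHom V B.subtype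
  have hBsmul : ∀ (b : B) (v : V), b • v = (b : MulAut V) v := fun b v => rfl
  set f := (MulDistribMulAction.toMulAut A V).rangeRestrict with hf
  have hfsmul : ∀ (a : A) (v : V), f a • v = a • v := fun a v => rfl
  have hfs : Function.Surjective f := MonoidHom.rangeRestrict_surjective _
  haveI : Finite B := Finite.of_surjective f hfs
  haveI := Fintype.ofFinite B
  have hirrB : ∀ W : Subgroup V, (∀ (b : B), ∀ w ∈ W, b • w ∈ W) → W = ⊥ ∨ W = ⊤ := fun W hW =>
    hirr W fun a w hw => hfsmul a w ▸ hW (f a) w hw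
  have hfaith : ∀ b : B, (∀ v : V, b • v = v) → b = 1 := fun b hb =>
    Subtype.ext (MulEquiv.ext fun v => hb v)
  set N := (derivedSeries A i).map f with hN
  haveI : N.Normal := (derivedSeries_normal A i).map f hfs
  have hNne : N ≠ ⊥ := by
    intro hbot
    refine Nat.find_min hker (show i < Nat.find hker by omega) fun x hx v => ?_
    have : f x ∈ N := Subgroup.mem_map_of_mem f hx
    rw [hbot, Subgroup.mem_bot] at this
    rw [← hfsmul, this, one_smul]
  have hab : ∀ a ∈ N, ∀ b ∈ N, a * b = b * a := by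
    rintro _ ⟨x, hx, rfl⟩ _ ⟨y, hy, rfl⟩
    refine commutatorElement_eq_one_iff_mul_comm.1 (hfaith _ fun v => ?_)
    rw [← map_commutatorElement, hfsmul]
    refine Nat.find_spec hker _ ?_ v
    rw [← hj, hi, derivedSeries_succ]
    exact Subgroup.commutator_mem_commutator hx hy
  have hp : ¬ p ∣ Nat.card N := by
    intro hdvd
    obtain ⟨x, hx⟩ := exists_prime_orderOf_dvd_card' p hdvd
    -- the elements of `p`-power order form a normal `p`-subgroup
    let P : Subgroup B :=
      { carrier := {b | b ∈ N ∧ ∃ k, b ^ p ^ k = 1}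
        one_mem' := ⟨one_mem N, 0, by simp⟩
        mul_mem' := fun {a b} ⟨ha, k, hak⟩ ⟨hb, l, hbl⟩ => ⟨mul_mem ha hb, k + l, by
          rw [(show Commute a b from hab a ha b hb).mul_pow, pow_add, pow_mul, hak, one_pow, one_mul,
            mul_comm, pow_mul, hbl, one_pow]⟩
        inv_mem' := fun {a} ⟨ha, k, hak⟩ => ⟨inv_mem ha, k, by rw [inv_pow, hak, inv_one]⟩ }
    haveI : P.Normal := ⟨fun b ⟨hb, k, hbk⟩ c => ⟨(inferInstance : N.Normal).conj_mem b hb c, k, by
      rw [conj_pow, hbk, mul_one, mul_inv_cancel]⟩⟩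
    have hP : IsPGroup p P := fun b => by
      obtain ⟨-, k, hk⟩ := b.2
      exact ⟨k, Subtype.ext hk⟩
    have htop := fix_eq_top_of_isPGroup p hV P hP hirrB
    have hxP : (x : B) ∈ P := ⟨x.2, 1, by
      rw [pow_one, ← hx, ← Subgroup.orderOf_coe, pow_orderOf_eq_one]⟩
    have h1 : (x : B) = 1 := hfaith _ fun v => (show v ∈ fix (V := V) P by rw [htop]; exact mem_top v) _ hxP
    rw [← Subgroup.orderOf_coe, h1, orderOf_one] at hx
    exact (Fact.out : p.Prime).one_lt.ne hx
  have hfixN : fix (V := V) N = ⊥ := by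
    refine (hirrB (fix (V := V) N) fun b v hv => mem_fix.2 fun n hn => ?_).resolve_right fun htop => hNne ?_
    · refine (mul_smul (n : B) b v).symm.trans ?_
      have h1 : (b⁻¹ * n * b : B) • v = v :=
        hv _ (by simpa using (inferInstance : N.Normal).conj_mem n hn b⁻¹)
      have h2 : (n : B) * b = b * (b⁻¹ * n * b) := by group
      exact ((congrArg (· • v) h2).trans (mul_smul b _ v)).trans (congrArg (b • ·) h1)
    · exact (Subgroup.eq_bot_iff_forall _).2 fun n hn => hfaith n fun v =>
        (show v ∈ fix (V := V) N by rw [htop]; exact mem_top v) n hn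
  haveI := Fintype.ofFinite N
  -- all cosets of `N`
  have hBbound : (∏ b : B, Nat.card (fixOne (V := V) b)) ^ 2 ≤ Nat.card V ^ Nat.card B := by
    have h1 : (∏ b : B, Nat.card (fixOne (V := V) b)) ^ (2 * Nat.card N) ≤
        Nat.card V ^ (Nat.card B * Nat.card N) := by
      have h2 : (∏ b : B, Nat.card (fixOne (V := V) b)) ^ Nat.card N =
          ∏ g : B, ∏ n : N, Nat.card (fixOne (V := V) (g * n)) := by
        rw [Finset.prod_comm, Nat.card_eq_fintype_card, ← Finset.card_univ, ← Finset.prod_const]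
        exact Finset.prod_congr rfl fun n _ =>
          (Equiv.prod_comp (Equiv.mulRight (n : B)) fun b => Nat.card (fixOne (V := V) b)).symm
      rw [mul_comm 2, pow_mul, h2, ← Finset.prod_pow]
      refine (Finset.prod_le_prod' fun g _ => coset_bound p hV N hab hp hfixN hirrB g).trans (le_of_eq ?_)
      rw [Finset.prod_const, Finset.card_univ, ← pow_mul, mul_comm, Nat.card_eq_fintype_card (α := B)]
    rw [pow_mul, pow_mul (Nat.card V)] at h1
    exact (Nat.pow_le_pow_iff_left Nat.card_pos.ne').1 h1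
  -- pull back to `A`
  have hsplit : ∏ a : A, Nat.card (fixOne (V := V) a) =
      (∏ b : B, Nat.card (fixOne (V := V) b)) ^ Nat.card f.ker := by
    rw [← Finset.prod_fiberwise Finset.univ f, ← Finset.prod_pow]
    refine Finset.prod_congr rfl fun b _ => ?_
    obtain ⟨a₀, rfl⟩ := hfs b
    rw [Finset.prod_congr rfl (g := fun _ => Nat.card (fixOne (V := V) (f a₀))) fun a ha => ?_,
      Finset.prod_const]
    · congr 1
      rw [← Fintype.card_subtype, ← Nat.card_eq_fintype_card]
      refine Nat.card_congr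
        { toFun := fun a => ⟨a₀⁻¹ * a.1, by rw [MonoidHom.mem_ker, map_mul, map_inv, a.2, inv_mul_cancel]⟩
          invFun := fun k => ⟨a₀ * k.1, by rw [map_mul, MonoidHom.mem_ker.1 k.2, mul_one]⟩
          left_inv := fun a => Subtype.ext (mul_inv_cancel_left _ _)
          right_inv := fun k => Subtype.ext (inv_mul_cancel_left _ _) }
    · rw [← (Finset.mem_filter.1 ha).2]
      rfl
  have hcardA : Nat.card A = Nat.card B * Nat.card f.ker := by
    rw [Subgroup.card_eq_card_quotient_mul_card_subgroup f.ker,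
      Nat.card_congr (QuotientGroup.quotientKerEquivOfSurjective f hfs).toEquiv]
  rw [hsplit, ← pow_mul, mul_comm, pow_mul, hcardA, pow_mul]
  exact Nat.pow_le_pow_left hBbound _

end Cfsg.Lib.Solv.FixedPointProduct
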