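import Cfsg.Agent.Lib.Core.Basic
import Mathlib.GroupTheory.Transfer
import Mathlib.GroupTheory.Nilpotent
import Mathlib.GroupTheory.SpecificGroups.Cyclic

/-!
A finite group in which every abelian subgroup has normalizer equal to centralizer is abelian.
-/

set_option autoImplicit false

namespace Cfsg.Lib.Solv

open Subgroup

universe u

theorem isMulCommutative_of_normalizer_eq_centralizer (n : ℕ) :
    ∀ (G : Type u) [Group G] [Finite G], Nat.card G ≤ n →
      (∀ A : Subgroup G, IsMulCommutative A → normalizer (A : Set G) = centralizer (A : Set G)) →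
      IsMulCommutative G := by
  induction n with
  | zero => intro G _ _ hc; exact absurd hc (Nat.not_le.2 Nat.card_pos)
  | succ n ih =>
    intro G _ _ hc h
    have hsub : ∀ H : Subgroup G, H ≠ ⊤ → IsMulCommutative H := by
      intro H hH
      refine ih H ?_ fun A hA => ?_
      · have := Cfsg.Lib.Core.lt_card_of_ne_top hH
        omega
      · have hA' : IsMulCommutative (A.map H.subtype) := inferInstance
        refine le_antisymm (fun x hx => ?_) (centralizer_le_normalizer _)
        have hx' : (x : G) ∈ normalizer ((A.map H.subtype : Subgroup G) : Set G) := by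
          rw [mem_normalizer_iff]
          intro y
          constructor
          · rintro ⟨z, hz, rfl⟩
            exact ⟨x * z * x⁻¹, (mem_normalizer_iff.1 hx z).1 hz, rfl⟩
          · rintro ⟨z, hz, hzy⟩
            have hyH : y ∈ H := by
              have hh := H.mul_mem (H.mul_mem (H.inv_mem x.2) z.2) x.2
              have : y = (x : G)⁻¹ * z * x := by
                have hzy' : (z : G) = x * y * (x : G)⁻¹ := hzy
                rw [hzy']; group
              rwa [this]
            refine ⟨⟨y, hyH⟩, (mem_normalizer_iff.1 hx _).2 ?_, rfl⟩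
            have : (x * ⟨y, hyH⟩ * x⁻¹ : H) = z := Subtype.ext hzy.symm
            rwa [this]
        rw [h _ hA'] at hx'
        refine mem_centralizer_iff.2 fun a ha => Subtype.ext ?_
        exact mem_centralizer_iff.1 hx' a ⟨a, ha, rfl⟩
    by_cases htriv : Nat.card G = 1
    · have := (Nat.card_eq_one_iff_unique.1 htriv).1
      exact ⟨⟨fun a b => Subsingleton.elim _ _⟩⟩
    obtain ⟨p, hp, hpd⟩ := Nat.exists_prime_and_dvd htriv
    have := Fact.mk hp
    obtain ⟨P⟩ : Nonempty (Sylow p G) := inferInstance
    have key : ∀ N : Subgroup G, N.Normal → N ≠ ⊤ → IsMulCommutative N ∧ N ≤ center G := by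
      intro N hN hne
      refine ⟨hsub N hne, ?_⟩
      have h1 := h N (hsub N hne)
      rw [normalizer_eq_top (H := N)] at h1
      intro x hx
      exact mem_center_iff.2 fun g =>
        (mem_centralizer_iff.1 (h1 ▸ mem_top g : g ∈ centralizer (N : Set G)) x hx).symm
    by_cases hPtop : (P : Subgroup G) = ⊤
    · have hpg : IsPGroup p G := by
        have := P.isPGroup'
        rw [hPtop] at this
        exact this.of_equiv Subgroup.topEquiv
      by_contra hna
      have hZne : center G ≠ ⊤ := fun hZ => hna ⟨⟨fun a b => (mem_center_iff.1 (hZ ▸ mem_top b) a)⟩⟩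
      have : Nontrivial G := Finite.one_lt_card_iff_nontrivial.1
        (Nat.one_lt_iff_ne_zero_and_ne_one.2 ⟨Nat.card_pos.ne', htriv⟩)
      obtain ⟨m, hm⟩ := IsPGroup.iff_card.1 (hpg.to_quotient (center G))
      have hG : Group.IsNilpotent G := hpg.isNilpotent
      have hmax : ∀ M : Subgroup G, IsCoatom M → M ≤ center G := fun M hM =>
        (key M ((Group.normalizerCondition_of_isNilpotent (G := G)).normal_of_coatom M hM) hM.1).2
      have hcy : IsCyclic (G ⧸ center G) := by
        obtain ⟨g, hg⟩ : ∃ g, g ∉ center G := by
          by_contra hall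
          push Not at hall
          exact hZne (eq_top_iff.2 fun g _ => hall g)
        have htop : zpowers g = ⊤ := by
          by_contra hne
          obtain ⟨M, hM, hle⟩ := (eq_top_or_exists_le_coatom (zpowers g)).resolve_left hne
          exact hg (hmax M hM (hle (mem_zpowers g)))
        refine ⟨QuotientGroup.mk g, fun y => ?_⟩
        obtain ⟨x, rfl⟩ := QuotientGroup.mk_surjective y
        obtain ⟨k, rfl⟩ := (htop ▸ mem_top x : x ∈ zpowers g)
        exact ⟨k, rfl⟩
      exact hna ((QuotientGroup.mk' (center G)).isMulCommutative_of_isCyclic_of_ker_le_center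
        (by rw [QuotientGroup.ker_mk']))
    · have hPab : IsMulCommutative (P : Subgroup G) := hsub _ hPtop
      have hle : normalizer ((P : Subgroup G) : Set G) ≤ centralizer ((P : Subgroup G) : Set G) :=
        (h _ hPab).le
      have hc := MonoidHom.ker_transferSylow_isComplement' P hle
      set K := (MonoidHom.transferSylow P hle).ker
      have hKne : K ≠ ⊤ := by
        intro hK
        have h2 := P.dvd_card_of_dvd_card hpd
        have h3 : (P : Subgroup G) = ⊥ := by
          rw [← le_bot_iff]
          intro x hx
          exact hc.disjoint.le_bot ⟨hK ▸ mem_top x, hx⟩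
        rw [h3, card_bot] at h2
        exact hp.ne_one (Nat.dvd_one.1 h2)
      obtain ⟨hKab, hKc⟩ := key K inferInstance hKne
      refine ⟨⟨fun a b => ?_⟩⟩
      obtain ⟨⟨⟨k, hk⟩, ⟨x, hx⟩⟩, rfl⟩ := hc.2 a
      obtain ⟨⟨⟨l, hl⟩, ⟨y, hy⟩⟩, rfl⟩ := hc.2 b
      have h1 : x * y = y * x := congrArg Subtype.val (mul_comm' (⟨x, hx⟩ : (P : Subgroup G)) ⟨y, hy⟩)
      have ck := mem_center_iff.1 (hKc hk)
      have cl := mem_center_iff.1 (hKc hl)
      calc k * x * (l * y) = k * (x * l) * y := by group
        _ = k * (l * x) * y := by rw [cl x]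
        _ = (k * l) * (x * y) := by group
        _ = (l * k) * (y * x) := by rw [cl k, h1]
        _ = l * (k * y) * x := by group
        _ = l * (y * k) * x := by rw [← ck y]
        _ = l * y * (k * x) := by group

end Cfsg.Lib.Solv
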