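import Mathlib.FieldTheory.Finite.Basic
import Mathlib.Algebra.Ring.Subring.Basic
import Mathlib.Algebra.CharP.Lemmas
import Mathlib.GroupTheory.PGroup

/-!
# Irreducible `2`-power cyclic operators on an elementary abelian group of odd exponent

`|V| ≤ q²` if `a²` is irreducible, or if `a` is irreducible and inverted up to `k ≡ 3 (mod 4)`.
-/

set_option autoImplicit false
set_option linter.style.haveILetI false

namespace Cfsg.Lib.Solv.SemilinearBound

open scoped IsMulCommutative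

universe u

set_option maxHeartbeats 1000000

variable {A : Type u} [AddCommGroup A] [Finite A] {q : ℕ} [hq : Fact q.Prime]

/-- The only invariant subgroups of `α` are the trivial ones. -/
def IsIrred (α : AddMonoid.End A) : Prop :=
  ∀ W : AddSubgroup A, (∀ w ∈ W, α w ∈ W) → W = ⊥ ∨ W = ⊤

/-- The subring generated by `α`. -/
abbrev gen (α : AddMonoid.End A) : Subring (AddMonoid.End A) := Subring.closure {α}

theorem gen_comm (α : AddMonoid.End A) : IsMulCommutative ↥(gen α) :=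
  Subring.isMulCommutative_closure fun x hx y hy => by rw [Set.mem_singleton_iff.1 hx, Set.mem_singleton_iff.1 hy]

theorem commute_gen {α r : AddMonoid.End A} (hr : r ∈ gen α) : α * r = r * α := by
  haveI := gen_comm α
  exact congrArg Subtype.val (mul_comm (⟨α, Subring.subset_closure rfl⟩ : gen α) ⟨r, hr⟩)

variable {α : AddMonoid.End A}

theorem injective_of_mem (hirr : IsIrred α) {r : AddMonoid.End A} (hr : r ∈ gen α) (hr0 : r ≠ 0) :
    Function.Injective r := by
  refine (injective_iff_map_eq_zero _).2 fun w hw => ?_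
  let W : AddSubgroup A :=
    { carrier := {w | r w = 0}
      zero_mem' := map_zero r
      add_mem' := fun {x y} hx hy => by show r (x + y) = 0; rw [map_add, hx, hy, add_zero]
      neg_mem' := fun {x} hx => by show r (-x) = 0; rw [map_neg, hx, neg_zero] }
  have hW : ∀ w ∈ W, α w ∈ W := by
    intro w hw
    show r (α w) = 0
    have h1 : (r * α) w = (α * r) w := by rw [commute_gen hr]
    exact h1.trans (by show α (r w) = 0; rw [show r w = 0 from hw, map_zero])
  rcases hirr W hW with h | h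
  · have : w ∈ W := hw
    rwa [h, AddSubgroup.mem_bot] at this
  · exact absurd (AddMonoidHom.ext (f := r) (g := 0) fun u => (h ▸ AddSubgroup.mem_top u : u ∈ W)) hr0

theorem noZeroDivisors_gen (hirr : IsIrred α) : NoZeroDivisors ↥(gen α) := by
  refine ⟨fun {r s} h => ?_⟩
  by_cases hr : r = 0
  · exact Or.inl hr
  refine Or.inr (Subtype.ext (AddMonoidHom.ext fun w => ?_))
  refine injective_of_mem hirr r.2 (fun e => hr (Subtype.ext e)) ?_
  have h1 : ((r : AddMonoid.End A) * (s : AddMonoid.End A)) w = 0 := by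
    rw [← Subring.coe_mul, h]; rfl
  exact h1.trans (map_zero _).symm

/-- Evaluation at a nonzero point is bijective. -/
theorem card_gen (hirr : IsIrred α) {v : A} (hv : v ≠ 0) : Nat.card ↥(gen α) = Nat.card A := by
  let ev : ↥(gen α) →+ A :=
    { toFun := fun r => (r : AddMonoid.End A) v, map_zero' := rfl, map_add' := fun _ _ => rfl }
  refine Nat.card_eq_of_bijective ev ⟨?_, ?_⟩
  · rw [← AddMonoidHom.ker_eq_bot_iff, eq_bot_iff]
    intro r hr
    rw [AddSubgroup.mem_bot]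
    by_contra h0
    exact hv (injective_of_mem hirr r.2 (fun e => h0 (Subtype.ext e)) ((hr : (r : AddMonoid.End A) v = 0).trans
      (map_zero _).symm))
  · rw [← AddMonoidHom.range_eq_top]
    rcases hirr ev.range (by rintro _ ⟨r, rfl⟩; exact ⟨⟨α, Subring.subset_closure rfl⟩ * r, rfl⟩) with h | h
    · exfalso
      refine hv ?_
      have : v ∈ ev.range := ⟨1, rfl⟩
      rwa [h, AddSubgroup.mem_bot] at this
    · exact h

theorem card_le_of_frobenius_fixed {R : Type*} [CommRing R] [IsDomain R] [Finite R] (s : ℕ) (hs : 1 < s)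
    (h : ∀ r : R, r ^ s = r) : Nat.card R ≤ s := by
  classical
  haveI : Fintype R := Fintype.ofFinite R
  have hd : (Polynomial.X ^ s - Polynomial.X : Polynomial R).natDegree = s := by
    rw [Polynomial.natDegree_sub_eq_left_of_natDegree_lt (by rwa [Polynomial.natDegree_X_pow, Polynomial.natDegree_X]),
      Polynomial.natDegree_X_pow]
  have hp : (Polynomial.X ^ s - Polynomial.X : Polynomial R) ≠ 0 :=
    Polynomial.ne_zero_of_natDegree_gt (n := 0) (by rw [hd]; omega)
  have h2 : Finset.univ.val ≤ (Polynomial.X ^ s - Polynomial.X : Polynomial R).roots := by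
    rw [Multiset.le_iff_subset Finset.univ.nodup]
    intro r _
    rw [Polynomial.mem_roots hp]
    simp [h r]
  have h3 := (Multiset.card_le_card h2).trans (Polynomial.card_roots' _)
  rw [Finset.card_val, Finset.card_univ, ← Nat.card_eq_fintype_card] at h3
  exact h3.trans hd.le

theorem charP_gen [Nontrivial A] (hexp : ∀ w : A, q • w = 0) : CharP ↥(gen α) q := by
  haveI : Nontrivial ↥(gen α) := by
    obtain ⟨v, hv⟩ := exists_ne (0 : A)
    exact ⟨⟨1, 0, fun h => hv (congrArg (fun r : ↥(gen α) => (r : AddMonoid.End A) v) h)⟩⟩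
  refine (CharP.charP_iff_prime_eq_zero hq.out).2 (Subtype.ext (AddMonoidHom.ext fun w => ?_))
  have h1 : ((q : ↥(gen α)) : AddMonoid.End A) = (q : AddMonoid.End A) := map_natCast (gen α).subtype q
  rw [h1]
  exact (AddMonoid.End.natCast_apply q w).trans (hexp w)

/-- If `α ^ (q ^ j) = α` then `|A| ≤ q ^ j`. -/
theorem card_le_of_pow_eq [Nontrivial A] (hirr : IsIrred α) (hexp : ∀ w : A, q • w = 0) {j : ℕ} (hj : j ≠ 0)
    (h : α ^ q ^ j = α) : Nat.card A ≤ q ^ j := by
  classical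
  obtain ⟨v, hv⟩ := exists_ne (0 : A)
  haveI := gen_comm α
  haveI := noZeroDivisors_gen hirr
  haveI := charP_gen (q := q) (α := α) hexp
  haveI : Nontrivial ↥(gen α) := CharP.nontrivial_of_char_ne_one (R := ↥(gen α)) hq.out.ne_one
  haveI : IsDomain ↥(gen α) := NoZeroDivisors.to_isDomain _
  haveI : Finite ↥(gen α) := Nat.finite_of_card_ne_zero (by rw [card_gen hirr hv]; exact Nat.card_pos.ne')
  have hall : ∀ r : ↥(gen α), r ^ q ^ j = r := by
    rintro ⟨r, hr⟩
    induction hr using Subring.closure_induction with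
    | mem x hx => exact Subtype.ext (by rw [SubmonoidClass.coe_pow]; simpa [Set.mem_singleton_iff.1 hx] using h)
    | zero => exact zero_pow (pow_ne_zero _ hq.out.ne_zero)
    | one => exact one_pow _
    | add x y hx hy ihx ihy =>
      show ((⟨x, hx⟩ : ↥(gen α)) + ⟨y, hy⟩) ^ q ^ j = ⟨x, hx⟩ + ⟨y, hy⟩
      rw [add_pow_char_pow, ihx, ihy]
    | neg x hx ih =>
      show (-(⟨x, hx⟩ : ↥(gen α))) ^ q ^ j = -⟨x, hx⟩
      have h1 := add_pow_char_pow (-(⟨x, hx⟩ : ↥(gen α))) ⟨x, hx⟩ q j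
      rw [neg_add_cancel, zero_pow (pow_ne_zero j hq.out.ne_zero), ih] at h1
      exact eq_neg_of_add_eq_zero_left h1.symm
    | mul x y hx hy ihx ihy =>
      show ((⟨x, hx⟩ : ↥(gen α)) * ⟨y, hy⟩) ^ q ^ j = ⟨x, hx⟩ * ⟨y, hy⟩
      rw [mul_pow, ihx, ihy]
  have h3 := card_le_of_frobenius_fixed (q ^ j) (Nat.one_lt_pow hj hq.out.one_lt) hall
  rwa [card_gen hirr hv] at h3

/-- The multiplicative order of `α` divides `|A| - 1`. -/
theorem pow_card_eq [Nontrivial A] (hirr : IsIrred α) (hexp : ∀ w : A, q • w = 0) (hα : α ≠ 0) :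
    α ^ (Nat.card A - 1) = 1 := by
  classical
  obtain ⟨v, hv⟩ := exists_ne (0 : A)
  haveI := gen_comm α
  haveI := noZeroDivisors_gen hirr
  haveI := charP_gen (q := q) (α := α) hexp
  haveI : Nontrivial ↥(gen α) := CharP.nontrivial_of_char_ne_one (R := ↥(gen α)) hq.out.ne_one
  haveI : IsDomain ↥(gen α) := NoZeroDivisors.to_isDomain _
  haveI : Finite ↥(gen α) := Nat.finite_of_card_ne_zero (by rw [card_gen hirr hv]; exact Nat.card_pos.ne')
  haveI : Fintype ↥(gen α) := Fintype.ofFinite _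
  letI : Field ↥(gen α) := Fintype.fieldOfDomain _
  have h1 : (⟨α, Subring.subset_closure rfl⟩ : ↥(gen α)) ≠ 0 := fun e => hα (congrArg Subtype.val e)
  have h2 := FiniteField.pow_card_sub_one_eq_one _ h1
  rw [← Nat.card_eq_fintype_card, card_gen hirr hv] at h2
  exact congrArg Subtype.val h2

theorem odd_geom {b : ℤ} (hb : Odd b) {k : ℕ} (hk : Odd k) : Odd (∑ i ∈ Finset.range k, b ^ i) := by
  rw [Int.odd_iff, Finset.sum_int_mod, Finset.sum_congr rfl fun i _ => Int.odd_iff.1 (hb.pow : Odd (b ^ i))]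
  simp only [Finset.sum_const, Finset.card_range, nsmul_eq_mul, mul_one]
  rcases hk with ⟨c, rfl⟩
  push_cast
  omega

/-- A power of two dividing `q^n - 1`, `n > 2`, nearly divides a smaller `q^j - 1`. -/
theorem exists_small {n m : ℕ} (hodd : Odd q) (hn : 2 < n) (h : ((2 : ℤ) ^ m) ∣ (q : ℤ) ^ n - 1) :
    ∃ j, j ≠ 0 ∧ j < n ∧ ((2 : ℤ) ^ (m - 1)) ∣ (q : ℤ) ^ j - 1 := by
  have hq' : Odd (q : ℤ) := Int.odd_coe_nat q |>.2 hodd
  have hco : ∀ x : ℤ, Odd x → IsCoprime ((2 : ℤ) ^ m) x := fun x hx =>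
    (Int.prime_two.coprime_iff_not_dvd.2 fun hd => (Int.not_even_iff_odd.2 hx) (even_iff_two_dvd.2 hd)).pow_left
  have hw : ((2 : ℤ) ^ (m - 1)) ∣ (2 : ℤ) ^ m := pow_dvd_pow 2 (Nat.sub_le m 1)
  rcases Nat.even_or_odd n with ⟨k, rfl⟩ | hno
  · rcases Nat.even_or_odd k with ⟨i, rfl⟩ | hko
    · refine ⟨i + i, by omega, by omega, ?_⟩
      rcases Nat.eq_zero_or_pos m with rfl | hm
      · simp
      have h4 : ∃ c : ℤ, (q : ℤ) ^ (i + i) + 1 = 2 * c ∧ Odd c := by
        obtain ⟨d, hd⟩ := (hq'.pow : Odd ((q : ℤ) ^ i))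
        exact ⟨2 * d * d + 2 * d + 1, by rw [pow_add, hd]; ring, ⟨d * d + d, by ring⟩⟩
      obtain ⟨c, hc, hco'⟩ := h4
      rw [pow_add (q : ℤ) (i + i) (i + i), show ((q : ℤ) ^ (i + i)) * (q : ℤ) ^ (i + i) - 1 =
        2 * (c * ((q : ℤ) ^ (i + i) - 1)) by rw [← mul_assoc, ← hc]; ring] at h
      rw [show m = (m - 1) + 1 by omega, pow_succ', mul_dvd_mul_iff_left (by norm_num : (2 : ℤ) ≠ 0)] at h
      exact ((hco c hco').of_isCoprime_of_dvd_left hw).dvd_of_dvd_mul_left h
    · refine ⟨2, by omega, hn, hw.trans ?_⟩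
      rw [← two_mul, pow_mul, ← geom_sum_mul] at h
      exact (hco _ (odd_geom hq'.pow hko)).dvd_of_dvd_mul_left h
  · refine ⟨1, one_ne_zero, by omega, hw.trans ?_⟩
    rw [← geom_sum_mul] at h
    rw [pow_one]
    exact (hco _ (odd_geom hq' hno)).dvd_of_dvd_mul_left h

theorem natCast_pow_eq {β : AddMonoid.End A} {m j : ℕ} (hβ : orderOf β = 2 ^ m)
    (h : ((2 : ℤ) ^ m) ∣ (q : ℤ) ^ j - 1) : β ^ q ^ j = β := by
  conv_rhs => rw [← pow_one β]
  refine (orderOf_pos_iff.1 (hβ ▸ Nat.two_pow_pos m)).pow_eq_pow_iff_modEq.2 ?_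
  rw [hβ]
  refine (Nat.modEq_of_dvd ?_).symm
  push_cast
  exact h

/-- `α²` irreducible forces `|A| ≤ q²`. -/
theorem card_le_sq_of_sq_irred [Nontrivial A] (hexp : ∀ w : A, q • w = 0) (hodd : Odd q) {n m : ℕ}
    (hA : Nat.card A = q ^ n) (hm : orderOf α = 2 ^ m) (hirr : IsIrred (α ^ 2)) : n ≤ 2 := by
  by_contra hn
  push Not at hn
  have hirr1 : IsIrred α := fun W hW => hirr W fun w hw => hW _ (hW _ hw)
  have hα : α ≠ 0 := by
    intro h
    rw [h] at hm
    have h1 := pow_orderOf_eq_one (0 : AddMonoid.End A)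
    rw [hm, zero_pow (pow_ne_zero _ two_ne_zero)] at h1
    obtain ⟨v, hv⟩ := exists_ne (0 : A)
    exact hv (DFunLike.congr_fun h1 v).symm
  have hdvd : ((2 : ℤ) ^ m) ∣ (q : ℤ) ^ n - 1 := by
    have h1 := orderOf_dvd_of_pow_eq_one (pow_card_eq hirr1 hexp hα)
    rw [hm, hA] at h1
    have h2 := Int.natCast_dvd_natCast.2 h1
    rw [Nat.cast_sub (Nat.one_le_pow _ _ hq.out.pos)] at h2
    push_cast at h2
    exact h2
  obtain ⟨j, hj0, hjn, hj⟩ := exists_small hodd hn hdvd
  have hord : orderOf (α ^ 2) = 2 ^ (m - 1) := by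
    rcases Nat.eq_zero_or_pos m with rfl | hm0
    · rw [pow_zero, orderOf_eq_one_iff] at hm
      simp [hm]
    · rw [orderOf_pow' α two_ne_zero, hm, Nat.gcd_eq_right (dvd_pow_self 2 (by omega))]
      conv_lhs => rw [show m = m - 1 + 1 by omega, pow_succ]
      simp
  have := card_le_of_pow_eq hirr hexp hj0 (natCast_pow_eq hord hj)
  rw [hA] at this
  exact absurd ((Nat.pow_le_pow_iff_right hq.out.one_lt).1 this) (by omega)

/-- An irreducible `α` twisted by `k ≡ 3 (mod 4)` forces `|A| ≤ q²`. -/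
theorem card_le_sq_of_twist [Nontrivial A] (hexp : ∀ w : A, q • w = 0) {n m k : ℕ}
    (hA : Nat.card A = q ^ n) (hm : orderOf α = 2 ^ m) (hm4 : 2 ≤ m) (hirr : IsIrred α) (ξ : AddMonoid.End A)
    (ξ' : AddMonoid.End A) (hξ : ξ' * ξ = 1) (hξ' : ξ * ξ' = 1) (hconj : ξ * α * ξ' = α ^ k)
    (hinv : ξ * α ^ k * ξ' = α) (hk : k % 4 = 3) : n ≤ 2 := by
  classical
  obtain ⟨v, hv⟩ := exists_ne (0 : A)
  haveI := gen_comm α
  haveI := noZeroDivisors_gen hirr
  haveI := charP_gen (q := q) (α := α) hexp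
  haveI : Nontrivial ↥(gen α) := CharP.nontrivial_of_char_ne_one (R := ↥(gen α)) hq.out.ne_one
  haveI : IsDomain ↥(gen α) := NoZeroDivisors.to_isDomain _
  haveI : Finite ↥(gen α) := Nat.finite_of_card_ne_zero (by rw [card_gen hirr hv]; exact Nat.card_pos.ne')
  let φ : AddMonoid.End A →+* AddMonoid.End A :=
    { toFun := fun r => ξ * r * ξ'
      map_one' := by rw [mul_one, hξ']
      map_mul' := fun r s => by
        rw [show ξ * r * ξ' * (ξ * s * ξ') = ξ * r * (ξ' * ξ) * s * ξ' by simp only [mul_assoc], hξ, mul_one]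
        simp only [mul_assoc]
      map_zero' := by simp
      map_add' := fun r s => by rw [mul_add, add_mul] }
  let α₀ : ↥(gen α) := ⟨α, Subring.subset_closure rfl⟩
  set F₀ : Subring ↥(gen α) := (φ.comp (gen α).subtype).eqLocus (gen α).subtype with hF₀
  have hmemF : ∀ r : ↥(gen α), r ∈ F₀ ↔ ξ * (r : AddMonoid.End A) * ξ' = (r : AddMonoid.End A) := fun r => Iff.rfl
  obtain ⟨j, -, hjcard⟩ : ∃ j, j ≤ n ∧ Nat.card F₀ = q ^ j := by
    refine (Nat.dvd_prime_pow hq.out).1 ?_
    rw [← hA, ← card_gen hirr hv]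
    exact AddSubgroup.card_addSubgroup_dvd_card F₀.toAddSubgroup
  haveI : Fintype F₀ := Fintype.ofFinite _
  haveI : NoZeroDivisors F₀ := ⟨fun {r s} h => by
    rcases NoZeroDivisors.eq_zero_or_eq_zero_of_mul_eq_zero (congrArg Subtype.val h) with h1 | h1
    · exact Or.inl (Subtype.ext h1)
    · exact Or.inr (Subtype.ext h1)⟩
  haveI : IsDomain F₀ := NoZeroDivisors.to_isDomain _
  letI : Field F₀ := Fintype.fieldOfDomain _
  have hfix : ∀ r ∈ F₀, r ^ q ^ j = r := fun r hr => by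
    have h := congrArg Subtype.val (FiniteField.pow_card (⟨r, hr⟩ : F₀))
    rw [← Nat.card_eq_fintype_card, hjcard] at h
    exact h
  set b : ↥(gen α) := α₀ + α₀ ^ k with hb
  set c : ↥(gen α) := α₀ * α₀ ^ k with hc
  have hbF : b ∈ F₀ := by
    rw [hmemF]
    show φ (α + α ^ k) = α + α ^ k
    rw [map_add, show φ α = α ^ k from hconj, show φ (α ^ k) = α from hinv, add_comm]
  have hcF : c ∈ F₀ := by
    rw [hmemF]
    show φ (α * α ^ k) = α * α ^ k
    rw [map_mul, show φ α = α ^ k from hconj, show φ (α ^ k) = α from hinv, (Commute.pow_self α k).eq]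
  have hquad : α₀ * α₀ - b * α₀ + c = 0 := by rw [hb, hc]; ring
  have hq2 := congrArg (fun r : ↥(gen α) => r ^ q ^ j) hquad
  simp only [add_pow_char_pow, sub_pow_char_pow, mul_pow, hfix b hbF, hfix c hcF,
    zero_pow (pow_ne_zero j hq.out.ne_zero)] at hq2
  have hfac : (α₀ ^ q ^ j - α₀) * (α₀ ^ q ^ j - α₀ ^ k) = 0 := by
    rw [hb, hc] at hq2
    linear_combination hq2
  have hfin : IsOfFinOrder α := orderOf_pos_iff.1 (hm ▸ Nat.two_pow_pos m)
  have hkα : α ^ k ≠ α := by
    intro h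
    have h1 : α ^ k = α ^ 1 := by rw [pow_one]; exact h
    rw [hfin.pow_eq_pow_iff_modEq, hm] at h1
    have h2 := h1.of_dvd (show 4 ∣ 2 ^ m from by rw [show (4 : ℕ) = 2 ^ 2 from rfl]; exact pow_dvd_pow 2 hm4)
    unfold Nat.ModEq at h2
    omega
  have hj0 : j ≠ 0 := fun h => by
    rw [h, pow_zero, Nat.card_eq_fintype_card] at hjcard
    exact (Fintype.one_lt_card (α := F₀)).ne' hjcard
  rcases mul_eq_zero.1 hfac with h | h <;> rw [sub_eq_zero] at h
  · exfalso
    have h' : α ^ q ^ j = α := congrArg Subtype.val h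
    have hle := card_le_of_pow_eq hirr hexp hj0 h'
    rw [← card_gen hirr hv, ← hjcard] at hle
    have htop : F₀.toAddSubgroup = ⊤ := AddSubgroup.eq_top_of_card_eq _
      (le_antisymm (Nat.le_of_dvd Nat.card_pos (AddSubgroup.card_addSubgroup_dvd_card _)) hle)
    have hmem : α₀ ∈ F₀.toAddSubgroup := htop ▸ AddSubgroup.mem_top _
    exact hkα (hconj.symm.trans ((hmemF α₀).1 hmem))
  have h' : α ^ q ^ j = α ^ k := congrArg Subtype.val h
  have hmod := h'
  rw [hfin.pow_eq_pow_iff_modEq, hm] at hmod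
  have h4 := hmod.of_dvd (show 4 ∣ 2 ^ m from by rw [show (4 : ℕ) = 2 ^ 2 from rfl]; exact pow_dvd_pow 2 hm4)
  have hjo : Odd j := by
    rcases Nat.even_or_odd j with ⟨i, rfl⟩ | h5
    · exfalso
      unfold Nat.ModEq at h4
      have hqo : Odd (q ^ i) := by
        refine (Nat.Coprime.odd_of_left ?_)
        rcases Nat.even_or_odd q with hev | ho
        · exfalso
          have h9 : q ^ (i + i) % 2 = 0 := Nat.even_iff.1 (hev.pow_of_ne_zero hj0)
          omega
        · exact (Nat.coprime_two_left.2 ho.pow)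
      obtain ⟨d, hd⟩ := hqo
      rw [pow_add, hd, show (2 * d + 1) * (2 * d + 1) = 4 * (d * d + d) + 1 by ring] at h4
      omega
    · exact h5
  have hsq : α ^ q ^ (j + j) = α := by
    rw [pow_add, pow_mul, h', ← pow_mul, mul_comm, pow_mul, h', ← pow_mul]
    have h6 : φ (φ α) = α := by rw [show φ α = α ^ k from hconj]; exact hinv
    rwa [show φ α = α ^ k from hconj, map_pow, show φ α = α ^ k from hconj, ← pow_mul] at h6
  have hd : ((2 : ℤ) ^ m) ∣ (q : ℤ) ^ (j + j) - 1 := by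
    have h7 : α ^ q ^ (j + j) = α ^ 1 := by rw [pow_one]; exact hsq
    rw [hfin.pow_eq_pow_iff_modEq, hm] at h7
    have := h7.symm.dvd
    push_cast at this
    exact this
  rw [← two_mul, pow_mul, ← geom_sum_mul] at hd
  have hqodd : Odd (q : ℤ) := by
    rcases Nat.even_or_odd q with hev | ho
    · exfalso
      unfold Nat.ModEq at h4
      have : q ^ j % 2 = 0 := Nat.even_iff.1 (hev.pow_of_ne_zero hj0)
      omega
    · exact_mod_cast ho
  have h2 : ((2 : ℤ) ^ m) ∣ (q : ℤ) ^ 2 - 1 :=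
    ((Int.prime_two.coprime_iff_not_dvd.2 fun hd' => (Int.not_even_iff_odd.2 (odd_geom hqodd.pow hjo))
      (even_iff_two_dvd.2 hd')).pow_left).dvd_of_dvd_mul_left hd
  have := card_le_of_pow_eq hirr hexp two_ne_zero (natCast_pow_eq hm h2)
  rw [hA] at this
  exact (Nat.pow_le_pow_iff_right hq.out.one_lt).1 this

end Cfsg.Lib.Solv.SemilinearBound
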