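import Cfsg.Agent.Lib.Perm.OddCyclicRegular
import Cfsg.Agent.Lib.PGroup.NormalSq
import Cfsg.Agent.Lib.Solv.SemilinearBound

/-!
# Coprime linear groups all of whose orbits have `p`-power size are solvable

`V` is an abelian `q`-group and `H ≤ Aut V` has order prime to `q`.
-/

set_option autoImplicit false
set_option linter.style.haveILetI false

namespace Cfsg.Lib.Solv.PowerOrbits

open Subgroup

universe u

variable {V : Type u} [CommGroup V] [Finite V] {p q : ℕ}

/-- All orbits have `p`-power size. -/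
def OrbitPow (p : ℕ) (H : Subgroup (MulAut V)) : Prop :=
  ∀ v : V, ∃ a : ℕ, (MulAction.stabilizer H v).index = p ^ a

/-- `W` is invariant under `K`. -/
def IsInv (K : Subgroup (MulAut V)) (W : Subgroup V) : Prop := ∀ g ∈ K, ∀ w ∈ W, g w ∈ W

/-- `K` is irreducible. -/
def Irred (K : Subgroup (MulAut V)) : Prop := ∀ W : Subgroup V, IsInv K W → W = ⊥ ∨ W = ⊤

/-- The fixed points of an automorphism. -/
def fix (e : MulAut V) : Subgroup V where
  carrier := {v | e v = v}
  one_mem' := map_one e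
  mul_mem' := fun {x y} hx hy => by show e (x * y) = x * y; rw [map_mul, hx, hy]
  inv_mem' := fun {x} hx => by show e x⁻¹ = x⁻¹; rw [map_inv, hx]

theorem mem_fix {e : MulAut V} {v : V} : v ∈ fix e ↔ e v = v := Iff.rfl

theorem fix_ne_top {e : MulAut V} (he : e ≠ 1) : fix e ≠ ⊤ := fun h =>
  he (MulEquiv.ext fun v => (h ▸ mem_top v : v ∈ fix e))

theorem fix_le_fix_pow (e : MulAut V) (n : ℕ) : fix e ≤ fix (e ^ n) := fun v hv => by
  induction n with
  | zero => simp [mem_fix]
  | succ n ih => rw [mem_fix, pow_succ', MulAut.mul_apply, mem_fix.1 ih, mem_fix.1 hv]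

theorem smul_eq {H : Subgroup (MulAut V)} (h : H) (v : V) : h • v = (h : MulAut V) v := rfl

/-- Orbit sizes in a homomorphic image. -/
theorem orbitPow_of_hom [hp : Fact p.Prime] {H : Subgroup (MulAut V)} (horb : OrbitPow p H) {W : Type u}
    [CommGroup W] [Finite W] (f : H →* MulAut W)
    (hf : ∀ w : W, ∃ v : V, ∀ h : H, (h : MulAut V) v = v → f h w = w) : OrbitPow p f.range := by
  intro w
  obtain ⟨v, hv⟩ := hf w
  obtain ⟨a, ha⟩ := horb v
  have h1 : ((MulAction.stabilizer H v).map f.rangeRestrict) ≤ MulAction.stabilizer f.range w := by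
    rintro _ ⟨h, hh, rfl⟩
    exact hv h hh
  have h2 : (MulAction.stabilizer f.range w).index ∣ p ^ a :=
    ha ▸ (index_dvd_of_le h1).trans (index_map_dvd _ f.rangeRestrict_surjective)
  obtain ⟨b, -, hb⟩ := (Nat.dvd_prime_pow hp.out).1 h2
  exact ⟨b, hb⟩

/-- A Sylow subgroup is transitive on every orbit. -/
theorem orbit_eq [hp : Fact p.Prime] {H : Subgroup (MulAut V)} (horb : OrbitPow p H) (P : Sylow p H) (v : V)
    (h : H) : ∃ g ∈ (P : Subgroup H), (g : MulAut V) v = (h : MulAut V) v := by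
  obtain ⟨a, ha⟩ := horb v
  set S := MulAction.stabilizer H v with hS
  have hstab : MulAction.stabilizer (P : Subgroup H) v = S.subgroupOf (P : Subgroup H) := by
    ext g
    rfl
  have h1 : (MulAction.stabilizer (P : Subgroup H) v).index = (MulAction.orbit (P : Subgroup H) v).ncard :=
    MulAction.index_stabilizer _ v
  have h2 : S.index = (MulAction.orbit H v).ncard := MulAction.index_stabilizer _ v
  have hsub : MulAction.orbit (P : Subgroup H) v ⊆ MulAction.orbit H v := by
    rintro _ ⟨g, rfl⟩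
    exact ⟨g, rfl⟩
  have h3 : p ^ a ∣ (P : Subgroup H).index * S.relIndex (P : Subgroup H) := by
    rw [← ha, mul_comm]
    have h4 := relIndex_mul_index (inf_le_right : S ⊓ (P : Subgroup H) ≤ P)
    rw [inf_relIndex_right] at h4
    rw [h4]
    exact index_dvd_of_le inf_le_left
  have h5 : p ^ a ∣ S.relIndex (P : Subgroup H) :=
    (((Nat.Prime.coprime_iff_not_dvd hp.out).2 P.not_dvd_index).pow_left a).dvd_of_dvd_mul_left h3
  rw [hstab] at h1
  have heq : MulAction.orbit (P : Subgroup H) v = MulAction.orbit H v := by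
    refine Set.eq_of_subset_of_ncard_le hsub ?_ (Set.toFinite _)
    rw [← h2, ha, ← h1]
    exact Nat.le_of_dvd (Nat.pos_of_ne_zero index_ne_zero_of_finite) h5
  obtain ⟨g, hg⟩ : (h : MulAut V) v ∈ MulAction.orbit (P : Subgroup H) v := heq ▸ ⟨h, rfl⟩
  exact ⟨g, g.2, hg⟩

/-- For odd `p` the group has odd order. -/
theorem odd_card [hp : Fact p.Prime] [hq : Fact q.Prime] {H : Subgroup (MulAut V)} (horb : OrbitPow p H)
    (hV : IsPGroup q V) (hcop : ¬ q ∣ Nat.card H) (hp2 : p ≠ 2) : Odd (Nat.card H) := by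
  classical
  rw [← Nat.not_even_iff_odd, even_iff_two_dvd]
  intro h2
  haveI : Fact (Nat.Prime 2) := ⟨Nat.prime_two⟩
  obtain ⟨t, ht⟩ := exists_prime_orderOf_dvd_card' 2 h2
  have ht2 : (t : MulAut V) * (t : MulAut V) = 1 := by
    rw [← Subgroup.coe_mul, ← sq, ← ht, pow_orderOf_eq_one, Subgroup.coe_one]
  obtain ⟨w, hw⟩ : ∃ w, (t : MulAut V) w ≠ w := by
    by_contra hcon
    push Not at hcon
    have : t = 1 := Subtype.ext (MulEquiv.ext hcon)
    rw [this, orderOf_one] at ht
    omega
  set u := w * ((t : MulAut V) w)⁻¹ with hu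
  have htu : (t : MulAut V) u = u⁻¹ := by
    rw [hu, map_mul, map_inv, ← MulAut.mul_apply, ht2, MulAut.one_apply, mul_inv_rev, inv_inv]
  have hu1 : u ≠ 1 := fun h => hw (mul_inv_eq_one.1 (hu ▸ h)).symm
  let X := MulAction.orbit H u
  haveI : Finite X := Subtype.finite
  have hinv : ∀ y ∈ X, y⁻¹ ∈ X := by
    rintro _ ⟨h, rfl⟩
    refine ⟨h * t, ?_⟩
    show ((h * t : H) : MulAut V) u = ((h : MulAut V) u)⁻¹
    rw [Subgroup.coe_mul, MulAut.mul_apply, htu, map_inv]
  let σ : Equiv.Perm X := ⟨fun y => ⟨(y : V)⁻¹, hinv y y.2⟩, fun y => ⟨(y : V)⁻¹, hinv y y.2⟩,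
    fun y => Subtype.ext (inv_inv _), fun y => Subtype.ext (inv_inv _)⟩
  obtain ⟨a, ha⟩ := horb u
  haveI : Fintype X := Fintype.ofFinite _
  obtain ⟨y, hy⟩ := Equiv.Perm.exists_fixed_point_of_prime (p := 2) (n := 1) (σ := σ) (by
      rw [← Nat.card_eq_fintype_card, Nat.card_coe_set_eq, ← MulAction.index_stabilizer, ha]
      exact fun hd => hp2 ((Nat.prime_dvd_prime_iff_eq Nat.prime_two hp.out).1
        (Nat.prime_two.dvd_of_dvd_pow hd)).symm)
    (Equiv.ext fun y => by simp [sq, σ])
  have hy2 : (y : V) ^ 2 = 1 := by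
    have h1 : ((y : V))⁻¹ = y := congrArg Subtype.val hy
    rw [sq]
    nth_rw 1 [← h1]
    exact inv_mul_cancel _
  obtain ⟨k, hk⟩ := hV y
  have hq2 : q ≠ 2 := fun h => hcop (h ▸ h2)
  have hy1 : (y : V) = 1 := by
    rw [← orderOf_eq_one_iff]
    exact Nat.eq_one_of_dvd_coprimes (((Nat.coprime_primes Nat.prime_two hq.out).2 hq2.symm).pow_right k)
      (orderOf_dvd_of_pow_eq_one hy2) (orderOf_dvd_of_pow_eq_one hk)
  obtain ⟨h, hh⟩ := y.2
  refine hu1 ((h : MulAut V).injective ?_)
  rw [map_one, ← hy1]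
  exact hh

/-- A system of `p` blocks permuted transitively gives solvability by induction. -/
theorem isSolvable_of_blocks [hp : Fact p.Prime] {H : Subgroup (MulAut V)} (P : Sylow p H) (horb : OrbitPow p H)
    (hodd : p ≠ 2 → Odd (Nat.card H)) (hN : ∀ N : Subgroup H, N.Normal → N ≠ ⊤ → Group.IsSolvable N)
    (B : Set (Subgroup V)) (hBc : Nat.card B = p) (hne : ∀ W ∈ B, W ≠ ⊥)
    (hindep : ∀ W₁ ∈ B, ∀ W₂ ∈ B, W₁ ≠ W₂ → ∀ u₁ ∈ W₁, ∀ u₂ ∈ W₂, ∀ W₃ ∈ B, u₁ * u₂ ∈ W₃ →
      u₁ = 1 ∨ u₂ = 1)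
    (hPB : ∀ g ∈ (P : Subgroup H), ∀ W ∈ B, W.map ((g : MulAut V) : V →* V) ∈ B)
    (htr : ∀ W ∈ B, ∀ W' ∈ B, ∃ g ∈ (P : Subgroup H), W.map ((g : MulAut V) : V →* V) = W') :
    Group.IsSolvable H := by
  classical
  have himg : ∀ (h : H), ∀ W ∈ B, ∃ W' ∈ B, W.map ((h : MulAut V) : V →* V) ≤ W' := by
    intro h W hW
    have hmem : ∀ u ∈ W, ∃ W' ∈ B, (h : MulAut V) u ∈ W' := fun u hu => by
      obtain ⟨g, hg, he⟩ := orbit_eq horb P u h
      exact ⟨_, hPB g hg W hW, he ▸ mem_map_of_mem _ hu⟩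
    obtain ⟨⟨u₀, hu₀⟩, hu₀'⟩ := ne_bot_iff_exists_ne_one.1 (hne W hW)
    have hu₀1 : u₀ ≠ 1 := fun e => hu₀' (Subtype.ext e)
    obtain ⟨W', hW', h0⟩ := hmem u₀ hu₀
    refine ⟨W', hW', ?_⟩
    rintro _ ⟨u, hu, rfl⟩
    obtain ⟨W'', hW'', h1⟩ := hmem u hu
    by_cases he : W'' = W'
    · exact he ▸ h1
    obtain ⟨W₃, hW₃, h2⟩ := hmem (u₀ * u) (W.mul_mem hu₀ hu)
    rw [map_mul] at h2
    rcases hindep W' hW' W'' hW'' (Ne.symm he) _ h0 _ h1 W₃ hW₃ h2 with h3 | h3
    · exact absurd ((h : MulAut V).injective (h3.trans (map_one _).symm)) hu₀1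
    · show (h : MulAut V) u ∈ W'
      rw [h3]
      exact one_mem _
  have hdisj : ∀ W ∈ B, ∀ W' ∈ B, W ≤ W' → W = W' := by
    intro W hW W' hW' hle
    by_contra hne'
    obtain ⟨⟨u₀, hu₀⟩, hu₀'⟩ := ne_bot_iff_exists_ne_one.1 (hne W hW)
    have hu₀1 : u₀ ≠ 1 := fun e => hu₀' (Subtype.ext e)
    rcases hindep W hW W' hW' hne' u₀ hu₀ u₀⁻¹ (W'.inv_mem (hle hu₀)) W hW
      (by rw [mul_inv_cancel]; exact one_mem _) with h | h
    · exact hu₀1 h
    · exact hu₀1 (inv_eq_one.1 h)
  have hperm : ∀ (h : H), ∀ W ∈ B, W.map ((h : MulAut V) : V →* V) ∈ B := by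
    intro h W hW
    obtain ⟨W', hW', hle⟩ := himg h W hW
    obtain ⟨W'', hW'', hle'⟩ := himg h⁻¹ W' hW'
    have h1 : W ≤ W'' := fun u hu => by
      have := hle' ⟨(h : MulAut V) u, hle ⟨u, hu, rfl⟩, rfl⟩
      simpa using this
    rw [← hdisj W hW W'' hW'' h1] at hle'
    suffices W.map ((h : MulAut V) : V →* V) = W' from this ▸ hW'
    refine le_antisymm hle fun u hu => ⟨((h⁻¹ : H) : MulAut V) u, hle' ⟨u, hu, rfl⟩, ?_⟩
    simp
  let act : H → B → B := fun h W => ⟨W.1.map ((h : MulAut V) : V →* V), hperm h W W.2⟩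
  have act_one : ∀ W, act 1 W = W := fun W => Subtype.ext (Subgroup.map_id W.1)
  have act_mul : ∀ g h W, act (g * h) W = act g (act h W) := fun g h W =>
    Subtype.ext (by simp only [act, Subgroup.map_map]; rfl)
  let θ : H →* Equiv.Perm B := MonoidHom.mk' (fun g =>
      ⟨act g, act g⁻¹, fun W => by rw [← act_mul, inv_mul_cancel, act_one],
        fun W => by rw [← act_mul, mul_inv_cancel, act_one]⟩)
    fun g h => Equiv.ext (act_mul g h)
  haveI : Finite B := Subtype.finite
  haveI : Fintype B := Fintype.ofFinite _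
  have hker : θ.ker ≠ ⊤ := by
    intro htop
    obtain ⟨W, hW, W', hW', hWW⟩ : ∃ W ∈ B, ∃ W' ∈ B, W ≠ W' := by
      rw [Nat.card_eq_fintype_card] at hBc
      obtain ⟨x, y, hxy⟩ := Fintype.one_lt_card_iff.1 (hBc.symm ▸ hp.out.one_lt)
      exact ⟨x, x.2, y, y.2, fun e => hxy (Subtype.ext e)⟩
    obtain ⟨g, hg, he⟩ := htr W hW W' hW'
    have : θ g = 1 := MonoidHom.mem_ker.1 (htop ▸ mem_top _)
    exact hWW ((congrArg Subtype.val (Equiv.congr_fun this ⟨W, hW⟩)).symm.trans he)
  have hkers := hN θ.ker inferInstance hker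
  haveI : MulAction.IsPretransitive θ.range B := ⟨fun x y => by
    obtain ⟨g, hg, he⟩ := htr x x.2 y y.2
    exact ⟨⟨θ g, g, rfl⟩, Subtype.ext he⟩⟩
  have hrange : Group.IsSolvable θ.range := by
    have hcard : Fintype.card B = p := by rw [← Nat.card_eq_fintype_card, hBc]
    by_cases hp2 : p = 2
    · have h1 : Nat.card θ.range ∣ 2 := by
        have h2 := card_subgroup_dvd_card θ.range
        rwa [Nat.card_perm, hBc, hp2] at h2
      obtain ⟨k, -, hk⟩ := (Nat.dvd_prime_pow Nat.prime_two).1 (show Nat.card θ.range ∣ 2 ^ 1 from h1)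
      haveI : Fact (Nat.Prime 2) := ⟨Nat.prime_two⟩
      haveI := (IsPGroup.of_card (p := 2) hk).isNilpotent
      infer_instance
    rcases Cfsg.Agent.PrimeDegree.two_transitive_or_affine hcard θ.range with h | ⟨f, h⟩
    · exfalso
      obtain ⟨x, y, hxy⟩ : ∃ x y : B, x ≠ y := Fintype.one_lt_card_iff.1 (hcard.symm ▸ hp.out.one_lt)
      obtain ⟨⟨g, hg⟩, hg1, hg2⟩ := MulAction.is_two_pretransitive_iff.1 h hxy (Ne.symm hxy)
      exact hxy (Perm.OddCyclic.eq_of_swap ((hodd hp2).of_dvd_nat (card_range_dvd θ)) hg hg1 hg2)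
    · exact Cfsg.Agent.PrimeDegree.isSolvable_of_affine θ.range f h
  exact Group.isSolvable_of_ker_le_range θ.ker.subtype θ.rangeRestrict (by
    rw [MonoidHom.ker_rangeRestrict, range_subtype])

/-- The product over the powers of an element of exponent `p` is fixed by it. -/
theorem norm_fixed (g : MulAut V) (hg : g ^ p = 1) (v : V) :
    g (∏ i ∈ Finset.range p, (g ^ i) v) = ∏ i ∈ Finset.range p, (g ^ i) v := by
  rw [map_prod]
  have h1 := Finset.prod_range_succ (fun i => (g ^ i) v) p
  have h2 := Finset.prod_range_succ' (fun i => (g ^ i) v) p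
  rw [h1, hg, pow_zero] at h2
  have h3 := mul_right_cancel h2
  rw [h3]
  refine Finset.prod_congr rfl fun i _ => ?_
  rw [pow_succ', MulAut.mul_apply]

/-- A normal elementary abelian subgroup of order `p²` of a Sylow subgroup gives blocks. -/
theorem isSolvable_of_normal_sq [hp : Fact p.Prime] [hq : Fact q.Prime] {H : Subgroup (MulAut V)} (P : Sylow p H)
    (horb : OrbitPow p H) (hV : IsPGroup q V) (hpq : p ≠ q)
    (hodd : p ≠ 2 → Odd (Nat.card H)) (hN : ∀ N : Subgroup H, N.Normal → N ≠ ⊤ → Group.IsSolvable N)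
    (hirr : Irred ((P : Subgroup H).map H.subtype)) (E : Subgroup (P : Subgroup H)) (hEn : E.Normal)
    (hE : Cfsg.IsElementaryAbelian p E) (hEc : Nat.card E = p ^ 2) : Group.IsSolvable H := by
  classical
  let ι : (P : Subgroup H) →* MulAut V := H.subtype.comp (P : Subgroup H).subtype
  have hι : Function.Injective ι := H.subtype_injective.comp (P : Subgroup H).subtype_injective
  have hPmem : ∀ g ∈ (P : Subgroup H).map H.subtype, ∃ x : (P : Subgroup H), ι x = g := by
    rintro _ ⟨y, hy, rfl⟩; exact ⟨⟨y, hy⟩, rfl⟩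
  have hEne : E ≠ ⊥ := fun h => by
    rw [h, card_bot] at hEc
    exact absurd hEc (Nat.one_lt_pow two_ne_zero hp.out.one_lt).ne
  obtain ⟨z, hzE, hzc, hzo⟩ := PGroup.exists_mem_center_orderOf_eq P.2 hEne
  have hz1 : ι z ≠ 1 := fun h => by
    rw [hι (h.trans (map_one ι).symm), orderOf_one] at hzo
    exact hp.out.one_lt.ne hzo
  -- fixed points of a central element are trivial
  have hzfix : fix (ι z) = ⊥ := by
    refine (hirr _ fun g hg w hw => ?_).resolve_right (fix_ne_top hz1)
    obtain ⟨x, rfl⟩ := hPmem g hg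
    show ι z (ι x w) = ι x w
    rw [← MulAut.mul_apply, ← map_mul, ← mem_center_iff.1 hzc x, map_mul, MulAut.mul_apply, mem_fix.1 hw]
  obtain ⟨e₁, he₁E, he₁z⟩ : ∃ e₁ ∈ E, e₁ ∉ zpowers z := by
    by_contra hcon
    push Not at hcon
    have := Subgroup.card_le_of_le (show E ≤ zpowers z from hcon)
    rw [Nat.card_zpowers, hzo, hEc, sq] at this
    have := hp.out.two_le
    nlinarith
  have hcomm : ∀ {a b : (P : Subgroup H)}, a ∈ E → b ∈ E → Commute a b := fun ha hb =>
    Thompson.isEA_commute hE ha hb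
  have hpow : ∀ {a : (P : Subgroup H)}, a ∈ E → ι a ^ p = 1 := fun {a} ha => by
    rw [← map_pow, hE.2 a ha, map_one]
  have hqp : ∀ v : V, v ^ p = 1 → v = 1 := by
    intro v hv
    obtain ⟨k, hk⟩ := hV v
    rw [← orderOf_eq_one_iff]
    exact Nat.eq_one_of_dvd_coprimes (((Nat.coprime_primes hp.out hq.out).2 hpq).pow_right k)
      (orderOf_dvd_of_pow_eq_one hv) (orderOf_dvd_of_pow_eq_one hk)
  have hgenE : ∀ {a b : (P : Subgroup H)}, a ∈ E → b ∈ E → a ≠ 1 → b ∉ zpowers a →
      zpowers a ⊔ zpowers b = E := by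
    intro a b ha hb ha1 hb'
    refine eq_of_le_of_card_ge (sup_le (zpowers_le.2 ha) (zpowers_le.2 hb)) ?_
    obtain ⟨k, -, hk⟩ := (Nat.dvd_prime_pow hp.out).1
      (hEc ▸ card_dvd_of_le (sup_le (zpowers_le.2 ha) (zpowers_le.2 hb) : zpowers a ⊔ zpowers b ≤ E))
    have h1 : Nat.card (zpowers a) = p := by rw [Nat.card_zpowers, orderOf_eq_prime (hE.2 a ha) ha1]
    have h2 : p < Nat.card ↥(zpowers a ⊔ zpowers b) := by
      refine lt_of_le_of_ne (h1.ge.trans (Subgroup.card_le_of_le le_sup_left)) fun he => hb' ?_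
      exact (eq_of_le_of_card_ge le_sup_left (by rw [← he, h1])).ge (mem_sup_right (mem_zpowers b))
    rw [hk] at h2 ⊢
    rw [hEc]
    refine Nat.pow_le_pow_right hp.out.pos ?_
    rcases Nat.lt_or_ge k 2 with h | h
    · exfalso
      exact absurd h2 (not_lt.2 (by simpa using Nat.pow_le_pow_right hp.out.pos (show k ≤ 1 by omega)))
    · exact h
  -- no point is fixed by all of `E`
  have hfixE : ∀ v : V, (∀ e ∈ E, ι e v = v) → v = 1 := fun v hv => mem_bot.1 (hzfix.le (mem_fix.2 (hv z hzE)))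
  -- some nontrivial element has fixed points
  obtain ⟨e₀, he₀E, he₀1, he₀⟩ : ∃ e ∈ E, e ≠ 1 ∧ fix (ι e) ≠ ⊥ := by
    by_contra hcon
    push Not at hcon
    obtain ⟨v, hv⟩ : ∃ v : V, v ≠ 1 := by
      by_contra h
      push Not at h
      exact hz1 (MulEquiv.ext fun v => by rw [h v]; simp)
    haveI : Fintype (zpowers z) := Fintype.ofFinite _
    have h1 : ∀ c : zpowers z, ∏ i ∈ Finset.range p, ((ι (e₁ * c)) ^ i) v = 1 := by
      intro c
      have hcE : (c : (P : Subgroup H)) ∈ E := (zpowers_le.2 hzE) c.2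
      have hne : e₁ * (c : (P : Subgroup H)) ≠ 1 := fun h =>
        he₁z (by rw [eq_inv_of_mul_eq_one_left h]; exact inv_mem c.2)
      exact mem_bot.1 ((hcon _ (E.mul_mem he₁E hcE) hne).le (norm_fixed _ (hpow (E.mul_mem he₁E hcE)) v))
    have h2 : ∏ c : zpowers z, ∏ i ∈ Finset.range p, ((ι (e₁ * c)) ^ i) v = 1 :=
      Finset.prod_eq_one fun c _ => h1 c
    rw [Finset.prod_comm, Finset.prod_eq_single 0] at h2
    · simp only [pow_zero, MulAut.one_apply, Finset.prod_const, Finset.card_univ] at h2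
      rw [← Nat.card_eq_fintype_card, Nat.card_zpowers, hzo] at h2
      exact hv (hqp v h2)
    · intro i hi hi0
      have hicop : (Nat.card (zpowers z)).Coprime i := by
        rw [Nat.card_zpowers, hzo, hp.out.coprime_iff_not_dvd]
        exact fun hd => absurd (Nat.le_of_dvd (by omega) hd) (not_le.2 (Finset.mem_range.1 hi))
      have e3 : ∀ c : zpowers z, ((ι (e₁ * c)) ^ i) v =
          (ι (e₁ ^ i)) (ι ((powCoprime hicop c : zpowers z) : (P : Subgroup H)) v) := by
        intro c
        rw [← map_pow, (hcomm he₁E ((zpowers_le.2 hzE) c.2)).mul_pow, map_mul, MulAut.mul_apply]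
        rfl
      simp only [e3]
      rw [← map_prod, Equiv.prod_comp (powCoprime hicop) (fun c : zpowers z => ι (c : (P : Subgroup H)) v)]
      set w := ∏ c : zpowers z, ι (c : (P : Subgroup H)) v with hw
      have hwz : ι z w = w := by
        rw [hw, map_prod]
        refine Fintype.prod_equiv (Equiv.mulLeft (⟨z, mem_zpowers z⟩ : zpowers z)) _ _ fun c => ?_
        show ι z (ι c v) = ι (z * (c : (P : Subgroup H))) v
        rw [map_mul, MulAut.mul_apply]
      rw [mem_bot.1 (hzfix.le hwz), map_one]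
    · exact fun h => absurd (Finset.mem_range.2 hp.out.pos) h
  have he₀z : e₀ ∉ zpowers z := by
    intro h
    refine he₀ (eq_bot_iff.2 fun v hv => hzfix.le ?_)
    have hz' : z ∈ zpowers e₀ := by
      have := eq_of_le_of_card_ge (zpowers_le.2 h) (by
        rw [Nat.card_zpowers, Nat.card_zpowers, hzo, orderOf_eq_prime (hE.2 e₀ he₀E) he₀1])
      rw [this]
      exact mem_zpowers z
    obtain ⟨n, rfl⟩ := mem_powers_iff_mem_zpowers.2 hz'
    rw [map_pow]
    exact fix_le_fix_pow _ n hv
  set B : Set (Subgroup V) := {W | ∃ x : (P : Subgroup H), W = fix (ι (x * e₀ * x⁻¹))} with hB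
  have hmap : ∀ (x : (P : Subgroup H)) (e : (P : Subgroup H)),
      (fix (ι e)).map ((ι x : MulAut V) : V →* V) = fix (ι (x * e * x⁻¹)) := by
    intro x e
    ext v
    constructor
    · rintro ⟨u, hu, rfl⟩
      show ι (x * e * x⁻¹) (ι x u) = ι x u
      rw [← MulAut.mul_apply, ← map_mul, inv_mul_cancel_right, map_mul, MulAut.mul_apply, mem_fix.1 hu]
    · intro hv
      refine ⟨ι x⁻¹ v, ?_, ?_⟩
      · show ι e (ι x⁻¹ v) = ι x⁻¹ v
        rw [← MulAut.mul_apply, ← map_mul, show e * x⁻¹ = x⁻¹ * (x * e * x⁻¹) by group, map_mul,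
          MulAut.mul_apply, mem_fix.1 hv]
      · show ι x (ι x⁻¹ v) = v
        rw [← MulAut.mul_apply, ← map_mul, mul_inv_cancel, map_one, MulAut.one_apply]
  -- conjugates of `e₀` lie in one coset of `⟨z⟩`
  have hconjz : ∀ x : (P : Subgroup H), ∃ c ∈ zpowers z, x * e₀ * x⁻¹ = c * e₀ := by
    intro x
    haveI : (zpowers z).Normal := ⟨fun y hy g => by
      have : y ∈ center (P : Subgroup H) := (zpowers_le.2 hzc) hy
      rwa [mem_center_iff.1 this g, mul_inv_cancel_right]⟩
    set π := QuotientGroup.mk' (zpowers z) with hπ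
    haveI : (E.map π).Normal := hEn.map π (QuotientGroup.mk'_surjective _)
    have hcardE : Nat.card (E.map π) = p := by
      have h1 := Core.card_mul_relIndex (show zpowers z ≤ E from zpowers_le.2 hzE)
      have h3 : (zpowers z).relIndex E = Nat.card (E.map π) := by
        rw [← relIndex_ker, hπ, QuotientGroup.ker_mk']
      rw [h3, Nat.card_zpowers, hzo, hEc, sq] at h1
      exact Nat.eq_of_mul_eq_mul_left hp.out.pos h1
    have h4 := PGroup.le_center_of_card_eq_prime (P.2.to_quotient (zpowers z)) hcardE (mem_map_of_mem π he₀E)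
    refine ⟨x * e₀ * x⁻¹ * e₀⁻¹, ?_, by rw [inv_mul_cancel_right]⟩
    rw [← QuotientGroup.eq_one_iff]
    show π (x * e₀ * x⁻¹ * e₀⁻¹) = 1
    rw [map_mul, map_mul, map_mul, mem_center_iff.1 h4 (π x), map_inv, mul_inv_cancel_right, map_inv, mul_inv_cancel]
  have hBE : ∀ W ∈ B, ∃ e ∈ E, e ∉ zpowers z ∧ W = fix (ι e) := by
    rintro _ ⟨x, rfl⟩
    refine ⟨_, hEn.conj_mem e₀ he₀E x, fun h => he₀z ?_, rfl⟩
    obtain ⟨c, hc, he⟩ := hconjz x
    rw [he] at h
    exact ((zpowers z).mul_mem_cancel_left hc).1 h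
  have hB0 : fix (ι e₀) ∈ B := ⟨1, by rw [one_mul, inv_one, mul_one]⟩
  have hBne : ∀ W ∈ B, W ≠ ⊥ := by
    rintro _ ⟨x, rfl⟩ h
    rw [← hmap, Subgroup.map_eq_bot_iff_of_injective _ (MulEquiv.injective _)] at h
    exact he₀ h
  have hBP : ∀ g ∈ (P : Subgroup H), ∀ W ∈ B, W.map ((g : MulAut V) : V →* V) ∈ B := by
    rintro g hg _ ⟨x, rfl⟩
    refine ⟨⟨g, hg⟩ * x, ?_⟩
    show (fix (ι (x * e₀ * x⁻¹))).map ((ι ⟨g, hg⟩ : MulAut V) : V →* V) = _
    rw [hmap, mul_inv_rev]
    simp only [mul_assoc]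
  have hBtr : ∀ W ∈ B, ∀ W' ∈ B, ∃ g ∈ (P : Subgroup H), W.map ((g : MulAut V) : V →* V) = W' := by
    rintro _ ⟨x, rfl⟩ _ ⟨y, rfl⟩
    refine ⟨((y * x⁻¹ : (P : Subgroup H)) : H), (y * x⁻¹).2, ?_⟩
    show (fix (ι (x * e₀ * x⁻¹))).map ((ι (y * x⁻¹) : MulAut V) : V →* V) = _
    rw [hmap]
    congr 2
    group
  -- there are `p` blocks
  haveI : Finite B := Subtype.finite
  have hle : Nat.card B ≤ p := by
    rw [← hzo, ← Nat.card_zpowers]
    refine Nat.card_le_card_of_surjective (fun c : {c : zpowers z // fix (ι ((c : (P : Subgroup H)) * e₀)) ∈ B} =>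
      (⟨_, c.2⟩ : B)) ?_ |>.trans (Nat.card_le_card_of_injective Subtype.val Subtype.val_injective)
    rintro ⟨W, hW⟩
    obtain ⟨x, rfl⟩ := id hW
    obtain ⟨c, hc, he⟩ := hconjz x
    exact ⟨⟨⟨c, hc⟩, he ▸ hW⟩, Subtype.ext (congrArg (fun e => fix (ι e)) he.symm)⟩
  have hBc : Nat.card B = p := by
    let actB : ↥(P : Subgroup H) → B → B := fun g W => ⟨W.1.map (((g : H) : MulAut V) : V →* V), hBP g g.2 W W.2⟩
    letI : MulAction (P : Subgroup H) B :=
      { smul := actB
        one_smul := fun W => Subtype.ext (Subgroup.map_id W.1)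
        mul_smul := fun g h W => Subtype.ext (by
          show W.1.map _ = (W.1.map _).map _
          rw [Subgroup.map_map]; rfl) }
    have horbB : MulAction.orbit (P : Subgroup H) (⟨_, hB0⟩ : B) = Set.univ := by
      refine Set.eq_univ_of_forall fun W => ?_
      obtain ⟨g, hg, he⟩ := hBtr _ hB0 W W.2
      exact ⟨⟨g, hg⟩, Subtype.ext he⟩
    obtain ⟨k, hk⟩ : ∃ k, Nat.card B = p ^ k := by
      obtain ⟨k, hk⟩ := P.2.index (MulAction.stabilizer (P : Subgroup H) (⟨_, hB0⟩ : B))
      rw [MulAction.index_stabilizer, horbB, Set.ncard_univ] at hk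
      exact ⟨k, hk⟩
    have hk0 : k ≠ 0 := by
      rintro rfl
      rw [pow_zero] at hk
      haveI := (Nat.card_eq_one_iff_unique.1 hk).1
      refine (hirr (fix (ι e₀)) fun g hg w hw => ?_).elim he₀ (fix_ne_top fun h => he₀1 (hι (h.trans (map_one ι).symm)))
      obtain ⟨x, rfl⟩ := hPmem g hg
      have h := congrArg Subtype.val (Subsingleton.elim (⟨_, hBP x x.2 _ hB0⟩ : B) ⟨_, hB0⟩)
      exact h.le ⟨w, hw, rfl⟩
    rcases Nat.lt_or_ge k 2 with h | h
    · rw [hk, show k = 1 by omega, pow_one]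
    · exfalso
      rw [hk] at hle
      have := (Nat.pow_le_pow_right hp.out.pos h).trans hle
      rw [sq] at this
      have := hp.out.two_le
      nlinarith
  refine isSolvable_of_blocks P horb hodd hN B hBc hBne ?_ hBP hBtr
  intro W₁ hW₁ W₂ hW₂ h12 u₁ hu₁ u₂ hu₂ W₃ hW₃ h3
  -- distinct blocks come from independent elements
  have hmeet : ∀ W ∈ B, ∀ W' ∈ B, W ≠ W' → ∀ v ∈ W, v ∈ W' → v = 1 := by
    intro W hW W' hW' hne v hv hv'
    obtain ⟨a, ha, haz, rfl⟩ := hBE W hW
    obtain ⟨b, hb, hbz, rfl⟩ := hBE W' hW'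
    have ha1 : a ≠ 1 := fun h => haz (h ▸ one_mem _)
    have hba : b ∉ zpowers a := by
      intro h
      refine hne ?_
      have hb1 : b ≠ 1 := fun h => hbz (h ▸ one_mem _)
      have heq : zpowers b = zpowers a := eq_of_le_of_card_ge (zpowers_le.2 h) (by
        rw [Nat.card_zpowers, Nat.card_zpowers, orderOf_eq_prime (hE.2 b hb) hb1, orderOf_eq_prime (hE.2 a ha) ha1])
      have key : ∀ {c d : (P : Subgroup H)}, d ∈ zpowers c → fix (ι c) ≤ fix (ι d) := by
        intro c d hd w hw
        obtain ⟨n, rfl⟩ := mem_powers_iff_mem_zpowers.2 hd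
        rw [map_pow]
        exact fix_le_fix_pow _ n hw
      exact le_antisymm (key (heq ▸ mem_zpowers b)) (key (heq.symm ▸ mem_zpowers a))
    refine hfixE v fun e he => ?_
    rw [← hgenE ha hb ha1 hba] at he
    have hle : zpowers a ⊔ zpowers b ≤
        (MulAction.stabilizer (MulAut V) v).comap ι := sup_le (zpowers_le.2 hv) (zpowers_le.2 hv')
    exact hle he
  by_cases h13 : W₃ = W₁
  · subst h13
    refine Or.inr (hmeet W₃ hW₁ W₂ hW₂ h12 u₂ ?_ hu₂)
    simpa using W₃.mul_mem (W₃.inv_mem hu₁) h3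
  obtain ⟨a, ha, -, rfl⟩ := hBE W₁ hW₁
  left
  refine hqp u₁ ?_
  have hN1 : ∀ W ∈ B, W ≠ fix (ι a) → ∀ u ∈ W, ∏ i ∈ Finset.range p, (ι a ^ i) u = 1 := by
    intro W hW hne u hu
    refine hmeet W hW _ hW₁ hne _ ?_ (norm_fixed _ (hpow ha) u)
    obtain ⟨b, hb, -, rfl⟩ := hBE W hW
    refine Subgroup.prod_mem _ fun i _ => ?_
    show ι b ((ι a ^ i) u) = (ι a ^ i) u
    rw [← map_pow, ← MulAut.mul_apply, ← map_mul, ((hcomm hb ha).pow_right i).eq, map_mul, MulAut.mul_apply,
      mem_fix.1 hu]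
  have h5 := hN1 W₃ hW₃ h13 _ h3
  simp only [map_mul, Finset.prod_mul_distrib, hN1 W₂ hW₂ (Ne.symm h12) u₂ hu₂, mul_one] at h5
  rw [← h5]
  have : ∀ i : ℕ, (ι a ^ i) u₁ = u₁ := fun i => by
    induction i with
    | zero => simp
    | succ i ih => rw [pow_succ', MulAut.mul_apply, ih, mem_fix.1 hu₁]
  rw [Finset.prod_congr rfl fun i _ => this i, Finset.prod_const, Finset.card_range]

/-- A reducible subgroup of index two of a Sylow `2`-subgroup gives two blocks. -/
theorem isSolvable_of_two_blocks [hp : Fact p.Prime] (hp2 : p = 2) {H : Subgroup (MulAut V)} (P : Sylow p H)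
    (horb : OrbitPow p H) (hN : ∀ N : Subgroup H, N.Normal → N ≠ ⊤ → Group.IsSolvable N)
    (hirr : Irred ((P : Subgroup H).map H.subtype)) (M : Subgroup (MulAut V)) (x : MulAut V)
    (hMP : M ≤ (P : Subgroup H).map H.subtype) (hx : x ∈ (P : Subgroup H).map H.subtype)
    (hcov : ∀ g ∈ (P : Subgroup H).map H.subtype, g ∈ M ∨ x⁻¹ * g ∈ M)
    (hnorm : ∀ m ∈ M, x⁻¹ * m * x ∈ M) (hxx : x * x ∈ M) (hred : ¬ Irred M) : Group.IsSolvable H := by
  classical
  haveI : Finite (Subgroup V) := Finite.of_injective ((↑) : Subgroup V → Set V) SetLike.coe_injective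
  obtain ⟨W₀, ⟨hW₀, hW₀b, hW₀t⟩, hmin⟩ := (Set.toFinite {W : Subgroup V | IsInv M W ∧ W ≠ ⊥ ∧ W ≠ ⊤}).exists_minimal (by
    by_contra hemp
    refine hred fun W hW => ?_
    by_contra hcon
    push Not at hcon
    exact hemp ⟨W, hW, hcon.1, hcon.2⟩)
  set W₁ := W₀.map (x : V →* V) with hW₁
  have hW₁M : IsInv M W₁ := by
    rintro m hm _ ⟨w, hw, rfl⟩
    refine ⟨(x⁻¹ * m * x) w, hW₀ _ (hnorm m hm) w hw, ?_⟩
    show x ((x⁻¹ * m * x) w) = m (x w)
    simp
  have hx1 : W₁.map (x : V →* V) ≤ W₀ := by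
    rintro _ ⟨_, ⟨w, hw, rfl⟩, rfl⟩
    exact hW₀ _ hxx w hw
  have hinvP : ∀ W : Subgroup V, IsInv M W → W.map (x : V →* V) ≤ W → IsInv ((P : Subgroup H).map H.subtype) W := by
    intro W hWM hWx g hg w hw
    rcases hcov g hg with h | h
    · exact hWM g h w hw
    · have h1 := hWx ⟨_, hWM _ h w hw, rfl⟩
      simpa using h1
  have hbot : W₀ ⊓ W₁ = ⊥ := by
    by_contra hne
    have hinf : IsInv M (W₀ ⊓ W₁) := fun m hm w hw => ⟨hW₀ m hm w hw.1, hW₁M m hm w hw.2⟩
    have hle : W₀ ≤ W₀ ⊓ W₁ := hmin ⟨hinf, hne, fun h => hW₀t (top_le_iff.1 (h.ge.trans inf_le_left))⟩ inf_le_left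
    have heq : W₁ = W₀ := (eq_of_le_of_card_ge (hle.trans inf_le_right)
      (by rw [hW₁, card_map_of_injective x.injective])).symm
    rcases hirr W₀ (hinvP W₀ hW₀ (hW₁ ▸ heq.le)) with h | h
    · exact hW₀b h
    · exact hW₀t h
  have hne01 : W₀ ≠ W₁ := fun h => hW₀b (by rw [← hbot, ← h, inf_idem])
  let B : Set (Subgroup V) := {W₀, W₁}
  have hback : W₁.map (x : V →* V) = W₀ := eq_of_le_of_card_ge hx1
    (by rw [card_map_of_injective x.injective, hW₁, card_map_of_injective x.injective])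
  have hstab : ∀ m ∈ M, ∀ W : Subgroup V, IsInv M W → W.map ((m : MulAut V) : V →* V) = W := fun m hm W hW =>
    eq_of_le_of_card_ge (by rintro _ ⟨w, hw, rfl⟩; exact hW m hm w hw)
      (by rw [card_map_of_injective m.injective])
  have hmapP : ∀ g ∈ (P : Subgroup H).map H.subtype,
      (W₀.map (g : V →* V) = W₀ ∧ W₁.map (g : V →* V) = W₁) ∨
        (W₀.map (g : V →* V) = W₁ ∧ W₁.map (g : V →* V) = W₀) := by
    intro g hg
    rcases hcov g hg with h | h
    · exact Or.inl ⟨hstab g h W₀ hW₀, hstab g h W₁ hW₁M⟩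
    · right
      have hsplit : ∀ W : Subgroup V, W.map (g : V →* V) = (W.map ((x⁻¹ * g : MulAut V) : V →* V)).map (x : V →* V) :=
        fun W => by
          rw [Subgroup.map_map]
          congr 1
          exact MonoidHom.ext fun w => by simp
      exact ⟨by rw [hsplit, hstab _ h W₀ hW₀], by rw [hsplit, hstab _ h W₁ hW₁M, hback]⟩
  refine isSolvable_of_blocks P horb (fun h => absurd hp2 h) hN B ?_ ?_ ?_ ?_ ?_
  · rw [Nat.card_coe_set_eq, Set.ncard_pair hne01, hp2]
  · rintro W (rfl | rfl)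
    · exact hW₀b
    · exact fun h => hW₀b ((Subgroup.map_eq_bot_iff_of_injective _ x.injective).1 h)
  · rintro W₂ hW₂ W₃ hW₃ hne u₁ hu₁ u₂ hu₂ W₄ hW₄ h
    have hW : W₄ = W₂ ∨ W₄ = W₃ := by
      rcases hW₂ with rfl | rfl <;> rcases hW₃ with rfl | rfl <;> rcases hW₄ with rfl | rfl <;>
        first | exact absurd rfl hne | exact Or.inl rfl | exact Or.inr rfl
    have hdis : ∀ u ∈ W₂, u ∈ W₃ → u = 1 := fun u h2 h3 => mem_bot.1 (hbot.le (by
      rcases hW₂ with rfl | rfl <;> rcases hW₃ with rfl | rfl <;>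
        first | exact absurd rfl hne | exact ⟨h2, h3⟩ | exact ⟨h3, h2⟩))
    rcases hW with rfl | rfl
    · exact Or.inr (hdis u₂ (by simpa using W₄.mul_mem (W₄.inv_mem hu₁) h) hu₂)
    · exact Or.inl (hdis u₁ hu₁ (by simpa using W₄.mul_mem h (W₄.inv_mem hu₂)))
  · intro g hg W hW
    rcases hmapP (g : MulAut V) ⟨g, hg, rfl⟩ with ⟨h0, h1⟩ | ⟨h0, h1⟩ <;> rcases hW with rfl | rfl
    · exact Or.inl h0
    · exact Or.inr h1
    · exact Or.inr h0
    · exact Or.inl h1
  · obtain ⟨y, hy, rfl⟩ := hx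
    rintro W (rfl | rfl) W' (rfl | rfl)
    · exact ⟨1, one_mem _, Subgroup.map_id _⟩
    · exact ⟨y, hy, rfl⟩
    · exact ⟨y, hy, hback⟩
    · exact ⟨1, one_mem _, Subgroup.map_id _⟩

/-- A group of rank at most two all of whose orbits have `2`-power size is a `2`-group. -/
theorem isSolvable_of_le_sq [hq : Fact q.Prime] {H : Subgroup (MulAut V)}
    (horb : OrbitPow 2 H) (hexp : ∀ v : V, v ^ q = 1) (hcop : ¬ q ∣ Nat.card H)
    (hcard : Nat.card V ≤ q ^ 2) : Group.IsSolvable H := by
  classical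
  haveI : Fact (Nat.Prime 2) := ⟨Nat.prime_two⟩
  suffices h : ∀ l : ℕ, l.Prime → l ∣ Nat.card H → l = 2 by
    haveI := (IsPGroup.of_card (p := 2) (Nat.eq_prime_pow_of_unique_prime_dvd Nat.card_pos.ne'
      fun {d} hd hd' => h d hd hd')).isNilpotent
    infer_instance
  intro l hl hlH
  by_contra hl2
  haveI : Fact l.Prime := ⟨hl⟩
  obtain ⟨⟨g, hgH⟩, hg⟩ := exists_prime_orderOf_dvd_card' l hlH
  rw [Subgroup.orderOf_mk] at hg
  have hgl : g ^ l = 1 := by rw [← hg, pow_orderOf_eq_one]
  have hg1 : g ≠ 1 := fun h => hl.one_lt.ne (by rw [← hg, h, orderOf_one])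
  -- every point is fixed by a conjugate of `g`
  obtain ⟨v₁, hv₁⟩ : ∃ v : V, v ≠ 1 := by
    by_contra h
    push Not at h
    exact hg1 (MulEquiv.ext fun v => by rw [h v]; simp)
  obtain ⟨L, hL⟩ := (IsPGroup.of_card (p := l) (n := 1) (by
    rw [Nat.card_zpowers, Subgroup.orderOf_mk, hg, pow_one]) : IsPGroup l (zpowers (⟨g, hgH⟩ : H))).exists_le_sylow
  set S := MulAction.stabilizer H v₁ with hS
  obtain ⟨a, ha⟩ := horb v₁
  obtain ⟨Q⟩ : Nonempty (Sylow l S) := inferInstance
  have hQ : ¬ l ∣ ((Q : Subgroup S).map S.subtype).index := by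
    rw [index_map_subtype, hl.dvd_mul, not_or]
    refine ⟨Q.not_dvd_index, ?_⟩
    rw [ha]
    exact fun hd => hl2 ((Nat.prime_dvd_prime_iff_eq hl Nat.prime_two).1 (hl.dvd_of_dvd_pow hd))
  obtain ⟨y, hy⟩ := MulAction.exists_smul_eq H L ((Q.2.map S.subtype).toSylow hQ)
  have hfix : ∀ u ∈ (L : Subgroup H), ((y * u * y⁻¹ : H) : MulAut V) v₁ = v₁ := by
    intro u hu
    have h1 : y * u * y⁻¹ ∈ ((y • L : Sylow l H) : Subgroup H) := by
      rw [Sylow.coe_subgroup_smul]
      exact smul_mem_pointwise_smul u (MulAut.conj y) _ hu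
    rw [hy] at h1
    exact (map_subtype_le (Q : Subgroup S)) h1
  set v₀ := ((y⁻¹ : H) : MulAut V) v₁ with hv₀
  have hv₀1 : v₀ ≠ 1 := fun h => hv₁ (((y⁻¹ : H) : MulAut V).injective (h.trans (map_one _).symm))
  have hgv₀ : g v₀ = v₀ := by
    have h1 := congrArg ((y⁻¹ : H) : MulAut V) (hfix _ (hL (mem_zpowers _)))
    rw [← MulAut.mul_apply, ← Subgroup.coe_mul, show y⁻¹ * (y * (⟨g, hgH⟩ : H) * y⁻¹) = ⟨g, hgH⟩ * y⁻¹ by group,
      Subgroup.coe_mul, MulAut.mul_apply] at h1
    exact h1
  have hgen : ∀ u : V, u ≠ 1 → ∀ v : V, v ∉ zpowers u → zpowers u ⊔ zpowers v = ⊤ := by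
    intro u hu v hv
    refine eq_top_of_le_card _ (hcard.trans ?_)
    obtain ⟨k, hk⟩ := IsPGroup.iff_card.1
      ((show IsPGroup q V from fun w => ⟨1, by rw [pow_one]; exact hexp w⟩).to_subgroup (zpowers u ⊔ zpowers v))
    have hou : Nat.card (zpowers u) = q := by rw [Nat.card_zpowers, orderOf_eq_prime (hexp u) hu]
    have h2 : q < Nat.card ↥(zpowers u ⊔ zpowers v) := by
      refine lt_of_le_of_ne (hou.ge.trans (Subgroup.card_le_of_le le_sup_left)) fun he => hv ?_
      exact (eq_of_le_of_card_ge le_sup_left (by rw [← he, hou])).ge (mem_sup_right (mem_zpowers v))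
    rw [hk] at h2 ⊢
    refine Nat.pow_le_pow_right hq.out.pos ?_
    rcases Nat.lt_or_ge k 2 with h | h
    · exact absurd h2 (not_lt.2 (by simpa using Nat.pow_le_pow_right hq.out.pos (show k ≤ 1 by omega)))
    · exact h
  have hext : ∀ e : MulAut V, ∀ u v : V, zpowers u ⊔ zpowers v = ⊤ → e u = u → e v = v → e = 1 := by
    intro e u v h hu hv
    refine MulEquiv.ext fun w => ?_
    have hle : zpowers u ⊔ zpowers v ≤ fix e := sup_le (zpowers_le.2 hu) (zpowers_le.2 hv)
    exact hle (h ▸ mem_top w)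
  obtain ⟨v, hv⟩ : ∃ v, v ∉ zpowers v₀ := by
    by_contra hcon
    push Not at hcon
    refine hg1 (MulEquiv.ext fun w => ?_)
    obtain ⟨i, rfl⟩ := mem_zpowers_iff.1 (hcon w)
    rw [map_zpow, hgv₀, MulAut.one_apply]
  have htop := hgen v₀ hv₀1 v hv
  obtain ⟨_, ⟨i, rfl⟩, _, ⟨c, rfl⟩, hic⟩ := mem_sup.1 (htop.symm ▸ mem_top (g v) : g v ∈ zpowers v₀ ⊔ zpowers v)
  set w := g v * v⁻¹ with hw
  have hlq : l ≠ q := fun h => hcop (h ▸ hlH)
  have hwv : w ∉ zpowers v₀ := by
    rintro ⟨j, hj⟩
    refine hg1 (hext g v₀ v htop hgv₀ ?_)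
    have hgj : g v = w * v := (inv_mul_cancel_right _ _).symm
    have hgw : g w = w := by rw [← hj, map_zpow, hgv₀]
    have hpow : ∀ n : ℕ, (g ^ n) v = w ^ n * v := by
      intro n
      induction n with
      | zero => simp
      | succ n ih => rw [pow_succ', MulAut.mul_apply, ih, map_mul, map_pow, hgw, hgj, ← mul_assoc, ← pow_succ]
    have h1 := hpow l
    rw [hgl, MulAut.one_apply] at h1
    have h2 : w = 1 := by
      rw [← orderOf_eq_one_iff]
      exact Nat.eq_one_of_dvd_coprimes ((Nat.coprime_primes hl hq.out).2 hlq)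
        (orderOf_dvd_of_pow_eq_one (mul_eq_right.1 h1.symm)) (orderOf_dvd_of_pow_eq_one (hexp w))
    rw [hgj, h2, one_mul]
  have hgw : g w = w ^ c := by
    have e1 : g v = v₀ ^ i * v ^ c := hic.symm
    rw [hw, map_mul, map_inv]
    conv_lhs => arg 1; rw [e1, map_mul, map_zpow, map_zpow, hgv₀]
    rw [mul_zpow, inv_zpow, e1, mul_zpow]
    simp only [mul_inv_rev]
    rw [mul_assoc, mul_comm (v₀ ^ i), ← mul_assoc]
    simp [mul_comm, mul_left_comm]
  -- `g` moves `w` inside its line, of index prime to `l`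
  set Λ := zpowers w with hΛ
  have hgΛ : ∀ u ∈ Λ, g u ∈ Λ := by
    rintro _ ⟨j, rfl⟩
    show g (w ^ j) ∈ Λ
    rw [map_zpow, hgw]
    exact zpow_mem (zpow_mem (mem_zpowers w) c) j
  let M : Subgroup H :=
    { carrier := {h | Λ.map ((h : MulAut V) : V →* V) = Λ}
      one_mem' := Subgroup.map_id Λ
      mul_mem' := fun {a b} ha hb => by
        show Λ.map _ = Λ
        conv_rhs => rw [← (show Λ.map _ = Λ from ha), ← (show Λ.map _ = Λ from hb), Subgroup.map_map]
        rfl
      inv_mem' := fun {a} ha => by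
        show Λ.map _ = Λ
        conv_lhs => rw [← (show Λ.map _ = Λ from ha), Subgroup.map_map]
        convert Subgroup.map_id Λ using 2
        exact MonoidHom.ext fun u => by simp }
  have hgM : (⟨g, hgH⟩ : H) ∈ M := eq_of_le_of_card_ge (by rintro _ ⟨u, hu, rfl⟩; exact hgΛ u hu)
    (by rw [card_map_of_injective (MulEquiv.injective _)])
  have hmM : ∀ h ∈ M, ∀ u ∈ Λ, (h : MulAut V) u ∈ Λ := fun h hh u hu => (show Λ.map _ = Λ from hh) ▸ ⟨u, hu, rfl⟩
  obtain ⟨b, hb⟩ := horb w
  have hSM : MulAction.stabilizer H w ≤ M := by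
    intro h hh
    refine eq_of_le_of_card_ge ?_ (by rw [card_map_of_injective (MulEquiv.injective _)])
    rintro _ ⟨_, ⟨j, rfl⟩, rfl⟩
    show (h : MulAut V) (w ^ j) ∈ Λ
    rw [map_zpow, show (h : MulAut V) w = w from hh]
    exact zpow_mem (mem_zpowers w) j
  -- the stabilizer of `w` is normal in the stabilizer of its line
  haveI : ((MulAction.stabilizer H w).subgroupOf M).Normal := by
    refine ⟨fun s hs m => ?_⟩
    rw [mem_subgroupOf, MulAction.mem_stabilizer_iff] at hs ⊢
    show (((m : H) * (s : H) * (m : H)⁻¹ : H) : MulAut V) w = w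
    obtain ⟨j, hj⟩ := mem_zpowers_iff.1 (hmM _ (m⁻¹).2 w (mem_zpowers w))
    have hs' : ((s : H) : MulAut V) w = w := hs
    rw [Subgroup.coe_mul, Subgroup.coe_mul, MulAut.mul_apply, MulAut.mul_apply,
      show (((m : H)⁻¹ : H) : MulAut V) w = w ^ j from hj.symm, map_zpow, hs', hj, ← MulAut.mul_apply,
      ← Subgroup.coe_mul]
    simp
  have hgS : (⟨g, hgH⟩ : H) ∉ MulAction.stabilizer H w := fun h =>
    hg1 (hext g v₀ w (hgen v₀ hv₀1 w hwv) hgv₀ h)
  let π := QuotientGroup.mk' ((MulAction.stabilizer H w).subgroupOf M)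
  have hπ1 : π ⟨_, hgM⟩ ≠ 1 := fun h => hgS (mem_subgroupOf.1 ((QuotientGroup.eq_one_iff _).1 h))
  have hord : orderOf (π ⟨_, hgM⟩) = l := orderOf_eq_prime (by
    rw [← map_pow, show (⟨⟨g, hgH⟩, hgM⟩ : M) ^ l = 1 from Subtype.ext (Subtype.ext (by simpa using hgl)), map_one])
    hπ1
  have h1 : l ∣ (MulAction.stabilizer H w).relIndex M := by
    rw [relIndex, index_eq_card, ← hord]
    exact orderOf_dvd_natCard _
  have h2 := h1.trans (Dvd.intro _ (relIndex_mul_index hSM))
  rw [hb] at h2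
  exact hl2 ((Nat.prime_dvd_prime_iff_eq hl Nat.prime_two).1 (hl.dvd_of_dvd_pow h2))

/-- Restriction to an invariant subgroup. -/
def restrictHom (H : Subgroup (MulAut V)) (W : Subgroup V) (hW : IsInv H W) : H →* MulAut W :=
  MonoidHom.mk'
    (fun h =>
      { toFun := fun w => ⟨(h : MulAut V) w, hW h h.2 w w.2⟩
        invFun := fun w => ⟨((h⁻¹ : H) : MulAut V) w, hW _ (h⁻¹).2 w w.2⟩
        left_inv := fun w => Subtype.ext (by simp)
        right_inv := fun w => Subtype.ext (by simp)
        map_mul' := fun a b => Subtype.ext (map_mul (h : MulAut V) (a : V) (b : V)) })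
    fun _ _ => MulEquiv.ext fun _ => Subtype.ext rfl

theorem le_comap_of_isInv {H : Subgroup (MulAut V)} {W : Subgroup V} (hW : IsInv H W) (h : H) :
    W ≤ W.comap ((h : MulAut V) : V →* V) := fun w hw => hW h h.2 w hw

/-- The action on the factor group of an invariant subgroup. -/
def quotientHom (H : Subgroup (MulAut V)) (W : Subgroup V) (hW : IsInv H W) : H →* MulAut (V ⧸ W) :=
  MonoidHom.mk'
    (fun h =>
      { toFun := QuotientGroup.map W W ((h : MulAut V) : V →* V) (le_comap_of_isInv hW h)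
        invFun := QuotientGroup.map W W (((h⁻¹ : H) : MulAut V) : V →* V) (le_comap_of_isInv hW h⁻¹)
        left_inv := fun x => by
          induction x using QuotientGroup.induction_on with
          | H v => simp
        right_inv := fun x => by
          induction x using QuotientGroup.induction_on with
          | H v => simp
        map_mul' := map_mul _ })
    fun _ _ => MulEquiv.ext fun x => by
      induction x using QuotientGroup.induction_on with
      | H v => rfl

theorem isInv_zpowers (g : MulAut V) {W : Subgroup V} (hg : ∀ w ∈ W, g w ∈ W) : IsInv (zpowers g) W := by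
  intro m hm
  obtain ⟨n, rfl⟩ := mem_powers_iff_mem_zpowers.2 hm
  induction n with
  | zero => intro w hw; simpa using hw
  | succ n ih =>
    intro w hw
    show (g ^ (n + 1)) w ∈ W
    rw [pow_succ', MulAut.mul_apply]
    exact hg _ (ih (pow_mem (mem_zpowers g) n) w hw)

/-- Automorphisms as endomorphisms of the additive group. -/
def toEnd : MulAut V →* AddMonoid.End (Additive V) where
  toFun e := MonoidHom.toAdditive (e : V →* V)
  map_one' := rfl
  map_mul' _ _ := rfl

theorem toEnd_injective : Function.Injective (toEnd : MulAut V →* AddMonoid.End (Additive V)) := fun a b h =>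
  MulEquiv.ext fun v =>
    congrArg Additive.toMul (congrArg (fun f : AddMonoid.End (Additive V) => f (Additive.ofMul v)) h)

theorem isIrred_toEnd {g : MulAut V} (hirr : Irred (zpowers g)) : SemilinearBound.IsIrred (toEnd g) := by
  intro W hW
  rcases hirr (AddSubgroup.toSubgroup' W) (isInv_zpowers g fun w hw => hW (Additive.ofMul w) hw) with h | h
  · exact Or.inl ((map_eq_bot_iff (AddSubgroup.toSubgroup' (G := V))).1 h)
  · exact Or.inr ((map_eq_top_iff (AddSubgroup.toSubgroup' (G := V))).1 h)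

/-- A coprime linear group all of whose orbits have `p`-power size is solvable. -/
theorem isSolvable_aux [hp : Fact p.Prime] [hq : Fact q.Prime] (hpq : p ≠ q) :
    ∀ (n : ℕ) (V : Type u) [CommGroup V] [Finite V] (H : Subgroup (MulAut V)),
      Nat.card V + Nat.card H ≤ n → IsPGroup q V → OrbitPow p H → ¬ q ∣ Nat.card H → Group.IsSolvable H := by
  intro n
  induction n with
  | zero =>
    intro V _ _ H h
    have := Nat.card_pos (α := V)
    omega
  | succ n IH =>
    intro V _ _ H hn hV horb hcop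
    classical
    -- normal subgroups by induction
    have hN : ∀ N : Subgroup H, N.Normal → N ≠ ⊤ → Group.IsSolvable N := by
      intro N hNn hNt
      have hc : Nat.card (N.map H.subtype) = Nat.card N :=
        (Nat.card_congr (N.equivMapOfInjective _ H.subtype_injective).toEquiv).symm
      have hlt : Nat.card N < Nat.card H :=
        lt_of_le_of_ne (card_le_card_group N) fun e => hNt ((card_eq_iff_eq_top N).1 e)
      have horb' : OrbitPow p (N.map H.subtype) := by
        intro v
        obtain ⟨a, ha⟩ := horb v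
        have h1 : MulAction.orbit (N.map H.subtype) v = MulAction.orbit N v := by
          ext x
          constructor
          · rintro ⟨⟨_, m, hm, rfl⟩, rfl⟩; exact ⟨⟨m, hm⟩, rfl⟩
          · rintro ⟨m, rfl⟩; exact ⟨⟨_, m, m.2, rfl⟩, rfl⟩
        have h2 : (MulAction.stabilizer (N.map H.subtype) v).index = (MulAction.stabilizer H v).relIndex N := by
          rw [MulAction.index_stabilizer, h1, ← MulAction.index_stabilizer]
          rfl
        have h3 : (MulAction.stabilizer H v).relIndex N ∣ (MulAction.stabilizer H v).index := by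
          haveI := hNn
          set S := MulAction.stabilizer H v
          have e1 := card_mul_index S
          have e2 := card_mul_index (S ⊓ N)
          have e3 : (S ⊓ N).relIndex N * N.index = (S ⊓ N).index := relIndex_mul_index inf_le_right
          have e4 : N.relIndex S * S.index = (S ⊓ N).index := by
            rw [← inf_relIndex_right N S, inf_comm N S]; exact relIndex_mul_index inf_le_left
          obtain ⟨d, hd⟩ := relIndex_dvd_index_of_normal N S
          rw [inf_relIndex_right] at e3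
          refine ⟨d, Nat.eq_of_mul_eq_mul_left
            (Nat.pos_of_ne_zero (fun h0 => by rw [h0, zero_mul] at e4; exact index_ne_zero_of_finite e4.symm) :
              0 < N.relIndex S) ?_⟩
          rw [e4, ← e3, hd]
          ring
        obtain ⟨b, -, hb⟩ := (Nat.dvd_prime_pow hp.out).1 (ha ▸ h2 ▸ h3)
        exact ⟨b, hb⟩
      haveI := IH V (N.map H.subtype) (by omega) hV horb'
        (fun h => hcop (h.trans (hc ▸ card_subgroup_dvd_card N)))
      exact Group.isSolvable_of_surjective (f := (N.equivMapOfInjective _ H.subtype_injective).symm.toMonoidHom)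
        (N.equivMapOfInjective _ H.subtype_injective).symm.surjective
    -- an invariant subgroup
    by_cases hirrH : Irred H
    swap
    · simp only [Irred, not_forall, not_or] at hirrH
      obtain ⟨W, hW, hWb, hWt⟩ := hirrH
      haveI h1 : Group.IsSolvable (restrictHom H W hW).range := by
        refine IH W _ ?_ (hV.to_subgroup W) (orbitPow_of_hom horb _ fun w => ⟨w, fun h hh => Subtype.ext hh⟩)
          (fun h => hcop (h.trans (card_range_dvd _)))
        have hlt : Nat.card W < Nat.card V :=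
          lt_of_le_of_ne (card_le_card_group W) fun e => hWt ((card_eq_iff_eq_top W).1 e)
        have := Nat.le_of_dvd Nat.card_pos (card_range_dvd (restrictHom H W hW))
        omega
      haveI h2 : Group.IsSolvable (quotientHom H W hW).range := by
        refine IH (V ⧸ W) _ ?_ (hV.to_quotient W) (orbitPow_of_hom horb _ fun x => ?_)
          (fun h => hcop (h.trans (card_range_dvd _)))
        · have hlt : Nat.card (V ⧸ W) < Nat.card V := by
            rw [← index_eq_card]
            have := card_mul_index W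
            have hW1 : 1 < Nat.card W := (one_lt_card_iff_ne_bot W).2 hWb
            have hi : 0 < W.index := Nat.pos_of_ne_zero index_ne_zero_of_finite
            nlinarith
          have := Nat.le_of_dvd Nat.card_pos (card_range_dvd (quotientHom H W hW))
          omega
        · obtain ⟨v, rfl⟩ := QuotientGroup.mk_surjective x
          exact ⟨v, fun h hh => congrArg (QuotientGroup.mk (s := W)) hh⟩
      refine Group.isSolvable_of_isSolvable_injective
        (f := (restrictHom H W hW).rangeRestrict.prod (quotientHom H W hW).rangeRestrict) ?_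
      rw [injective_iff_map_eq_one]
      intro h hh
      have hr : restrictHom H W hW h = 1 := congrArg Subtype.val (congrArg Prod.fst hh)
      have hs : quotientHom H W hW h = 1 := congrArg Subtype.val (congrArg Prod.snd hh)
      have hfixW : ∀ w ∈ W, (h : MulAut V) w = w := fun w hw =>
        congrArg Subtype.val (DFunLike.congr_fun hr (⟨w, hw⟩ : W))
      refine Subtype.ext (MulEquiv.ext fun v => ?_)
      set w := (h : MulAut V) v * v⁻¹ with hw
      have hwW : w ∈ W := by
        have e : QuotientGroup.mk (s := W) ((h : MulAut V) v) = QuotientGroup.mk v :=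
          DFunLike.congr_fun hs (QuotientGroup.mk v)
        have := QuotientGroup.eq.1 e.symm
        rwa [mul_comm] at this
      have hv : (h : MulAut V) v = w * v := (inv_mul_cancel_right _ _).symm
      have hpow : ∀ m : ℕ, ((h : MulAut V) ^ m) v = w ^ m * v := by
        intro m
        induction m with
        | zero => simp
        | succ m ih => rw [pow_succ', MulAut.mul_apply, ih, map_mul, map_pow, hfixW w hwW, hv, ← mul_assoc, ← pow_succ]
      have h3 := hpow (Nat.card H)
      rw [← Subgroup.coe_pow, pow_card_eq_one', Subgroup.coe_one, MulAut.one_apply] at h3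
      obtain ⟨j, hj⟩ := hV w
      have : w = 1 := by
        rw [← orderOf_eq_one_iff]
        exact Nat.eq_one_of_dvd_coprimes (((Nat.Prime.coprime_iff_not_dvd hq.out).2 hcop).pow_left j).symm
          (orderOf_dvd_of_pow_eq_one (mul_eq_right.1 h3.symm)) (orderOf_dvd_of_pow_eq_one hj)
      rw [hv, this, one_mul]
      rfl
    -- the irreducible case
    rcases subsingleton_or_nontrivial V with hsub | hnt
    · haveI : Subsingleton H := ⟨fun a b => Subtype.ext (MulEquiv.ext fun v => Subsingleton.elim _ _)⟩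
      infer_instance
    have hexp : ∀ v : V, v ^ q = 1 := by
      let W : Subgroup V := (powMonoidHom q : V →* V).ker
      rcases hirrH W (fun g _ w hw => by
        show (g w) ^ q = 1
        rw [← map_pow, show w ^ q = 1 from hw, map_one]) with h | h
      · exfalso
        obtain ⟨m, hm⟩ := IsPGroup.iff_card.1 hV
        have h1 : 1 < Nat.card V := Finite.one_lt_card
        obtain ⟨v, hv⟩ := exists_prime_orderOf_dvd_card' (G := V) q (hm ▸ dvd_pow_self q (by
          rintro rfl; simp at hm; omega))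
        have : v = 1 := mem_bot.1 (h.le (show v ^ q = 1 by rw [← hv, pow_orderOf_eq_one]))
        rw [this, orderOf_one] at hv
        exact hq.out.one_lt.ne hv
      · exact fun v => (h ▸ mem_top v : v ∈ W)
    obtain ⟨r, hr⟩ := IsPGroup.iff_card.1 hV
    obtain ⟨P⟩ : Nonempty (Sylow p H) := inferInstance
    set PV := (P : Subgroup H).map H.subtype with hPV
    have hirr : Irred PV := fun W hW => hirrH W fun g hg w hw => by
      obtain ⟨m, hm, he⟩ := orbit_eq horb P w ⟨g, hg⟩
      exact he ▸ hW _ ⟨m, hm, rfl⟩ w hw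
    have hodd : p ≠ 2 → Odd (Nat.card H) := odd_card horb hV hcop
    by_cases hE : ∃ E : Subgroup (P : Subgroup H), E.Normal ∧ Cfsg.IsElementaryAbelian p E ∧ Nat.card E = p ^ 2
    · obtain ⟨E, hEn, hEA, hEc⟩ := hE
      exact isSolvable_of_normal_sq P horb hV hpq hodd hN hirr E hEn hEA hEc
    obtain ⟨a, han, hcase⟩ := PGroup.NormalSq.cyclic_or_three_mod_four P.2 hE
    let ι : (P : Subgroup H) →* MulAut V := H.subtype.comp (P : Subgroup H).subtype
    have hι : Function.Injective ι := H.subtype_injective.comp (P : Subgroup H).subtype_injective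
    have hPmem : ∀ g ∈ PV, ∃ x : (P : Subgroup H), ι x = g := by
      rintro _ ⟨y, hy, rfl⟩; exact ⟨⟨y, hy⟩, rfl⟩
    have hιmem : ∀ x : (P : Subgroup H), ι x ∈ PV := fun x => ⟨x.1, x.2, rfl⟩
    by_cases hp2 : p = 2
    · have hq2 : q ≠ 2 := fun h => hpq (hp2.trans h.symm)
      have hA : Nat.card (Additive V) = q ^ r := (Nat.card_congr Additive.toMul).trans hr
      have hexpA : ∀ w : Additive V, q • w = 0 := fun w => congrArg Additive.ofMul (hexp w.toMul)
      have hord : ∀ x : (P : Subgroup H), orderOf (toEnd (ι x)) = orderOf x := fun x => by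
        rw [orderOf_injective toEnd toEnd_injective, orderOf_injective ι hι]
      obtain ⟨m, hm⟩ : ∃ m, orderOf a = 2 ^ m := by
        obtain ⟨m, hm⟩ := IsPGroup.iff_orderOf.1 P.2 a
        exact ⟨m, by rw [hm, hp2]⟩
      have hfin : r ≤ 2 → Group.IsSolvable H := fun h2 => by
        subst hp2
        refine isSolvable_of_le_sq horb hexp hcop ?_
        rw [hr]
        exact Nat.pow_le_pow_right hq.out.pos h2
      rcases hcase with htop | ⟨-, x, k, hxa, hk, hxx, h4, hidx⟩
      · by_cases hM : Irred (zpowers (ι a * ι a))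
        · refine hfin (SemilinearBound.card_le_sq_of_sq_irred (α := toEnd (ι a)) hexpA (hq.out.odd_of_ne_two hq2) hA
            (m := m) ((hord a).trans hm) (by rw [sq, ← map_mul]; exact isIrred_toEnd hM))
        · refine isSolvable_of_two_blocks hp2 P horb hN hirr (zpowers (ι a * ι a)) (ι a)
            (zpowers_le.2 (PV.mul_mem (hιmem a) (hιmem a))) (hιmem a) ?_ ?_ (mem_zpowers _) hM
          · intro g hg
            obtain ⟨y, rfl⟩ := hPmem g hg
            obtain ⟨i, rfl⟩ := mem_zpowers_iff.1 (show y ∈ zpowers a from htop ▸ mem_top _)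
            rw [map_zpow]
            rcases Int.even_or_odd i with ⟨j, rfl⟩ | ⟨j, rfl⟩
            · exact Or.inl ⟨j, by show (ι a * ι a) ^ j = _; rw [(Commute.refl (ι a)).mul_zpow, ← zpow_add]⟩
            · refine Or.inr ⟨j, ?_⟩
              show (ι a * ι a) ^ j = _
              rw [(Commute.refl (ι a)).mul_zpow, ← zpow_add, ← zpow_neg_one, ← zpow_add]
              congr 1
              ring
          · rintro _ ⟨j, rfl⟩
            refine ⟨j, ?_⟩
            have hc : Commute ((ι a * ι a) ^ j) (ι a) := ((Commute.refl (ι a)).mul_left (Commute.refl _)).zpow_left j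
            show _ = (ι a)⁻¹ * _ * ι a
            rw [mul_assoc, hc.eq, inv_mul_cancel_left]
      · by_cases hM : Irred (zpowers (ι a))
        · refine hfin ?_
          have hpos : 0 < orderOf a := orderOf_pos a
          set k' := (k % (orderOf a : ℤ)).toNat with hk'
          have hk'k : (k' : ℤ) = k % (orderOf a : ℤ) :=
            Int.toNat_of_nonneg (Int.emod_nonneg _ (by exact_mod_cast hpos.ne'))
          have hak : a ^ k' = a ^ k := by rw [← zpow_natCast, hk'k, zpow_mod_orderOf]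
          have hk4 : k' % 4 = 3 := by
            have h1 : (k % (orderOf a : ℤ)) % 4 = k % 4 := Int.emod_emod_of_dvd k (by exact_mod_cast h4)
            rw [← hk'k] at h1
            omega
          refine SemilinearBound.card_le_sq_of_twist (α := toEnd (ι a)) hexpA hA ((hord a).trans hm) ?_
            (isIrred_toEnd hM) (toEnd (ι x)) (toEnd (ι x⁻¹)) ?_ ?_ (k := k') ?_ ?_ hk4
          · by_contra hlt
            have h5 : 4 ∣ 2 ^ m := hm ▸ h4
            interval_cases m <;> norm_num at h5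
          · rw [← map_mul, ← map_mul, inv_mul_cancel, map_one, map_one]
          · rw [← map_mul, ← map_mul, mul_inv_cancel, map_one, map_one]
          · rw [← map_mul, ← map_mul, ← map_mul, ← map_mul, ← map_pow, ← map_pow, hak, hxa]
          · rw [← map_pow, ← map_pow, ← map_mul, ← map_mul, ← map_mul, ← map_mul, hak, ← hxa]
            congr 2
            have e := hxx.eq
            calc x * (x * a * x⁻¹) * x⁻¹ = x * x * a * (x * x)⁻¹ := by group
              _ = a := by rw [e, mul_inv_cancel_right]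
        · have hxn : x ∉ zpowers a := by
            rintro hx
            obtain ⟨i, rfl⟩ := mem_zpowers_iff.1 hx
            rw [← zpow_neg, ← zpow_add_one, ← zpow_add, show i + 1 + -i = (1 : ℤ) by ring] at hxa
            have h1 : a ^ (k - 1) = 1 := by rw [zpow_sub, ← hxa, mul_inv_cancel]
            have h2 : (4 : ℤ) ∣ k - 1 :=
              (Int.natCast_dvd_natCast.2 h4).trans (orderOf_dvd_iff_zpow_eq_one.2 h1)
            omega
          refine isSolvable_of_two_blocks hp2 P horb hN hirr (zpowers (ι a)) (ι x)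
            (zpowers_le.2 (hιmem a)) (hιmem x) ?_ ?_ ?_ hM
          · intro g hg
            obtain ⟨y, rfl⟩ := hPmem g hg
            rw [← map_inv, ← map_mul, ← MonoidHom.map_zpowers]
            by_cases hy : y ∈ zpowers a
            · exact Or.inl (mem_map_of_mem ι hy)
            · refine Or.inr (mem_map_of_mem ι ((mul_mem_iff_of_index_two hidx).2 ?_))
              simp [hxn, hy]
          · rw [← MonoidHom.map_zpowers]
            rintro _ ⟨b, hb, rfl⟩
            refine ⟨x⁻¹ * b * x, ?_, by simp⟩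
            simpa using han.conj_mem b hb x⁻¹
          · rw [← MonoidHom.map_zpowers, ← map_mul]
            exact mem_map_of_mem ι (mul_self_mem_of_index_two hidx x)
    · -- odd `p`: the Sylow subgroup is cyclic
      have htop : zpowers a = ⊤ := hcase.resolve_right fun h => hp2 h.1
      obtain ⟨v, hv⟩ := exists_ne (1 : V)
      let O := MulAction.orbit H v
      haveI : Finite O := Subtype.finite
      let θ : H →* Equiv.Perm O := MulAction.toPermHom H O
      have hθ : Function.Injective θ := by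
        rw [injective_iff_map_eq_one]
        intro h hh
        have hfix : ∀ y ∈ O, (h : MulAut V) y = y := fun y hy =>
          congrArg Subtype.val (Equiv.congr_fun hh ⟨y, hy⟩)
        have hgen : closure O = ⊤ := by
          refine (hirrH _ fun g hg => ?_).resolve_left fun hb =>
            hv (mem_bot.1 (hb.le (subset_closure (MulAction.mem_orbit_self v))))
          have hle : closure O ≤ (closure O).comap (g : V →* V) := (closure_le _).2 fun y hy =>
            subset_closure (MulAction.mem_orbit_of_mem_orbit (⟨g, hg⟩ : H) hy)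
          exact fun w hw => hle hw
        refine Subtype.ext (MulEquiv.ext fun w => ?_)
        exact ((closure_le (fix (h : MulAut V))).2 hfix) (hgen ▸ mem_top w)
      obtain ⟨e, he⟩ := horb v
      haveI : Group.IsSolvable θ.range := by
        refine Perm.OddCyclic.isSolvable_of_regular_cyclic p e O θ.range
          ((hodd hp2).of_dvd_nat (card_range_dvd θ)) (θ (a : H)) ⟨_, rfl⟩ ?_ ?_
        · rintro ⟨y₁, hy₁⟩ ⟨y₂, hy₂⟩
          obtain ⟨h₁, rfl⟩ := hy₁
          obtain ⟨h₂, rfl⟩ := hy₂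
          obtain ⟨g, hg, hge⟩ := orbit_eq horb P ((h₁ : MulAut V) v) (h₂ * h₁⁻¹)
          obtain ⟨i, hi⟩ := mem_zpowers_iff.1 (show (⟨g, hg⟩ : (P : Subgroup H)) ∈ zpowers a from htop ▸ mem_top _)
          refine ⟨i, ?_⟩
          rw [← map_zpow]
          refine Subtype.ext ?_
          show (((a : H) ^ i : H) : MulAut V) ((h₁ : MulAut V) v) = (h₂ : MulAut V) v
          rw [← SubgroupClass.coe_zpow, hi, hge]
          simp
        · rw [Nat.card_coe_set_eq, ← MulAction.index_stabilizer, he]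
      exact Group.isSolvable_of_isSolvable_injective (f := θ.rangeRestrict)
        fun x y hxy => hθ (congrArg Subtype.val hxy)

/-- A coprime operator group on a normal abelian `q`-subgroup with `p`-power orbits is solvable. -/
theorem isSolvable_of_ambient [hp : Fact p.Prime] [hq : Fact q.Prime] (hpq : p ≠ q) {G : Type u} [Group G] [Finite G]
    (M H : Subgroup G) [hMc : IsMulCommutative M] (hHM : H ≤ normalizer (M : Set G)) (hM : IsPGroup q M)
    (hfaith : H ⊓ centralizer (M : Set G) = ⊥) (hcop : ¬ q ∣ Nat.card H)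
    (horb : ∀ v ∈ M, ∃ a : ℕ, (centralizer ({v} : Set G)).relIndex H = p ^ a) : Group.IsSolvable H := by
  let f : H →* MulAut M := M.normalizerMonoidHom.comp (inclusion hHM)
  have hf : Function.Injective f := by
    rw [injective_iff_map_eq_one]
    intro h hh
    have h1 : inclusion hHM h ∈ M.normalizerMonoidHom.ker := hh
    rw [normalizerMonoidHom_ker, mem_subgroupOf] at h1
    exact Subtype.ext (mem_bot.1 (hfaith.le ⟨h.2, h1⟩))
  letI : CommGroup M := { (inferInstance : Group M) with mul_comm := hMc.is_comm.comm }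
  have horb' : OrbitPow (V := M) p f.range := fun v => by
    obtain ⟨a, ha⟩ := horb v v.2
    have h1 : ((centralizer ({(v : G)} : Set G)).subgroupOf H).map f.rangeRestrict
        ≤ MulAction.stabilizer f.range v := by
      rintro _ ⟨h, hh, rfl⟩
      refine Subtype.ext ?_
      have hc := mem_centralizer_singleton_iff.1 (mem_subgroupOf.1 hh)
      show (h : G) * v * (h : G)⁻¹ = v
      rw [mul_inv_eq_iff_eq_mul]
      exact hc
    have h2 : (MulAction.stabilizer f.range v).index ∣ p ^ a :=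
      ha ▸ (index_dvd_of_le h1).trans (index_map_dvd _ f.rangeRestrict_surjective)
    obtain ⟨b, -, hb⟩ := (Nat.dvd_prime_pow hp.out).1 h2
    exact ⟨b, hb⟩
  haveI : Group.IsSolvable f.range := isSolvable_aux hpq _ M _ le_rfl hM horb'
    (fun h => hcop (h.trans (card_range_dvd f)))
  exact Group.isSolvable_of_isSolvable_injective (f := f.rangeRestrict) fun a b h => hf (congrArg Subtype.val h)

end Cfsg.Lib.Solv.PowerOrbits
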