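import Cfsg.Agent.Lib.Solv.SchmidtField
import Cfsg.Agent.Lib.Solv.Schmidt
import Cfsg.Agent.Lib.Thompson.FixedPointFree
import Cfsg.Agent.Lib.PGroup.Basic
import Cfsg.Agent.Lib.Fusion.Alperin
import Cfsg.Agent.S0132
import Mathlib.GroupTheory.NoncommCoprod

/-!
# Minimal non-`p`-nilpotent groups of order `p ^ t * q ^ r` and their covers
-/

set_option autoImplicit false
set_option linter.style.haveILetI false

namespace Cfsg.Lib.SchmidtCover

open Subgroup Multiplicative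
open scoped commutatorElement IsMulCommutative

universe u

variable {p q a : ℕ} [hp : Fact p.Prime] [hq : Fact q.Prime]
  {F : Type} [Field F] [Finite F] [Algebra (ZMod p) F] {lam : F}

section minimal

variable {P₀ : Type*} [Group P₀] [Finite P₀] (π₀ : P₀ →* Multiplicative F) (α : MulAut P₀)

omit hp hq [Algebra (ZMod p) F] [Finite F] [Finite P₀] in
theorem pow_equivariant (hπα : ∀ y, toAdd (π₀ (α y)) = lam * toAdd (π₀ y)) (n : ℕ) (y : P₀) :
    toAdd (π₀ ((α ^ n) y)) = lam ^ n * toAdd (π₀ y) := by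
  induction n with
  | zero => simp
  | succ n ih => rw [pow_succ', MulAut.mul_apply, hπα, ih, pow_succ', mul_assoc]

/-- The group built from a cover is minimal non-`p`-nilpotent. -/
theorem minimal {G : Type*} [Group G] [Finite G] (hpq : p ≠ q)
    (ha : a = orderOf (p : ZMod q)) (hF : Nat.card F = p ^ a) (hlam : orderOf lam = q)
    (hsurj : Function.Surjective π₀) (hπα : ∀ y, toAdd (π₀ (α y)) = lam * toAdd (π₀ y))
    (hαq : α ^ q = 1) (hP₀ : IsPGroup p P₀) (hkc : π₀.ker ≤ center P₀)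
    (hkd : π₀.ker ≤ commutator P₀) (hkf : ∀ y ∈ π₀.ker, α y = y)
    {r : ℕ} (hr : 1 ≤ r) (ι : P₀ →* G) (g : G) (hι : Function.Injective ι)
    (hg : orderOf g = q ^ r) (hconj : ∀ y, g * ι y * g⁻¹ = ι (α y))
    (htop : ι.range ⊔ zpowers g = ⊤) :
    ¬ Cfsg.HasNormalPComplement p G ∧ ∀ K : Subgroup G, K ≠ ⊤ → Cfsg.HasNormalPComplement p ↥K := by
  classical
  have hq1 : lam ≠ 1 := fun h => hq.out.ne_one (by rw [← hlam, h, orderOf_one])
  have hpow : ∀ (n : ℕ) y, g ^ n * ι y * (g ^ n)⁻¹ = ι ((α ^ n) y) := by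
    intro n
    induction n with
    | zero => intro y; simp
    | succ n ih =>
      intro y
      rw [pow_succ' α, MulAut.mul_apply, ← hconj, ← ih, pow_succ']
      group
  have hgN : g ∈ normalizer (ι.range : Set G) := by
    rw [Cfsg.Lib.Core.mem_normalizer_iff_map_conj]
    refine eq_of_le_of_card_ge ?_ (by rw [card_map_of_injective (MulEquiv.injective _)])
    rintro _ ⟨_, ⟨y, rfl⟩, rfl⟩
    exact ⟨α y, (hconj y).symm⟩
  haveI hN : ι.range.Normal := normalizer_eq_top_iff.1 (top_le_iff.1 (htop ▸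
    sup_le le_normalizer (zpowers_le.2 hgN)))
  have hNp : IsPGroup p ι.range := IsPGroup.of_surjective hP₀ ι.rangeRestrict ι.rangeRestrict_surjective
  have hgco : (orderOf g).Coprime p := by
    rw [hg]; exact ((Nat.coprime_primes hq.out hp.out).2 (Ne.symm hpq)).pow_left r
  refine ⟨fun h => ?_, fun K hK => ?_⟩
  · have hc := Cfsg.Lib.Fusion.mem_centralizer_of_hasNormalPComplement h hNp hgN hgco
    obtain ⟨y, hy⟩ := hsurj (ofAdd 1)
    have h1 : ι (α y) = ι y := by
      rw [← hconj, ← mem_centralizer_iff.1 hc (ι y) ⟨y, rfl⟩, mul_inv_cancel_right]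
    have h2 := hπα y
    rw [hι h1, hy, toAdd_ofAdd, mul_one] at h2
    exact hq1 h2.symm
  suffices hnil : Group.IsNilpotent K from Cfsg.Lib.Thompson.hasNormalPComplement_of_isNilpotent
  have hdec : ∀ k : G, ∃ (y : P₀) (i : ℕ), k = ι y * g ^ i := by
    intro k
    obtain ⟨_, ⟨y, rfl⟩, z, hz, rfl⟩ :=
      mem_sup_of_normal_left.1 (htop.symm ▸ mem_top k : k ∈ ι.range ⊔ zpowers g)
    obtain ⟨i, rfl⟩ := mem_powers_iff_mem_zpowers.2 hz
    exact ⟨y, i, rfl⟩
  by_cases hex : ∃ (y : P₀) (i : ℕ), ι y * g ^ i ∈ K ∧ ¬ q ∣ i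
  · obtain ⟨y, i, hk, hi⟩ := hex
    set k := ι y * g ^ i with hkdef
    let U : Subgroup P₀ := K.comap ι
    have hUc : ∀ u ∈ U, y * (α ^ i) u * y⁻¹ ∈ U := by
      intro u hu
      have h1 : k * ι u * k⁻¹ ∈ K := mul_mem (mul_mem hk hu) (inv_mem hk)
      show ι (y * (α ^ i) u * y⁻¹) ∈ K
      rw [map_mul, map_mul, map_inv, ← hpow]
      convert h1 using 1
      rw [hkdef]; group
    let W : AddSubgroup F := Subgroup.toAddSubgroup' (U.map π₀)
    have hWmem : ∀ w, w ∈ W ↔ ∃ u ∈ U, toAdd (π₀ u) = w := fun w => Iff.rfl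
    obtain ⟨m, -, hm⟩ := Nat.exists_mul_mod_eq_one_of_coprime
      ((hq.out.coprime_iff_not_dvd.2 hi).symm) hq.out.one_lt
    have hWi : ∀ w ∈ W, lam ^ i * w ∈ W := by
      intro w hw
      obtain ⟨u, hu, rfl⟩ := (hWmem w).1 hw
      refine (hWmem _).2 ⟨_, hUc u hu, ?_⟩
      rw [map_mul π₀, map_mul π₀, map_inv π₀, mul_comm (π₀ y), mul_inv_cancel_right (π₀ _) (π₀ y),
        pow_equivariant π₀ α hπα]
    have hWlam : ∀ w ∈ W, lam * w ∈ W := by
      intro w hw
      have hm' : (lam ^ i) ^ m = lam := by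
        rw [← pow_mul, pow_eq_pow_mod (i * m) (hlam ▸ pow_orderOf_eq_one lam), hm, pow_one]
      have : ∀ j : ℕ, (lam ^ i) ^ j * w ∈ W := by
        intro j
        induction j with
        | zero => simpa using hw
        | succ j ih => rw [pow_succ', mul_assoc]; exact hWi _ ih
      exact hm' ▸ this m
    rcases Cfsg.Lib.SchmidtField.invariant_eq ha hF hlam W hWlam with hW | hW
    · -- `K ∩ ι P₀` is central, `K` abelian
      have hUker : ∀ u ∈ U, u ∈ π₀.ker := fun u hu => by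
        have h1 : toAdd (π₀ u) ∈ W := (hWmem _).2 ⟨u, hu, rfl⟩
        rw [hW, AddSubgroup.mem_bot] at h1
        exact MonoidHom.mem_ker.2 h1
      have hcen : ∀ u ∈ U, ∀ x : G, Commute (ι u) x := by
        intro u hu x
        obtain ⟨z, j, rfl⟩ := hdec x
        refine Commute.mul_right ((show Commute u z from
          (mem_center_iff.1 (hkc (hUker u hu)) z).symm).map ι) (Commute.pow_right ?_ j)
        have h1 := hconj u
        rw [hkf u (hUker u hu)] at h1
        exact (mul_inv_eq_iff_eq_mul.1 h1).symm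
      obtain ⟨m', -, hm'⟩ := Nat.exists_mul_mod_eq_one_of_coprime (k := q ^ r) (n := i)
        (((hq.out.coprime_iff_not_dvd.2 hi).symm).pow_right r) (Nat.one_lt_pow (by omega) hq.out.one_lt)
      have hKdec : ∀ x ∈ K, ∃ u ∈ U, ∃ n : ℕ, x = ι u * k ^ n := by
        intro x hx
        obtain ⟨z, j, rfl⟩ := hdec x
        have hmem : ι z * g ^ j * (k ^ (m' * j))⁻¹ ∈ ι.range := by
          rw [← QuotientGroup.eq_one_iff, QuotientGroup.mk_mul, QuotientGroup.mk_mul,
            QuotientGroup.mk_inv, QuotientGroup.mk_pow, QuotientGroup.mk_pow, hkdef,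
            QuotientGroup.mk_mul, QuotientGroup.mk_pow, (QuotientGroup.eq_one_iff (N := ι.range) (ι z)).2 ⟨z, rfl⟩,
            (QuotientGroup.eq_one_iff (N := ι.range) (ι y)).2 ⟨y, rfl⟩, one_mul, one_mul, ← pow_mul,
            ← QuotientGroup.mk_pow, ← QuotientGroup.mk_pow, ← mul_assoc]
          have h1 : g ^ (i * m' * j) = g ^ j := by
            rw [pow_mul, pow_eq_pow_mod (i * m') (hg ▸ pow_orderOf_eq_one g), hm', pow_one]
          rw [h1, mul_inv_cancel]
        obtain ⟨u, hu⟩ := hmem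
        refine ⟨u, ?_, m' * j, by rw [hu]; group⟩
        show ι u ∈ K
        rw [hu]
        exact mul_mem hx (inv_mem (pow_mem hk _))
      haveI : IsMulCommutative K := ⟨⟨fun x x' => Subtype.ext (by
        obtain ⟨u, hu, n, hn⟩ := hKdec x.1 x.2
        obtain ⟨u', hu', n', hn'⟩ := hKdec x'.1 x'.2
        show Commute (x : G) (x' : G)
        rw [hn, hn']
        exact ((hcen u hu _).mul_left ((hcen u' hu' _).symm.mul_right
          ((Commute.refl k).pow_pow n n'))))⟩⟩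
      exact Cfsg.Lib.Core.isNilpotent_of_isMulCommutative K
    · -- `K` contains `ι P₀`
      exfalso
      have hU : ∀ z : P₀, ∃ u ∈ U, u⁻¹ * z ∈ π₀.ker := by
        intro z
        obtain ⟨u, hu, huz⟩ := (hWmem (toAdd (π₀ z))).1 (hW ▸ AddSubgroup.mem_top _)
        exact ⟨u, hu, by rw [MonoidHom.mem_ker, map_mul, map_inv, toAdd.injective huz, inv_mul_cancel]⟩
      have hcomm : commutator P₀ ≤ U := by
        rw [_root_.commutator_def, commutator_le]
        intro b _ c _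
        obtain ⟨u, hu, hub⟩ := hU b
        obtain ⟨v, hv, hvc⟩ := hU c
        have h1 := mem_center_iff.1 (hkc hub)
        have h2 := mem_center_iff.1 (hkc hvc)
        have h3 : ⁅b, c⁆ = ⁅u, v⁆ := by
          rw [show b = u * (u⁻¹ * b) by group, show c = v * (v⁻¹ * c) by group]
          generalize u⁻¹ * b = z at h1
          generalize v⁻¹ * c = w at h2
          rw [commutatorElement_def, commutatorElement_def]
          calc u * z * (v * w) * (u * z)⁻¹ * (v * w)⁻¹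
              = u * (z * (v * w) * z⁻¹) * u⁻¹ * (v * w)⁻¹ := by group
            _ = u * (v * w) * u⁻¹ * (v * w)⁻¹ := by rw [← h1, mul_inv_cancel_right]
            _ = u * v * (w * u⁻¹) * w⁻¹ * v⁻¹ := by group
            _ = u * v * u⁻¹ * v⁻¹ := by rw [← h2, mul_assoc (u * v) (u⁻¹ * w), mul_assoc u⁻¹ w,
                mul_inv_cancel, mul_one]
        rw [h3, commutatorElement_def]
        exact mul_mem (mul_mem (mul_mem hu hv) (inv_mem hu)) (inv_mem hv)
      have hUtop : ∀ z : P₀, ι z ∈ K := fun z => by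
        obtain ⟨u, hu, huz⟩ := hU z
        have h1 := mul_mem hu (hcomm (hkd huz))
        rwa [mul_inv_cancel_left] at h1
      have hgi : g ^ i ∈ K := by
        have h1 := mul_mem (inv_mem (hUtop y)) hk
        rwa [hkdef, inv_mul_cancel_left] at h1
      obtain ⟨m', -, hm'⟩ := Nat.exists_mul_mod_eq_one_of_coprime (k := q ^ r) (n := i)
        (((hq.out.coprime_iff_not_dvd.2 hi).symm).pow_right r) (Nat.one_lt_pow (by omega) hq.out.one_lt)
      have hgK : g ∈ K := by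
        have h1 := pow_mem hgi m'
        rwa [← pow_mul, pow_eq_pow_mod (i * m') (hg ▸ pow_orderOf_eq_one g), hm', pow_one] at h1
      exact hK (top_le_iff.1 (htop ▸ sup_le (by rintro _ ⟨z, rfl⟩; exact hUtop z) (zpowers_le.2 hgK)))
  · -- `K` lies in `ι P₀ × ⟨g ^ q⟩`
    push Not at hex
    have hcomm : ∀ (y : P₀) (z : zpowers (g ^ q)), Commute (ι y) (z : G) := by
      rintro y ⟨_, j, rfl⟩
      refine Commute.zpow_right ?_ j
      have h1 := hpow q y
      rw [hαq, MulAut.one_apply] at h1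
      exact (mul_inv_eq_iff_eq_mul.1 h1).symm
    let f : P₀ × zpowers (g ^ q) →* G := MonoidHom.noncommCoprod ι (zpowers (g ^ q)).subtype hcomm
    haveI : Group.IsNilpotent P₀ := hP₀.isNilpotent
    haveI : Group.IsNilpotent (zpowers (g ^ q)) := Cfsg.Lib.Core.isNilpotent_of_isMulCommutative _
    have hf : Group.IsNilpotent f.range := Group.nilpotent_of_surjective f.rangeRestrict f.rangeRestrict_surjective
    refine Cfsg.Lib.Core.isNilpotent_of_le (fun x hx => ?_) hf
    obtain ⟨z, j, rfl⟩ := hdec x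
    obtain ⟨c, rfl⟩ := hex z j hx
    exact ⟨(z, ⟨(g ^ q) ^ c, npow_mem_zpowers _ _⟩), by
      show ι z * (g ^ q) ^ c = _
      rw [← pow_mul]⟩

end minimal

section xside

/-- The structure of a minimal non-`p`-nilpotent group of order `p ^ t * q ^ r`. -/
theorem exists_data {X : Type u} [Group X] [Finite X] (hpq : p ≠ q)
    (ha : a = orderOf (p : ZMod q)) (hF : Nat.card F = p ^ a) (hlam : orderOf lam = q)
    {r t : ℕ} (hr : 1 ≤ r) (h1 : ¬ Cfsg.HasNormalPComplement p X)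
    (h2 : ∀ K : Subgroup X, K ≠ ⊤ → Cfsg.HasNormalPComplement p ↥K)
    (hcard : Nat.card X = p ^ t * q ^ r) :
    ∃ (P : Subgroup X) (_ : P.Normal) (x : X) (π₁ : P →* Multiplicative F),
      IsPGroup p P ∧ orderOf x = q ^ r ∧ P ⊔ zpowers x = ⊤ ∧ Function.Surjective π₁ ∧
      π₁.ker ≤ center P ∧ (∀ y, toAdd (π₁ (MulAut.conjNormal x y)) = lam * toAdd (π₁ y)) ∧
      (∀ y ∈ π₁.ker, MulAut.conjNormal x y = y) ∧
      (MulAut.conjNormal x : MulAut P) ^ q = 1 ∧
      ∀ R : Subgroup P, (∀ y ∈ R, MulAut.conjNormal x y ∈ R) → R ≠ ⊤ → R ≤ π₁.ker := by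
  classical
  obtain ⟨hnil, hnn, hnorm⟩ := Cfsg.Agent.S0132.result h1 h2
  let S : Sylow p X := default
  let T : Sylow q X := default
  set P : Subgroup X := (S : Subgroup X)
  haveI hPn : P.Normal := hnorm S
  have hco : (p ^ t).Coprime (q ^ r) := ((Nat.coprime_primes hp.out hq.out).2 hpq).pow t r
  have hPc : Nat.card P = p ^ t := by
    rw [Sylow.card_eq_multiplicity, hcard, Nat.factorization_mul (pow_ne_zero _ hp.out.ne_zero)
      (pow_ne_zero _ hq.out.ne_zero), Finsupp.add_apply, hp.out.factorization_pow,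
      hq.out.factorization_pow, Finsupp.single_eq_same, Finsupp.single_eq_of_ne hpq, add_zero]
  have hTc : Nat.card T = q ^ r := by
    rw [Sylow.card_eq_multiplicity, hcard, Nat.factorization_mul (pow_ne_zero _ hp.out.ne_zero)
      (pow_ne_zero _ hq.out.ne_zero), Finsupp.add_apply, hp.out.factorization_pow,
      hq.out.factorization_pow, Finsupp.single_eq_same, Finsupp.single_eq_of_ne (Ne.symm hpq), zero_add]
  obtain ⟨x, hxT, hxnc⟩ : ∃ x ∈ (T : Subgroup X), ∃ y ∈ P, ¬ Commute y x := by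
    by_contra hcon
    push Not at hcon
    apply hnn
    let f : P × (T : Subgroup X) →* X :=
      MonoidHom.noncommCoprod P.subtype (T : Subgroup X).subtype (fun y x => hcon x.1 x.2 y.1 y.2)
    have hinj : Function.Injective f := by
      rw [injective_iff_map_eq_one]
      rintro ⟨y, z⟩ hyz
      have hy : (y : X) = ((z : X))⁻¹ := eq_inv_of_mul_eq_one_left hyz
      have h3 : (y : X) ∈ P ⊓ (T : Subgroup X) := mem_inf.2 ⟨y.2, hy ▸ inv_mem z.2⟩
      rw [(IsPGroup.disjoint_of_ne p q hpq _ _ S.2 T.2).eq_bot, mem_bot] at h3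
      exact Prod.ext (Subtype.ext h3) (Subtype.ext (by
        rw [h3] at hy
        exact inv_eq_one.1 hy.symm))
    have hbij : Function.Bijective f :=
      (Nat.bijective_iff_injective_and_card f).2 ⟨hinj, by rw [Nat.card_prod, hPc, hTc, hcard]⟩
    haveI : Group.IsNilpotent P := S.2.isNilpotent
    haveI : Group.IsNilpotent (T : Subgroup X) := T.2.isNilpotent
    exact Group.nilpotent_of_surjective f hbij.2
  obtain ⟨y₀, hy₀, hy₀x⟩ := hxnc
  have hxq : IsPGroup q (zpowers x) := T.2.to_le (zpowers_le.2 hxT)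
  have htop : P ⊔ zpowers x = ⊤ := by
    by_contra hne
    exact hy₀x (Cfsg.Lib.Schmidt.commute_of_nilpotent (hnil _ hne) hpq (mem_sup_left hy₀)
      (mem_sup_right (mem_zpowers x)) (Cfsg.Lib.Schmidt.isPGroup_zpowers_of_mem S.2 hy₀) hxq)
  have hidx : P.index = q ^ r := by
    have := P.card_mul_index
    rw [hPc, hcard] at this
    exact Nat.eq_of_mul_eq_mul_left (pow_pos hp.out.pos t) this
  have hbound : ∀ z : X, P ⊔ zpowers z = ⊤ → q ^ r ∣ orderOf z := by
    intro z hz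
    rw [← hidx, ← relIndex_top_right, ← hz, sup_comm, relIndex_sup_right, ← Nat.card_zpowers]
    exact relIndex_dvd_card P (zpowers z)
  have hx : orderOf x = q ^ r :=
    Nat.dvd_antisymm (hTc ▸ Nat.card_zpowers x ▸ card_dvd_of_le (zpowers_le.2 hxT)) (hbound x htop)
  -- the automorphism
  set σ : MulAut P := MulAut.conjNormal x with hσdef
  have hσval : ∀ y : P, ((σ y : P) : X) = x * y * x⁻¹ := fun y => MulAut.conjNormal_apply x y
  have hσq : σ ^ q = 1 := by
    rw [hσdef, ← map_pow]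
    refine MulEquiv.ext fun y => Subtype.ext ?_
    rw [MulAut.conjNormal_apply, MulAut.one_apply, mul_inv_eq_iff_eq_mul]
    refine (Cfsg.Lib.Schmidt.commute_of_nilpotent (hnil _ ?_) hpq (mem_sup_left y.2)
      (mem_sup_right (mem_zpowers (x ^ q))) (Cfsg.Lib.Schmidt.isPGroup_zpowers_of_mem S.2 y.2)
      (hxq.to_le (zpowers_le.2 (npow_mem_zpowers x q)))).symm.eq
    intro htop'
    have h3 := hbound _ htop'
    rw [orderOf_pow, hx] at h3
    have hg : (q ^ r).gcd q = q :=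
      Nat.gcd_eq_right (dvd_pow_self q (by omega))
    rw [hg] at h3
    obtain ⟨r', rfl⟩ : ∃ r', r = r' + 1 := ⟨r - 1, by omega⟩
    rw [pow_succ, Nat.mul_div_cancel _ hq.out.pos] at h3
    have := Nat.le_of_dvd (pow_pos hq.out.pos r') h3
    nlinarith [hq.out.two_le, pow_pos hq.out.pos r']
  have hinv : ∀ R : Subgroup P, (∀ y ∈ R, σ y ∈ R) → R ≠ ⊤ → ∀ y ∈ R, σ y = y := by
    intro R hR hne y hy
    have hxN : x ∈ normalizer (R.map P.subtype : Set X) := by
      rw [Cfsg.Lib.Core.mem_normalizer_iff_map_conj]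
      refine eq_of_le_of_card_ge ?_
        (by rw [card_map_of_injective (f := (MulAut.conj x).toMonoidHom) (MulEquiv.injective _)])
      rintro _ ⟨_, ⟨z, hz, rfl⟩, rfl⟩
      exact ⟨σ z, hR z hz, hσval z⟩
    have hne' : R.map P.subtype ⊔ zpowers x ≠ ⊤ := by
      intro h
      apply hne
      refine eq_top_iff.2 fun z _ => ?_
      have hz : (z : X) ∈ ((R.map P.subtype ⊔ zpowers x : Subgroup X) : Set X) := by rw [h]; exact mem_top _
      rw [coe_mul_of_right_le_normalizer_left _ _ (zpowers_le.2 hxN)] at hz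
      obtain ⟨_, ⟨w, hw, rfl⟩, c, hc, hwc⟩ := Set.mem_mul.1 hz
      have hc2 : c ∈ P ⊓ zpowers x := by
        refine mem_inf.2 ⟨?_, hc⟩
        rw [show c = (w : X)⁻¹ * z by rw [← hwc]; exact (inv_mul_cancel_left _ _).symm]
        exact mul_mem (inv_mem w.2) z.2
      rw [(IsPGroup.disjoint_of_ne p q hpq _ _ S.2 hxq).eq_bot, mem_bot] at hc2
      rw [hc2, mul_one] at hwc
      exact (Subtype.ext hwc : w = z) ▸ hw
    refine Subtype.ext ?_
    rw [hσval, mul_inv_eq_iff_eq_mul]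
    exact (Cfsg.Lib.Schmidt.commute_of_nilpotent (hnil _ hne') hpq (mem_sup_left ⟨y, hy, rfl⟩)
      (mem_sup_right (mem_zpowers x)) (Cfsg.Lib.Schmidt.isPGroup_zpowers_of_mem S.2 y.2) hxq).symm.eq
  have hiter : ∀ g c : P, σ g = g * c → σ c = c → ∀ j : ℕ, (σ ^ j) g = g * c ^ j := by
    intro g c hg hc j
    induction j with
    | zero => simp
    | succ j ih =>
      rw [pow_succ', MulAut.mul_apply, ih, map_mul, map_pow, hg, hc, mul_assoc, ← pow_succ']
  have hfix : ∀ g c : P, σ g = g * c → σ c = c → c = 1 := by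
    intro g c hg hc
    have h3 := hiter g c hg hc q
    rw [hσq, MulAut.one_apply, left_eq_mul] at h3
    obtain ⟨k, hk⟩ := S.2 c
    have h4 : orderOf c ∣ Nat.gcd q (p ^ k) :=
      Nat.dvd_gcd (orderOf_dvd_iff_pow_eq_one.2 h3) (orderOf_dvd_iff_pow_eq_one.2 hk)
    rw [((Nat.coprime_primes hq.out hp.out).2 (Ne.symm hpq)).pow_right k] at h4
    exact orderOf_eq_one_iff.1 (Nat.dvd_one.1 h4)
  set C : Subgroup P := MonoidHom.eqLocus σ.toMonoidHom (MonoidHom.id P) with hCdef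
  have hCmem : ∀ y, y ∈ C ↔ σ y = y := fun _ => Iff.rfl
  have hCne : C ≠ ⊤ := by
    intro h
    apply hy₀x
    have h3 := congrArg Subtype.val ((hCmem ⟨y₀, hy₀⟩).1 (h.symm ▸ mem_top _))
    rw [hσval, mul_inv_eq_iff_eq_mul] at h3
    exact h3.symm
  haveI : Nontrivial P := by
    by_contra h
    rw [not_nontrivial_iff_subsingleton] at h
    exact hCne (eq_top_iff.2 fun y _ => (Subsingleton.elim (σ y) y))
  have hgen : closure (Set.range fun g : P => g⁻¹ * σ g) = ⊤ := by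
    by_contra hne
    have hM : ∀ y ∈ closure (Set.range fun g : P => g⁻¹ * σ g),
        σ y ∈ closure (Set.range fun g : P => g⁻¹ * σ g) := by
      intro y hy
      induction hy using closure_induction with
      | mem z hz =>
        obtain ⟨g, rfl⟩ := hz
        exact subset_closure ⟨σ g, by simp⟩
      | one => rw [map_one]; exact one_mem _
      | mul b c _ _ ihb ihc => rw [map_mul]; exact mul_mem ihb ihc
      | inv b _ ihb => rw [map_inv]; exact inv_mem ihb
    refine hCne (eq_top_iff.2 fun g _ => ?_)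
    have hc := hinv _ hM hne (g⁻¹ * σ g) (subset_closure ⟨g, rfl⟩)
    have h3 := hfix g (g⁻¹ * σ g) (by rw [mul_inv_cancel_left]) hc
    exact (inv_mul_eq_one.1 h3).symm
  have hΦC : frattini P ≤ C := fun y hy => hinv _ (fun z hz => by
    have h := Subgroup.Characteristic.fixed (H := frattini P) inferInstance σ
    rw [← h] at hz
    exact hz) Cfsg.Lib.PGroup.frattini_ne_top y hy
  have hDC : commutator P ≤ C := (Cfsg.Lib.PGroup.commutator_le_frattini (p := p) S.2).trans hΦC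
  haveI hCn : C.Normal := ⟨fun c hc g => by
    have := mul_mem (hDC (commutator_mem_commutator (mem_top g) (mem_top c))) hc
    simpa [commutatorElement_def] using this⟩
  haveI hQc : IsMulCommutative (P ⧸ C) :=
    Subgroup.Normal.quotient_commutative_iff_commutator_le.mpr hDC
  have hCcent : C ≤ center P := by
    intro c hc
    rw [mem_center_iff]
    intro g
    have hall : closure (Set.range fun g : P => g⁻¹ * σ g) ≤ centralizer ({c} : Set P) := by
      rw [closure_le]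
      rintro _ ⟨h, rfl⟩
      rw [SetLike.mem_coe, mem_centralizer_singleton_iff]
      have h3 := (hCmem _).1 (hCn.conj_mem c hc h)
      rw [map_mul, map_mul, map_inv, (hCmem c).1 hc] at h3
      calc h⁻¹ * σ h * c = h⁻¹ * (σ h * c * (σ h)⁻¹) * σ h := by group
        _ = h⁻¹ * (h * c * h⁻¹) * σ h := by rw [h3]
        _ = c * (h⁻¹ * σ h) := by group
    exact mem_centralizer_singleton_iff.1 (hall (hgen.symm ▸ mem_top g))
  -- the module
  have hexp : ∀ v : Additive (P ⧸ C), p • v = 0 := fun v => by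
    obtain ⟨y, hy⟩ := QuotientGroup.mk'_surjective C (Additive.toMul v)
    apply Additive.toMul.injective
    rw [toMul_nsmul, ← hy, ← map_pow, toMul_zero, QuotientGroup.mk'_apply, QuotientGroup.eq_one_iff]
    exact hΦC (Cfsg.Lib.PGroup.pow_mem_frattini S.2 y)
  have hmodC : Module (ZMod p) (Additive (P ⧸ C)) := AddCommGroup.zmodModule hexp
  let σbar : P ⧸ C →* P ⧸ C := QuotientGroup.map C C σ.toMonoidHom (fun c hc => by
    show σ c ∈ C
    rw [(hCmem c).1 hc]; exact hc)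
  have hσbar : ∀ y : P, σbar (y : P ⧸ C) = ((σ y : P) : P ⧸ C) := fun y => rfl
  let Tl : Module.End (ZMod p) (Additive (P ⧸ C)) := (MonoidHom.toAdditive σbar).toZModLinearMap p
  let em : P → Additive (P ⧸ C) := fun y => Additive.ofMul (y : P ⧸ C)
  have hTl : ∀ (j : ℕ) (y : P), (Tl ^ j) (em y) = em ((σ ^ j) y) := by
    intro j
    induction j with
    | zero => intro y; rfl
    | succ j ih =>
      intro y
      rw [pow_succ', Module.End.mul_apply, ih, pow_succ', MulAut.mul_apply]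
      rfl
  have hem : Function.Surjective em := fun v => by
    obtain ⟨y, hy⟩ := QuotientGroup.mk'_surjective C (Additive.toMul v)
    exact ⟨y, congrArg Additive.ofMul hy⟩
  have hTq : Tl ^ q = 1 := LinearMap.ext fun v => by
    obtain ⟨y, rfl⟩ := hem v
    rw [hTl, hσq]; rfl
  have hTfix : ∀ v, Tl v = v → v = 0 := fun v hv => by
    obtain ⟨y, rfl⟩ := hem v
    have h3 : ((σ y : P) : P ⧸ C) = (y : P ⧸ C) := hv
    rw [eq_comm, QuotientGroup.eq] at h3
    have h4 := hfix y (y⁻¹ * σ y) (by rw [mul_inv_cancel_left]) ((hCmem _).1 h3)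
    show Additive.ofMul (y : P ⧸ C) = 0
    rw [ofMul_eq_zero, QuotientGroup.eq_one_iff, hCmem]
    exact (inv_mul_eq_one.1 h4).symm
  haveI : Nontrivial (P ⧸ C) := QuotientGroup.nontrivial_iff.2 hCne
  have hirr : ∀ W : AddSubgroup (Additive (P ⧸ C)), (∀ w ∈ W, Tl w ∈ W) → W = ⊥ ∨ W = ⊤ := by
    intro W hW
    let R : Subgroup P := (AddSubgroup.toSubgroup' W).comap (QuotientGroup.mk' C)
    have hRmem : ∀ y, y ∈ R ↔ em y ∈ W := fun _ => Iff.rfl
    by_cases hR : R = ⊤
    · right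
      refine eq_top_iff.2 fun v _ => ?_
      obtain ⟨y, rfl⟩ := hem v
      exact (hRmem y).1 (hR.symm ▸ mem_top y)
    · left
      refine eq_bot_iff.2 fun v hv => ?_
      obtain ⟨y, rfl⟩ := hem v
      have h3 := hinv R (fun z hz => (hRmem _).2 (hW _ ((hRmem z).1 hz))) hR y ((hRmem y).2 hv)
      show Additive.ofMul (y : P ⧸ C) = 0
      rw [ofMul_eq_zero, QuotientGroup.eq_one_iff]
      exact h3
  obtain ⟨k, hqk, e, he⟩ := Cfsg.Lib.SchmidtField.module_model ha hF hlam Tl hTq hTfix hirr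
  have hcok : (orderOf x).Coprime k := by
    rw [hx]; exact (hq.out.coprime_iff_not_dvd.2 hqk).pow_left r
  have hxk : (MulAut.conjNormal (x ^ k) : MulAut P) = σ ^ k := by rw [map_pow]
  obtain ⟨m, hm⟩ : ∃ m : ℕ, (x ^ k) ^ m = x := by
    rcases (orderOf x).eq_zero_or_pos with h0 | h0
    · exact absurd (hx ▸ h0) (pow_pos hq.out.pos r).ne'
    · obtain ⟨m, hm⟩ := exists_pow_eq_self_of_coprime hcok.symm
      exact ⟨m, hm⟩
  have hzx : zpowers (x ^ k) = zpowers x :=
    le_antisymm (zpowers_le.2 (npow_mem_zpowers x k)) (zpowers_le.2 ⟨m, by simpa using hm⟩)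
  let π₁ : P →* Multiplicative F := MonoidHom.mk' (fun y => ofAdd (e.symm (em y))) fun y z => by
    rw [← ofAdd_add, ← map_add]
    rfl
  have hπ : ∀ y, toAdd (π₁ y) = e.symm (em y) := fun y => rfl
  have hker : ∀ y, y ∈ π₁.ker ↔ y ∈ C := fun y => by
    rw [MonoidHom.mem_ker, ← toAdd.injective.eq_iff, hπ, toAdd_one, e.symm.map_eq_zero_iff]
    show Additive.ofMul (y : P ⧸ C) = 0 ↔ _
    rw [ofMul_eq_zero, QuotientGroup.eq_one_iff]
  refine ⟨P, hPn, x ^ k, π₁, S.2, ?_, hzx ▸ htop, ?_, ?_, ?_, ?_, ?_, ?_⟩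
  · rw [← Nat.card_zpowers, hzx, Nat.card_zpowers, hx]
  · intro μ
    obtain ⟨y, hy⟩ := hem (e (toAdd μ))
    exact ⟨y, toAdd.injective (by rw [hπ, hy, AddEquiv.symm_apply_apply])⟩
  · exact fun y hy => hCcent ((hker y).1 hy)
  · intro y
    apply e.injective
    rw [hxk, hπ, hπ, AddEquiv.apply_symm_apply, he, AddEquiv.apply_symm_apply, hTl]
  · intro y hy
    rw [hxk]
    have : ∀ j : ℕ, (σ ^ j) y = y := by
      intro j
      induction j with
      | zero => rfl
      | succ j ih => rw [pow_succ', MulAut.mul_apply, ih, (hCmem y).1 ((hker y).1 hy)]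
    exact this k
  · rw [hxk, ← pow_mul, mul_comm, pow_mul, hσq, one_pow]
  · intro R hR hne y hy
    have hR' : ∀ z ∈ R, σ z ∈ R := by
      intro z hz
      have hj : ∀ j : ℕ, ((MulAut.conjNormal (x ^ k) : MulAut P) ^ j) z ∈ R := by
        intro j
        induction j with
        | zero => exact hz
        | succ j ih => rw [pow_succ', MulAut.mul_apply]; exact hR _ ih
      have h3 := hj m
      rwa [← map_pow, hm] at h3
    exact (hker y).2 (hinv R hR' hne y hy)

end xside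

section lift

variable {P₀ P₁ : Type*} [Group P₀] [Group P₁]

/-- Covers map onto every group of the same shape. -/
theorem exists_lift (hpq : p ≠ q) (hlam : orderOf lam = q)
    (π₀ : P₀ →* Multiplicative F) (α : MulAut P₀) (π₁ : P₁ →* Multiplicative F) (β : MulAut P₁)
    (hs₀ : Function.Surjective π₀) (h₀ : ∀ y, toAdd (π₀ (α y)) = lam * toAdd (π₀ y))
    (hq₀ : α ^ q = 1) (hp₀ : IsPGroup p P₀) (hc₀ : π₀.ker ≤ center P₀)
    (hd₀ : π₀.ker ≤ commutator P₀) (hf₀ : ∀ y ∈ π₀.ker, α y = y)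
    (hs₁ : Function.Surjective π₁) (h₁ : ∀ y, toAdd (π₁ (β y)) = lam * toAdd (π₁ y))
    (hq₁ : β ^ q = 1) (hp₁ : IsPGroup p P₁) (hc₁ : π₁.ker ≤ center P₁)
    (hf₁ : ∀ y ∈ π₁.ker, β y = y)
    (hi₁ : ∀ R : Subgroup P₁, (∀ y ∈ R, β y ∈ R) → R ≠ ⊤ → R ≤ π₁.ker)
    (L : π₀.ker →* center P₁)
    (hL : ∀ (y z : P₀) (y' z' : P₁) (h : ⁅y, z⁆ ∈ π₀.ker), π₀ y = π₁ y' → π₀ z = π₁ z' →
      (L ⟨⁅y, z⁆, h⟩ : P₁) = ⁅y', z'⁆)
    (hLk : ∀ k, (L k : P₁) ∈ π₁.ker) :
    ∃ φ : P₀ →* P₁, Function.Surjective φ ∧ (∀ y, φ (α y) = β (φ y)) ∧ ∀ y, π₁ (φ y) = π₀ y := by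
  classical
  have hcomm₀ : ∀ y z : P₀, ⁅y, z⁆ ∈ π₀.ker := fun y z => by
    rw [MonoidHom.mem_ker, map_commutatorElement, commutatorElement_eq_one_iff_mul_comm, mul_comm]
  let W : Subgroup (P₀ × P₁) :=
    MonoidHom.eqLocus (π₀.comp (MonoidHom.fst P₀ P₁)) (π₁.comp (MonoidHom.snd P₀ P₁))
  have hW : ∀ w : P₀ × P₁, w ∈ W ↔ π₀ w.1 = π₁ w.2 := fun _ => Iff.rfl
  let γ : MulAut (P₀ × P₁) := MulEquiv.prodCongr α β
  have hγ : ∀ w : P₀ × P₁, γ w = (α w.1, β w.2) := fun _ => rfl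
  have hγq : ∀ (n : ℕ) (w : P₀ × P₁), (γ ^ n) w = ((α ^ n) w.1, (β ^ n) w.2) := by
    intro n
    induction n with
    | zero => intro w; rfl
    | succ n ih => intro w; rw [pow_succ', MulAut.mul_apply, ih, hγ, pow_succ', pow_succ']; rfl
  have hWγ : ∀ w ∈ W, γ w ∈ W := fun w hw => by
    rw [hW, hγ]
    exact toAdd.injective (by rw [h₀, h₁, (hW w).1 hw])
  let dh : π₀.ker →* P₀ × P₁ := π₀.ker.subtype.prod ((center P₁).subtype.comp L)
  set D := dh.range with hDdef
  have hDc : D ≤ center (P₀ × P₁) := by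
    rintro _ ⟨k, rfl⟩
    rw [mem_center_iff]
    exact fun g => Prod.ext (mem_center_iff.1 (hc₀ k.2) g.1) (mem_center_iff.1 (L k).2 g.2)
  haveI hDn : D.Normal := ⟨fun d hd g => by
    rw [mem_center_iff.1 (hDc hd) g, mul_inv_cancel_right]; exact hd⟩
  have hcommW : ∀ v ∈ W, ∀ w ∈ W,
      (v : (P₀ × P₁) ⧸ D) * (w : (P₀ × P₁) ⧸ D) = (w : (P₀ × P₁) ⧸ D) * (v : (P₀ × P₁) ⧸ D) := by
    intro v hv w hw
    rw [← commutatorElement_eq_one_iff_mul_comm, ← QuotientGroup.mk'_apply, ← QuotientGroup.mk'_apply,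
      ← map_commutatorElement, QuotientGroup.mk'_apply, QuotientGroup.eq_one_iff]
    exact ⟨⟨_, hcomm₀ v.1 w.1⟩, Prod.ext rfl (hL v.1 w.1 v.2 w.2 _ hv hw)⟩
  let ψ : W →* (P₀ × P₁) ⧸ D :=
    MonoidHom.mk' (fun w => (((w : P₀ × P₁)⁻¹ * γ w : P₀ × P₁) : (P₀ × P₁) ⧸ D)) fun v w => by
      show ((((v : P₀ × P₁) * w)⁻¹ * γ ((v : P₀ × P₁) * w) : P₀ × P₁) : (P₀ × P₁) ⧸ D) =
        (((v : P₀ × P₁)⁻¹ * γ v : P₀ × P₁) : (P₀ × P₁) ⧸ D) *
          (((w : P₀ × P₁)⁻¹ * γ w : P₀ × P₁) : (P₀ × P₁) ⧸ D)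
      have h := hcommW ((v : P₀ × P₁)⁻¹ * γ v) (mul_mem (inv_mem v.2) (hWγ _ v.2))
        ((w : P₀ × P₁)⁻¹) (inv_mem w.2)
      rw [show ((v : P₀ × P₁) * w)⁻¹ * γ ((v : P₀ × P₁) * w) =
          (w : P₀ × P₁)⁻¹ * ((v : P₀ × P₁)⁻¹ * γ v) * γ w by rw [map_mul]; group,
        QuotientGroup.mk_mul, QuotientGroup.mk_mul, ← h, mul_assoc, ← QuotientGroup.mk_mul _ _ (γ w)]
  set S : Subgroup (P₀ × P₁) := closure ((fun w => w⁻¹ * γ w) '' (W : Set (P₀ × P₁))) with hS
  have hSW : S ≤ W := by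
    rw [hS, closure_le]
    rintro _ ⟨w, hw, rfl⟩
    exact mul_mem (inv_mem hw) (hWγ w hw)
  have hSψ : ∀ s ∈ S, (s : (P₀ × P₁) ⧸ D) ∈ ψ.range := by
    have : S ≤ ψ.range.comap (QuotientGroup.mk' D) := by
      rw [hS, closure_le]
      rintro _ ⟨w, hw, rfl⟩
      exact ⟨⟨w, hw⟩, rfl⟩
    exact fun s hs => this hs
  have hSγ : ∀ s ∈ S, γ s ∈ S := by
    intro s hs
    induction hs using closure_induction with
    | mem z hz =>
      obtain ⟨w, hw, rfl⟩ := hz
      exact subset_closure ⟨γ w, hWγ w hw, by simp⟩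
    | one => rw [map_one]; exact one_mem _
    | mul b c _ _ ihb ihc => rw [map_mul]; exact mul_mem ihb ihc
    | inv b _ ihb => rw [map_inv]; exact inv_mem ihb
  have hinjS : ∀ s ∈ S, s.1 = 1 → s = 1 := by
    rintro ⟨s₁, c⟩ hs (rfl : s₁ = 1)
    have hc : c ∈ π₁.ker := by
      have := (hW _).1 (hSW hs)
      rw [map_one] at this
      exact this.symm
    obtain ⟨⟨u, hu⟩, hψu⟩ := hSψ _ hs
    have hψu' : ((u⁻¹ * γ u : P₀ × P₁) : (P₀ × P₁) ⧸ D) = ((1, c) : P₀ × P₁) := hψu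
    obtain ⟨k, hk⟩ := QuotientGroup.eq.1 hψu'.symm
    set z := u⁻¹ * γ u with hz
    have hz' : z = (1, c) * dh k := by rw [hk, mul_inv_cancel_left]
    have hγz : γ z = z := by
      rw [hz', map_mul, hγ, hγ, map_one, hf₁ c hc]
      exact congrArg₂ (· * ·) rfl (Prod.ext (hf₀ _ k.2) (hf₁ _ (hLk k)))
    have hiter : ∀ n : ℕ, (γ ^ n) u = u * z ^ n := by
      intro n
      induction n with
      | zero => simp
      | succ n ih =>
        rw [pow_succ', MulAut.mul_apply, ih, map_mul, map_pow, hγz,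
          show γ u = u * z by rw [hz, mul_inv_cancel_left], mul_assoc, ← pow_succ']
    have h3 := hiter q
    rw [hγq, hq₀, hq₁, MulAut.one_apply, MulAut.one_apply, Prod.mk.eta, left_eq_mul] at h3
    obtain ⟨i, hi⟩ := hp₀ z.1
    obtain ⟨j, hj⟩ := hp₁ z.2
    have h4 : z ^ p ^ (i + j) = 1 := Prod.ext
      (by rw [Prod.pow_fst, pow_add, pow_mul, hi, one_pow]; rfl)
      (by rw [Prod.pow_snd, add_comm, pow_add, pow_mul, hj, one_pow]; rfl)
    have h5 : orderOf z ∣ Nat.gcd q (p ^ (i + j)) :=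
      Nat.dvd_gcd (orderOf_dvd_of_pow_eq_one h3) (orderOf_dvd_of_pow_eq_one h4)
    rw [((Nat.coprime_primes hq.out hp.out).2 (Ne.symm hpq)).pow_right _] at h5
    rw [orderOf_eq_one_iff.1 (Nat.dvd_one.1 h5)] at hz'
    have hk1 : (k : P₀) = 1 := by
      have := congrArg Prod.fst hz'.symm
      simpa [dh] using this
    have hc1 : c = 1 := by
      have := congrArg Prod.snd hz'.symm
      rw [show k = 1 from Subtype.ext hk1, map_one] at this
      simpa using this
    rw [hc1]; rfl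
  let f : S →* P₀ := (MonoidHom.fst P₀ P₁).comp S.subtype
  have hlam1 : lam - 1 ≠ 0 := sub_ne_zero.2 fun h => hq.out.ne_one (by rw [← hlam, h, orderOf_one])
  have himg : ∀ μ : Multiplicative F, ∃ s ∈ S, π₀ s.1 = μ := by
    intro μ
    obtain ⟨y, hy⟩ := hs₀ (ofAdd ((lam - 1)⁻¹ * toAdd μ))
    obtain ⟨y', hy'⟩ := hs₁ (π₀ y)
    refine ⟨(y, y')⁻¹ * γ (y, y'), subset_closure ⟨(y, y'), ((hW _).2 hy'.symm), rfl⟩, ?_⟩
    refine toAdd.injective ?_
    rw [hγ, Prod.fst_mul, Prod.fst_inv, map_mul, map_inv, toAdd_mul, toAdd_inv, h₀, hy, toAdd_ofAdd,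
      neg_add_eq_sub, ← sub_one_mul, mul_inv_cancel_left₀ hlam1]
  have hbij : Function.Bijective f := by
    refine ⟨?_, ?_⟩
    · rw [injective_iff_map_eq_one]
      exact fun s hs => Subtype.ext (hinjS s.1 s.2 hs)
    · rw [← MonoidHom.range_eq_top]
      have hU : ∀ z : P₀, ∃ u ∈ f.range, u⁻¹ * z ∈ π₀.ker := fun z => by
        obtain ⟨s, hs, hsz⟩ := himg (π₀ z)
        exact ⟨s.1, ⟨⟨s, hs⟩, rfl⟩, by rw [MonoidHom.mem_ker, map_mul, map_inv, hsz, inv_mul_cancel]⟩
      have hle : commutator P₀ ≤ f.range := by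
        rw [_root_.commutator_def, commutator_le]
        intro b _ c _
        obtain ⟨u, hu, hub⟩ := hU b
        obtain ⟨v, hv, hvc⟩ := hU c
        have h1 := mem_center_iff.1 (hc₀ hub)
        have h2 := mem_center_iff.1 (hc₀ hvc)
        have h3 : ⁅b, c⁆ = ⁅u, v⁆ := by
          rw [show b = u * (u⁻¹ * b) by group, show c = v * (v⁻¹ * c) by group]
          generalize u⁻¹ * b = z at h1
          generalize v⁻¹ * c = w at h2
          rw [commutatorElement_def, commutatorElement_def]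
          calc u * z * (v * w) * (u * z)⁻¹ * (v * w)⁻¹
              = u * (z * (v * w) * z⁻¹) * u⁻¹ * (v * w)⁻¹ := by group
            _ = u * (v * w) * u⁻¹ * (v * w)⁻¹ := by rw [← h1, mul_inv_cancel_right]
            _ = u * v * (w * u⁻¹) * w⁻¹ * v⁻¹ := by group
            _ = u * v * u⁻¹ * v⁻¹ := by rw [← h2, mul_assoc (u * v) (u⁻¹ * w), mul_assoc u⁻¹ w,
                mul_inv_cancel, mul_one]
        rw [h3, commutatorElement_def]
        exact mul_mem (mul_mem (mul_mem hu hv) (inv_mem hu)) (inv_mem hv)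
      refine eq_top_iff.2 fun z _ => ?_
      obtain ⟨u, hu, huz⟩ := hU z
      have h1 := mul_mem hu (hle (hd₀ huz))
      rwa [mul_inv_cancel_left] at h1
  let E : S ≃* P₀ := MulEquiv.ofBijective f hbij
  let φ : P₀ →* P₁ := ((MonoidHom.snd P₀ P₁).comp S.subtype).comp E.symm.toMonoidHom
  have hmem : ∀ y, (y, φ y) ∈ S := fun y => by
    have h1 : ((E.symm y : S) : P₀ × P₁).1 = y := E.apply_symm_apply y
    have h2 : (y, φ y) = ((E.symm y : S) : P₀ × P₁) := Prod.ext h1.symm rfl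
    rw [h2]; exact (E.symm y).2
  have huniq : ∀ s ∈ S, φ s.1 = s.2 := fun s hs => by
    have h1 := hbij.1 (a₁ := ⟨_, hmem s.1⟩) (a₂ := ⟨s, hs⟩) rfl
    exact congrArg (fun w : S => (w : P₀ × P₁).2) h1
  have hequiv : ∀ y, φ (α y) = β (φ y) := fun y => huniq _ (hSγ _ (hmem y))
  have hcompat : ∀ y, π₁ (φ y) = π₀ y := fun y => ((hW _).1 (hSW (hmem y))).symm
  refine ⟨φ, ?_, hequiv, hcompat⟩
  rw [← MonoidHom.range_eq_top]
  by_contra hne
  have hle := hi₁ φ.range (by rintro _ ⟨y, rfl⟩; exact ⟨α y, hequiv y⟩) hne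
  obtain ⟨y, hy⟩ := hs₀ (ofAdd 1)
  have h1 := MonoidHom.mem_ker.1 (hle ⟨y, rfl⟩)
  rw [hcompat, hy, ofAdd_eq_one] at h1
  exact one_ne_zero h1

end lift

end Cfsg.Lib.SchmidtCover
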