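import Mathlib

/-!
# Finite fields generated by a root of unity of prime order

`F` is a field of order `p ^ a` where `a` is the order of `p` modulo `q`, and `lam` is an element
of order `q`.  Models simple modules of a cyclic group of prime order `q`, and the invariant
alternating maps on `F`.
-/

set_option autoImplicit false
set_option linter.style.haveILetI false

namespace Cfsg.Lib.SchmidtField

open Polynomial

variable {p q a : ℕ} [hp : Fact p.Prime] [hq : Fact q.Prime]
  {F : Type*} [Field F] [Finite F] [Algebra (ZMod p) F] {lam : F}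

theorem orderOf_pos_of_ne (hpq : p ≠ q) : 0 < orderOf (p : ZMod q) := by
  rw [orderOf_pos_iff, isOfFinOrder_iff_pow_eq_one]
  have h0 : (p : ZMod q) ≠ 0 := by
    rw [Ne, ZMod.natCast_eq_zero_iff]
    exact fun h => hpq ((Nat.prime_dvd_prime_iff_eq hq.out hp.out).1 h).symm
  exact ⟨q - 1, by have := hq.out.two_le; omega, ZMod.pow_card_sub_one_eq_one h0⟩

theorem dvd_pow_sub_one_iff (d : ℕ) : q ∣ p ^ d - 1 ↔ orderOf (p : ZMod q) ∣ d := by
  rw [orderOf_dvd_iff_pow_eq_one, ← ZMod.natCast_eq_zero_iff,
    Nat.cast_sub (Nat.one_le_pow _ _ hp.out.pos), sub_eq_zero, Nat.cast_pow, Nat.cast_one]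

omit hp hq [Algebra (ZMod p) F] in
theorem exists_root (p q : ℕ) [Fact p.Prime] [hq : Fact q.Prime] (a : ℕ) (hd : q ∣ p ^ a - 1)
    (hF : Nat.card F = p ^ a) : ∃ x : F, orderOf x = q := by
  haveI := Fintype.ofFinite F
  have h : q ∣ Nat.card Fˣ := by rw [Nat.card_units, hF]; exact hd
  obtain ⟨u, hu⟩ := exists_prime_orderOf_dvd_card' q h
  exact ⟨(u : F), by rw [orderOf_units, hu]⟩

variable (ha : a = orderOf (p : ZMod q)) (hF : Nat.card F = p ^ a) (hlam : orderOf lam = q)

omit [Finite F] [Algebra (ZMod p) F] in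
include hlam in
theorem ne_zero : lam ≠ 0 := fun h => by
  rw [h, orderOf_zero] at hlam
  exact hq.out.ne_zero hlam.symm

include ha hF hlam in
omit [Algebra (ZMod p) F] in
theorem subring_eq_top (S : Subring F) (hS : lam ∈ S) : S = ⊤ := by
  classical
  have hdvd : Nat.card S.toAddSubgroup ∣ p ^ a := hF ▸ AddSubgroup.card_addSubgroup_dvd_card _
  obtain ⟨d, hd, hcard⟩ := (Nat.dvd_prime_pow hp.out).1 hdvd
  haveI : Fintype S := Fintype.ofFinite S
  haveI : IsDomain S := inferInstance
  letI := Fintype.fieldOfDomain S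
  have hne : (⟨lam, hS⟩ : S) ≠ 0 := fun h => ne_zero hlam (congrArg Subtype.val h)
  have h1 := FiniteField.pow_card_sub_one_eq_one (⟨lam, hS⟩ : S) hne
  have hcd : Fintype.card S = p ^ d := by rw [← Nat.card_eq_fintype_card]; exact hcard
  rw [hcd] at h1
  have h2 : q ∣ p ^ d - 1 := hlam ▸ orderOf_dvd_of_pow_eq_one (congrArg Subtype.val h1)
  have had : a ∣ d := ha ▸ (dvd_pow_sub_one_iff d).1 h2
  have hd0 : d ≠ 0 := by
    rintro rfl
    have h3 : 1 < Fintype.card S := Fintype.one_lt_card
    rw [hcd] at h3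
    simp at h3
  have hda : d = a := le_antisymm hd (Nat.le_of_dvd (Nat.pos_of_ne_zero hd0) had)
  refine eq_top_iff.2 fun x _ => ?_
  have h4 : S.toAddSubgroup = ⊤ := AddSubgroup.eq_top_of_card_eq _ (by rw [hcard, hda, hF])
  exact (h4 ▸ AddSubgroup.mem_top x : x ∈ S.toAddSubgroup)

include ha hF hlam in
theorem aeval_surjective : Function.Surjective (aeval lam : (ZMod p)[X] → F) := by
  intro x
  have h := subring_eq_top ha hF hlam (aeval lam : (ZMod p)[X] →ₐ[ZMod p] F).toRingHom.range
    ⟨X, by simp⟩
  exact (h ▸ Subring.mem_top x : x ∈ (aeval lam : (ZMod p)[X] →ₐ[ZMod p] F).toRingHom.range)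

include ha hF hlam in
omit [Algebra (ZMod p) F] in
theorem invariant_eq (W : AddSubgroup F) (hW : ∀ w ∈ W, lam * w ∈ W) : W = ⊥ ∨ W = ⊤ := by
  let S : Subring F :=
    { carrier := {μ | ∀ w ∈ W, μ * w ∈ W}
      mul_mem' := fun {x y} hx hy w hw => by rw [mul_assoc]; exact hx _ (hy w hw)
      one_mem' := fun w hw => by rwa [one_mul]
      add_mem' := fun {x y} hx hy w hw => by rw [add_mul]; exact add_mem (hx w hw) (hy w hw)
      zero_mem' := fun w _ => by rw [zero_mul]; exact zero_mem _
      neg_mem' := fun {x} hx w hw => by rw [neg_mul]; exact neg_mem (hx w hw) }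
  have hS := subring_eq_top ha hF hlam S hW
  refine W.bot_or_exists_ne_zero.imp id ?_
  rintro ⟨w, hw, hw0⟩
  refine eq_top_iff.2 fun x _ => ?_
  have h1 := (hS ▸ Subring.mem_top (x * w⁻¹) : x * w⁻¹ ∈ S) w hw
  rwa [mul_assoc, inv_mul_cancel₀ hw0, mul_one] at h1

include ha hF hlam in
/-- A simple module for a cyclic group of order `q` without fixed points is `F`. -/
theorem module_model {V : Type*} [AddCommGroup V] [Module (ZMod p) V] [Nontrivial V]
    (T : Module.End (ZMod p) V) (hT : T ^ q = 1) (hfix : ∀ v, T v = v → v = 0)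
    (hirr : ∀ W : AddSubgroup V, (∀ w ∈ W, T w ∈ W) → W = ⊥ ∨ W = ⊤) :
    ∃ k : ℕ, ¬ q ∣ k ∧ ∃ e : F ≃+ V, ∀ μ, e (lam * μ) = (T ^ k) (e μ) := by
  classical
  have hprim : IsPrimitiveRoot lam q := hlam ▸ IsPrimitiveRoot.orderOf lam
  have hint : ∀ x : F, IsIntegral (ZMod p) x := fun x => Algebra.IsIntegral.isIntegral x
  let P : (ZMod p)[X] := ∏ k ∈ Finset.range q, minpoly (ZMod p) (lam ^ k)
  have hP : aeval T P = 0 := by
    obtain ⟨c, hc⟩ : (X ^ q - 1 : (ZMod p)[X]) ∣ P := by
      rw [← Polynomial.map_dvd_map (algebraMap (ZMod p) F) (RingHom.injective _)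
        (by rw [← C_1]; exact monic_X_pow_sub_C 1 hq.out.ne_zero)]
      rw [Polynomial.map_sub, Polynomial.map_pow, map_X, Polynomial.map_one, Polynomial.map_prod,
        ← C_1, X_pow_sub_C_eq_prod hprim hq.out.pos (one_pow q)]
      refine Finset.prod_dvd_prod_of_dvd _ _ fun k _ => ?_
      rw [mul_one, dvd_iff_isRoot, IsRoot, eval_map, ← aeval_def, minpoly.aeval]
    rw [hc, map_mul, map_sub, map_pow, aeval_X, map_one, hT, sub_self, zero_mul]
  obtain ⟨k, hk, hkill⟩ : ∃ k < q, aeval T (minpoly (ZMod p) (lam ^ k)) = 0 := by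
    by_contra hcon
    push Not at hcon
    have hinj : Function.Injective (aeval T P : Module.End (ZMod p) V) := by
      refine Finset.prod_induction _ (fun f => Function.Injective (aeval T f : Module.End (ZMod p) V))
        (fun f g hf hg => ?_) ?_ fun k hk => ?_
      · show Function.Injective (aeval T (f * g) : Module.End (ZMod p) V)
        rw [map_mul, Module.End.coe_mul]; exact hf.comp hg
      · show Function.Injective (aeval T (1 : (ZMod p)[X]) : Module.End (ZMod p) V)
        rw [map_one]; exact Function.injective_id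
      · set f := aeval T (minpoly (ZMod p) (lam ^ k)) with hf
        have hcomm : ∀ v, f (T v) = T (f v) := fun v => by
          have h1 : f * T = T * f := by
            have h2 := congrArg (aeval T) (mul_comm (minpoly (ZMod p) (lam ^ k)) X)
            rwa [map_mul, map_mul, aeval_X] at h2
          exact DFunLike.congr_fun h1 v
        rcases hirr (LinearMap.ker f).toAddSubgroup (fun w hw => by
          rw [Submodule.mem_toAddSubgroup, LinearMap.mem_ker] at hw ⊢
          rw [hcomm, hw, map_zero]) with h | h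
        · rw [← LinearMap.ker_eq_bot, eq_bot_iff]
          intro v hv
          exact (h ▸ hv : v ∈ (⊥ : AddSubgroup V))
        · refine absurd (LinearMap.ext fun v => ?_ : f = 0) (hcon k (Finset.mem_range.1 hk))
          rw [LinearMap.zero_apply, ← LinearMap.mem_ker, ← Submodule.mem_toAddSubgroup, h]
          exact AddSubgroup.mem_top v
    obtain ⟨v, hv⟩ := exists_ne (0 : V)
    rw [hP] at hinj
    exact hv (hinj (by simp))
  have hk0 : k ≠ 0 := by
    rintro rfl
    rw [pow_zero, minpoly.one, map_sub, aeval_X, map_one] at hkill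
    obtain ⟨v, hv⟩ := exists_ne (0 : V)
    exact hv (hfix v (sub_eq_zero.1 (DFunLike.congr_fun hkill v)))
  have hqk : ¬ q ∣ k := Nat.not_dvd_of_pos_of_lt (Nat.pos_of_ne_zero hk0) hk
  obtain ⟨k', -, hk'⟩ :=
    Nat.exists_mul_mod_eq_one_of_coprime ((hq.out.coprime_iff_not_dvd.2 hqk).symm) hq.out.one_lt
  refine ⟨k', fun h => ?_, ?_⟩
  · obtain ⟨j, rfl⟩ := h
    rw [← mul_assoc, mul_comm k q, mul_assoc, Nat.mul_mod_right] at hk'
    exact zero_ne_one hk'
  set U := T ^ k' with hU
  have hkk : k * k' = 1 + q * (k * k' / q) := by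
    conv_lhs => rw [← Nat.mod_add_div (k * k') q, hk']
  have hTU : U ^ k = T := by
    rw [hU, ← pow_mul, mul_comm, hkk, pow_add, pow_mul, hT, one_pow, pow_one, mul_one]
  have hlk : (lam ^ k) ^ k' = lam := by
    rw [← pow_mul, hkk, pow_add, pow_mul, hprim.pow_eq_one, one_pow, pow_one, mul_one]
  have hwell : ∀ f g : (ZMod p)[X], aeval lam f = aeval lam g → aeval U f = aeval U g := by
    intro f g hfg
    have h1 : minpoly (ZMod p) lam ∣ f - g := minpoly.dvd _ _ (by rw [map_sub, hfg, sub_self])
    have h2 : aeval U (minpoly (ZMod p) lam) = 0 := by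
      obtain ⟨c, hc⟩ : minpoly (ZMod p) (lam ^ k) ∣ (minpoly (ZMod p) lam).comp (X ^ k') :=
        minpoly.dvd _ _ (by rw [aeval_comp, map_pow, aeval_X, hlk, minpoly.aeval])
      have h3 := congrArg (aeval T) hc
      rw [aeval_comp, map_pow, aeval_X, map_mul, hkill, zero_mul] at h3
      exact h3
    obtain ⟨c, hc⟩ := h1
    rw [← sub_eq_zero, ← map_sub, hc, map_mul, h2, zero_mul]
  obtain ⟨v, hv⟩ := exists_ne (0 : V)
  choose g hg using aeval_surjective (p := p) ha hF hlam
  let R : F → Module.End (ZMod p) V := fun μ => aeval U (g μ)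
  have hR : ∀ f : (ZMod p)[X], R (aeval lam f) = aeval U f := fun f => hwell _ _ (hg _)
  have hRadd : ∀ x y, R (x + y) = R x + R y := fun x y => by
    rw [show x + y = aeval lam (g x + g y) by rw [map_add, hg, hg], hR, map_add]
  have hRmul : ∀ x y, R (x * y) = R x * R y := fun x y => by
    rw [show x * y = aeval lam (g x * g y) by rw [map_mul, hg, hg], hR, map_mul]
  have hR1 : R 1 = 1 := by rw [← map_one (aeval lam : (ZMod p)[X] →ₐ[ZMod p] F), hR, map_one]
  have hRlam : R lam = U := by
    have := hR X
    rwa [aeval_X, aeval_X] at this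
  let e : F →+ V := AddMonoidHom.mk' (fun μ => R μ v) fun x y => by
    rw [hRadd, LinearMap.add_apply]
  have hecomm : ∀ μ, e (lam * μ) = U (e μ) := fun μ => by
    show R (lam * μ) v = U (R μ v)
    rw [hRmul, hRlam]; rfl
  have hinj : Function.Injective e := by
    rw [injective_iff_map_eq_zero]
    intro μ hμ
    by_contra h0
    apply hv
    calc v = R (μ⁻¹ * μ) v := by rw [inv_mul_cancel₀ h0, hR1]; rfl
      _ = R μ⁻¹ (e μ) := by rw [hRmul]; rfl
      _ = 0 := by rw [hμ, map_zero]
  have hsurj : Function.Surjective e := by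
    have hinv : ∀ (j : ℕ) w, w ∈ e.range → (U ^ j) w ∈ e.range := by
      intro j
      induction j with
      | zero => exact fun w hw => hw
      | succ j ih =>
        rintro w hw
        rw [pow_succ', Module.End.mul_apply]
        obtain ⟨μ, hμ⟩ := ih w hw
        exact ⟨lam * μ, by rw [hecomm, hμ]⟩
    rcases hirr e.range (fun w hw => hTU ▸ hinv k w hw) with h | h
    · exfalso
      have h1 : v ∈ e.range := ⟨1, by show R 1 v = v; rw [hR1]; rfl⟩
      rw [h, AddSubgroup.mem_bot] at h1
      exact hv h1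
    · exact AddMonoidHom.range_eq_top.1 h
  exact ⟨AddEquiv.ofBijective e ⟨hinj, hsurj⟩, hecomm⟩

section bilinear

variable {A : Type*} [CommGroup A] (B : F → F → A)
  (hl : ∀ x y z, B (x + y) z = B x z * B y z) (hr : ∀ x y z, B x (y + z) = B x y * B x z)
  (hinv : ∀ x y, B (lam * x) (lam * y) = B x y)

omit hp hq [Finite F] [Algebra (ZMod p) F] in
include hl in
theorem zero_left (y : F) : B 0 y = 1 := by
  have h := hl 0 0 y
  rw [add_zero] at h
  exact left_eq_mul.1 h

omit hp hq [Finite F] [Algebra (ZMod p) F] in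
include hl in
theorem neg_left (x y : F) : B (-x) y = (B x y)⁻¹ := by
  have h := hl (-x) x y
  rw [neg_add_cancel, zero_left B hl] at h
  exact eq_inv_of_mul_eq_one_left h.symm

omit hp hq [Finite F] [Algebra (ZMod p) F] in
include hr in
theorem zero_right (x : F) : B x 0 = 1 := zero_left (fun a b => B b a) (fun x y z => hr z x y) x

omit hp hq [Finite F] [Algebra (ZMod p) F] in
include hr in
theorem neg_right (x y : F) : B x (-y) = (B x y)⁻¹ :=
  neg_left (fun a b => B b a) (fun x y z => hr z x y) y x

include hl hr hinv ha hF hlam in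
omit [Algebra (ZMod p) F] in
/-- An invariant bilinear map is balanced with respect to any endomorphism inverting `lam`. -/
theorem balanced (s : F →+* F) (hs : s lam * lam = 1) :
    ∀ μ x y, B (μ * x) y = B x (s μ * y) := by
  let S : Subring F :=
    { carrier := {μ | ∀ x y, B (μ * x) y = B x (s μ * y)}
      mul_mem' := fun {a b} ha' hb' x y => by
        rw [mul_assoc, ha', hb', map_mul, ← mul_assoc, mul_comm (s b)]
      one_mem' := fun x y => by rw [map_one, one_mul, one_mul]
      add_mem' := fun {a b} ha' hb' x y => by rw [add_mul, hl, map_add, add_mul, hr, ha', hb']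
      zero_mem' := fun x y => by rw [map_zero, zero_mul, zero_mul, zero_left B hl, zero_right B hr]
      neg_mem' := fun {a} ha' x y => by
        rw [neg_mul, map_neg, neg_mul, neg_left B hl, neg_right B hr, ha'] }
  have hS := subring_eq_top ha hF hlam S (fun x y => by
    conv_lhs => rw [show y = lam * (s lam * y) by rw [← mul_assoc, mul_comm lam, hs, one_mul]]
    rw [hinv])
  exact fun μ => (hS ▸ Subring.mem_top μ : μ ∈ S)

include hl hr hinv ha hF hlam in
/-- For odd degree an invariant alternating map vanishes. -/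
theorem eq_one_of_odd (haodd : a % 2 = 1) (halt : ∀ x, B x x = 1) : ∀ x y, B x y = 1 := by
  classical
  have ha0 : a ≠ 0 := by omega
  by_cases hrecip : aeval lam⁻¹ (minpoly (ZMod p) lam) = 0
  · -- then `lam = lam⁻¹`, `F` is the prime field
    have hint : IsIntegral (ZMod p) lam := Algebra.IsIntegral.isIntegral lam
    have hconj : IsConjRoot (ZMod p) lam⁻¹ lam :=
      (minpoly.eq_of_irreducible_of_monic (minpoly.irreducible hint) hrecip (minpoly.monic hint)).symm
    obtain ⟨t, ht⟩ := isConjRoot_iff_exists_algEquiv.1 hconj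
    have htt : t ^ 2 = 1 := by
      refine AlgEquiv.ext fun x => ?_
      obtain ⟨f, rfl⟩ := aeval_surjective (p := p) ha hF hlam x
      rw [sq, AlgEquiv.mul_apply, ← Polynomial.aeval_algHom_apply, ← Polynomial.aeval_algHom_apply,
        ht, map_inv₀, ht, inv_inv, AlgEquiv.one_apply]
    have ht1 : t = 1 := by
      have hcard : Nat.card Gal(F/ZMod p) = a := by
        rw [IsGalois.card_aut_eq_finrank]
        haveI := Fintype.ofFinite F
        have h := Module.natCard_eq_pow_finrank (K := ZMod p) (V := F)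
        rw [hF, Nat.card_zmod] at h
        exact (Nat.pow_right_injective hp.out.two_le h).symm
      have h1 : orderOf t ∣ Nat.gcd 2 a :=
        Nat.dvd_gcd (orderOf_dvd_of_pow_eq_one htt) (hcard ▸ orderOf_dvd_natCard t)
      rw [(Nat.coprime_two_left.2 (Nat.odd_iff.2 haodd))] at h1
      exact orderOf_eq_one_iff.1 (Nat.dvd_one.1 h1)
    rw [ht1, AlgEquiv.one_apply] at ht
    have hl2 : lam = 1 ∨ lam = -1 := by
      rw [← sq_eq_one_iff, sq]
      nth_rw 2 [ht]
      exact mul_inv_cancel₀ (ne_zero hlam)
    have hnat : ∀ x : F, ∃ n : ℤ, (n : F) = x := by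
      have hS := subring_eq_top ha hF hlam (Int.castRingHom F).range (by
        rcases hl2 with rfl | rfl
        · exact ⟨1, by simp⟩
        · exact ⟨-1, by simp⟩)
      exact fun x => (hS ▸ Subring.mem_top x : x ∈ (Int.castRingHom F).range)
    intro x y
    obtain ⟨m, rfl⟩ := hnat x
    obtain ⟨n, rfl⟩ := hnat y
    have hn : ∀ (n : ℤ) (u : F), B u (n : F) = B u 1 ^ n := by
      intro n u
      induction n with
      | zero => simp [zero_right B hr]
      | succ n ih => push_cast; rw [hr, zpow_add_one, ← ih]; push_cast; rfl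
      | pred n ih =>
        push_cast at ih ⊢
        rw [sub_eq_add_neg, hr, neg_right B hr (y := 1), zpow_sub_one, ih]
    have hm : ∀ (n : ℤ), B (n : F) 1 = B 1 1 ^ n := by
      intro n
      induction n with
      | zero => simp [zero_left B hl]
      | succ n ih => push_cast; rw [hl, zpow_add_one, ← ih]; push_cast; rfl
      | pred n ih =>
        push_cast at ih ⊢
        rw [sub_eq_add_neg, hl, neg_left B hl (x := 1), zpow_sub_one, ih]
    rw [hn, hm, halt, one_zpow, one_zpow]
  · -- `c := m(lam⁻¹) ≠ 0` is balanced with `m(lam) = 0`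
    intro x y
    have key : ∀ f : (ZMod p)[X], ∀ x y, B (aeval lam f * x) y = B x (aeval lam⁻¹ f * y) := by
      intro f
      have hnat : ∀ (n : ℕ) x y, B ((n : F) * x) y = B x ((n : F) * y) := fun n => by
        induction n with
        | zero => intro x y; simp [zero_left B hl, zero_right B hr]
        | succ n ih => intro x y; simp [add_mul, hl, hr, ih]
      induction f using Polynomial.induction_on' with
      | add f g hf hg => intro x y; rw [map_add, map_add, add_mul, add_mul, hl, hr, hf, hg]
      | monomial n c =>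
        induction n with
        | zero =>
          intro x y
          rw [monomial_zero_left, aeval_C, aeval_C, ← ZMod.natCast_zmod_val c, map_natCast, hnat]
        | succ n ih =>
          intro x y
          rw [← monomial_mul_X, map_mul, map_mul, aeval_X, aeval_X, mul_assoc, ih, mul_assoc]
          conv_rhs => rw [mul_left_comm]
          conv_lhs => rw [show aeval lam⁻¹ ((monomial n) c) * y
              = lam * (lam⁻¹ * (aeval lam⁻¹ ((monomial n) c) * y)) by
            rw [mul_inv_cancel_left₀ (ne_zero hlam)]]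
          rw [hinv]
    have h := key (minpoly (ZMod p) lam) x ((aeval lam⁻¹ (minpoly (ZMod p) lam))⁻¹ * y)
    rw [minpoly.aeval, zero_mul, zero_left B hl, mul_inv_cancel_left₀ hrecip] at h
    exact h.symm

end bilinear

end Cfsg.Lib.SchmidtField
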