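import Cfsg.Agent.Lib.Core.PSolvable
import Cfsg.Agent.Lib.Core.Fitting
import Cfsg.Agent.S0007
import Cfsg.Agent.S0144

/-!
# Wielandt's three-subgroup criterion and the converse of Hall's theorem
-/

set_option autoImplicit false

namespace Cfsg.Lib.ThreeSolvable

open Subgroup

universe u

theorem relIndex_eq_index_of_mul {G : Type u} [Group G] {A B : Subgroup G}
    (hAB : ∀ g : G, ∃ a ∈ A, ∃ b ∈ B, g = a * b) : B.relIndex A = B.index := by
  rw [relIndex, index, index]
  refine Nat.card_eq_of_bijective (Quotient.map' (fun a : A => (a : G)) fun a b hab => by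
    rw [QuotientGroup.leftRel_apply] at hab ⊢
    exact hab) ⟨?_, ?_⟩
  · rintro ⟨a⟩ ⟨b⟩ hab
    have h1 : ((a : G))⁻¹ * b ∈ B := QuotientGroup.leftRel_apply.1 (Quotient.eq''.1 hab)
    exact Quotient.sound' (QuotientGroup.leftRel_apply.2 h1)
  · rintro ⟨g⟩
    obtain ⟨a, ha, b, hb, rfl⟩ := hAB g
    refine ⟨Quotient.mk'' ⟨a, ha⟩, Quotient.sound' ?_⟩
    rw [QuotientGroup.leftRel_apply, inv_mul_cancel_left]
    exact hb

theorem relIndex_normal_dvd_index {G : Type u} [Group G] [Finite G] (N : Subgroup G) [N.Normal]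
    (D : Subgroup G) : D.relIndex N ∣ D.index := by
  have h5 := relIndex_mul_index (inf_le_left : D ⊓ N ≤ D)
  have h6 := relIndex_mul_index (inf_le_right : D ⊓ N ≤ N)
  rw [inf_relIndex_left, ← relIndex_sup_right (H := D) (K := N)] at h5
  rw [inf_relIndex_right, ← relIndex_mul_index (le_sup_right : N ≤ D ⊔ N)] at h6
  refine ⟨(D ⊔ N).index, ?_⟩
  have hpos : 0 < N.relIndex (D ⊔ N) :=
    Nat.pos_of_ne_zero fun h => index_ne_zero_of_finite (H := N) (by
      rw [← relIndex_mul_index (le_sup_right : N ≤ D ⊔ N), h, zero_mul])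
  apply Nat.eq_of_mul_eq_mul_left hpos
  calc N.relIndex (D ⊔ N) * D.index = (D ⊓ N).index := h5
    _ = D.relIndex N * (N.relIndex (D ⊔ N) * (D ⊔ N).index) := h6.symm
    _ = _ := by ring

theorem three_solvable : ∀ (n : ℕ) (G : Type u) [Group G] [Finite G], Nat.card G ≤ n →
    ∀ H₁ H₂ H₃ : Subgroup G, Group.IsSolvable H₁ → Group.IsSolvable H₂ → Group.IsSolvable H₃ →
    (∀ g : G, ∃ x ∈ H₁, ∃ y ∈ H₂, g = x * y) → (∀ g : G, ∃ x ∈ H₁, ∃ y ∈ H₃, g = x * y) →
    H₂.index.Coprime H₃.index → Group.IsSolvable G := by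
  intro n
  induction n with
  | zero => intro G _ _ h; exact absurd h (Nat.not_le.2 Nat.card_pos)
  | succ n ih =>
    intro G _ _ hn H₁ H₂ H₃ h₁ h₂ h₃ h12 h13 hcop
    by_cases hb : H₁ = ⊥
    · have ht : H₂ = ⊤ := eq_top_iff.2 fun g _ => by
        obtain ⟨x, hx, y, hy, rfl⟩ := h12 g
        rw [hb, mem_bot] at hx
        rw [hx, one_mul]; exact hy
      exact Group.isSolvable_of_surjective (f := H₂.subtype) fun g => ⟨⟨g, ht ▸ mem_top g⟩, rfl⟩
    haveI : Nontrivial H₁ := (nontrivial_iff_ne_bot H₁).2 hb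
    haveI := h₁
    obtain ⟨N, hN⟩ := Cfsg.Lib.Core.exists_isMinNormal_univ (G := H₁)
    obtain ⟨-, p, hp, -, hNp⟩ := Cfsg.Lib.Core.minimal_solvable_elementary hN inferInstance
    haveI : Fact p.Prime := ⟨hp⟩
    haveI := hN.1
    obtain ⟨K, hKs, hK, hKp⟩ : ∃ K : Subgroup G, Group.IsSolvable K ∧
        (∀ g : G, ∃ x ∈ H₁, ∃ y ∈ K, g = x * y) ∧ ¬ p ∣ K.index := by
      by_cases hd : p ∣ H₂.index
      · exact ⟨H₃, h₃, h13, fun hd3 => hp.ne_one (Nat.eq_one_of_dvd_coprimes hcop hd hd3)⟩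
      · exact ⟨H₂, h₂, h12, hd⟩
    have hNK : N ≤ K.subgroupOf H₁ := by
      have h1 := relIndex_normal_dvd_index N (K.subgroupOf H₁)
      obtain ⟨k, hk⟩ := IsPGroup.iff_card.1 hNp
      obtain ⟨i, -, hi⟩ := (Nat.dvd_prime_pow hp).1 (hk ▸ relIndex_dvd_card (K.subgroupOf H₁) N)
      rcases Nat.eq_zero_or_pos i with rfl | hi0
      · exact relIndex_eq_one.1 (by simpa using hi)
      · exfalso
        refine hKp ?_
        rw [hi] at h1
        have h2 : (K.subgroupOf H₁).index = K.index := relIndex_eq_index_of_mul hK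
        exact h2 ▸ (dvd_pow_self p hi0.ne').trans h1
    set M := normalClosure ((N.map H₁.subtype : Subgroup G) : Set G)
    have hMK : M ≤ K := by
      rw [show M = normalClosure ((N.map H₁.subtype : Subgroup G) : Set G) from rfl, normalClosure,
        closure_le]
      intro z hz
      obtain ⟨a, ha, hc⟩ := Group.mem_conjugatesOfSet_iff.1 hz
      obtain ⟨g, rfl⟩ := isConj_iff.1 hc
      obtain ⟨m, hm, rfl⟩ := ha
      obtain ⟨x, hx, y, hy, hxy⟩ := hK g⁻¹
      have hg : g = y⁻¹ * x⁻¹ := by rw [← inv_inv g, hxy, mul_inv_rev]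
      have h1 : x⁻¹ * (m : G) * x ∈ K := by
        have := hNK (hN.1.conj_mem m hm (⟨x, hx⟩ : H₁)⁻¹)
        rw [mem_subgroupOf] at this
        simpa using this
      have h2 := K.mul_mem (K.mul_mem (K.inv_mem hy) h1) hy
      rw [hg]
      simpa [mul_assoc] using h2
    have hMne : M ≠ ⊥ := fun hb' => hN.2.1 (by
      have : N.map H₁.subtype = ⊥ := le_bot_iff.1 (le_normalClosure.trans hb'.le)
      rwa [Subgroup.map_eq_bot_iff, ker_subtype, le_bot_iff] at this)
    haveI hMn : M.Normal := normalClosure_normal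
    haveI : Group.IsSolvable M := Cfsg.Lib.Core.isSolvable_of_le hMK hKs
    have hf := QuotientGroup.mk'_surjective M
    haveI : Group.IsSolvable (G ⧸ M) := by
      refine ih (G ⧸ M) (by have := Cfsg.Lib.Core.card_quotient_lt hMne; omega)
        (H₁.map (QuotientGroup.mk' M)) (H₂.map (QuotientGroup.mk' M)) (H₃.map (QuotientGroup.mk' M))
        (Cfsg.Lib.Core.isSolvable_map h₁ _)
        (Cfsg.Lib.Core.isSolvable_map h₂ _)
        (Cfsg.Lib.Core.isSolvable_map h₃ _)
        ?_ ?_ ?_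
      · intro z
        obtain ⟨g, rfl⟩ := hf z
        obtain ⟨x, hx, y, hy, rfl⟩ := h12 g
        exact ⟨_, mem_map_of_mem _ hx, _, mem_map_of_mem _ hy, map_mul _ _ _⟩
      · intro z
        obtain ⟨g, rfl⟩ := hf z
        obtain ⟨x, hx, y, hy, rfl⟩ := h13 g
        exact ⟨_, mem_map_of_mem _ hx, _, mem_map_of_mem _ hy, map_mul _ _ _⟩
      · exact (hcop.coprime_dvd_left (index_map_dvd _ hf)).coprime_dvd_right (index_map_dvd _ hf)
    exact Group.isSolvable_of_ker_le_range M.subtype (QuotientGroup.mk' M)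
      (by rw [QuotientGroup.ker_mk', range_subtype])

/-- Three solvable subgroups with pairwise coprime indices force solvability. -/
theorem of_coprime_indices {G : Type u} [Group G] [Finite G] (H₁ H₂ H₃ : Subgroup G)
    (h₁ : Group.IsSolvable H₁) (h₂ : Group.IsSolvable H₂) (h₃ : Group.IsSolvable H₃)
    (h12 : H₁.index.Coprime H₂.index) (h13 : H₁.index.Coprime H₃.index)
    (h23 : H₂.index.Coprime H₃.index) : Group.IsSolvable G :=
  three_solvable _ G le_rfl H₁ H₂ H₃ h₁ h₂ h₃ (Cfsg.Agent.S0007.result H₁ H₂ h12).2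
    (Cfsg.Agent.S0007.result H₁ H₃ h13).2 h23

/-- A finite group with at most two prime divisors is solvable. -/
theorem of_card_primeFactors_le_two {G : Type u} [Group G] [Finite G]
    (h : (Nat.card G).primeFactors.card ≤ 2) : Group.IsSolvable G := by
  have hN : Nat.card G ≠ 0 := Nat.card_pos.ne'
  have hprod := Nat.prod_factorization_pow_eq_self hN
  rw [Finsupp.prod, Nat.support_factorization] at hprod
  interval_cases hc : (Nat.card G).primeFactors.card
  · rw [Finset.card_eq_zero.1 hc, Finset.prod_empty] at hprod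
    exact Cfsg.Agent.S0144.result 2 3 0 0 Nat.prime_two Nat.prime_three (by rw [← hprod]; rfl)
  · obtain ⟨p, hp⟩ := Finset.card_eq_one.1 hc
    rw [hp, Finset.prod_singleton] at hprod
    have hpp : p.Prime := Nat.prime_of_mem_primeFactors (hp ▸ Finset.mem_singleton_self p)
    exact Cfsg.Agent.S0144.result p 2 ((Nat.card G).factorization p) 0 hpp Nat.prime_two (by rw [pow_zero, mul_one, hprod])
  · obtain ⟨p, q, hne, hpq⟩ := Finset.card_eq_two.1 hc
    rw [hpq, Finset.prod_pair hne] at hprod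
    exact Cfsg.Agent.S0144.result p q _ _
      (Nat.prime_of_mem_primeFactors (n := Nat.card G) (by rw [hpq]; simp))
      (Nat.prime_of_mem_primeFactors (n := Nat.card G) (by rw [hpq]; simp))
      hprod.symm

end Cfsg.Lib.ThreeSolvable
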