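import Cfsg.Prelude.Def_SolvableStructure
import Cfsg.Agent.Lib.Solv.ThreeSolvable
import Cfsg.Agent.Lib.Solv.Product
import Cfsg.Agent.Lib.Solv.Hall
import Cfsg.Agent.Lib.Core.Smul

/-!
# Sylow systems and complement systems
-/

set_option autoImplicit false

namespace Cfsg.Lib.SylowSystem

open Subgroup
open scoped Pointwise

universe u

variable {G : Type u} [Group G]

/-- The product of two permutable subgroups is their join. -/
theorem coe_sup_of_perm {A B : Subgroup G} (h : (A : Set G) * B = (B : Set G) * A) :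
    ((A ⊔ B : Subgroup G) : Set G) = (A : Set G) * B := by
  have hmul : ((A : Set G) * B) * ((A : Set G) * B) = (A : Set G) * B := by
    rw [mul_assoc, ← mul_assoc (B : Set G), ← h, mul_assoc (A : Set G) B B, coe_mul_coe,
      ← mul_assoc, coe_mul_coe]
  let S : Subgroup G :=
    { carrier := (A : Set G) * B
      one_mem' := ⟨1, A.one_mem, 1, B.one_mem, one_mul 1⟩
      mul_mem' := fun {x y} hx hy => hmul ▸ Set.mul_mem_mul hx hy
      inv_mem' := fun {x} hx => by
        obtain ⟨a, ha, b, hb, rfl⟩ := hx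
        rw [h]
        exact ⟨b⁻¹, B.inv_mem hb, a⁻¹, A.inv_mem ha, by simp⟩ }
  have hS : A ⊔ B = S := le_antisymm
    (sup_le (fun a ha => ⟨a, ha, 1, B.one_mem, mul_one a⟩) (fun b hb => ⟨1, A.one_mem, b, hb, one_mul b⟩))
    (fun x hx => by
      obtain ⟨a, ha, b, hb, rfl⟩ := hx
      exact mul_mem_sup ha hb)
  rw [hS]; rfl

theorem prod_primes_image (t : Finset ℕ) (ht : ∀ l ∈ t, l.Prime) (f : ℕ → ℕ) :
    ∏ l ∈ (t.attach.image fun l => (⟨l.1, ht l.1 l.2⟩ : Nat.Primes)), f (l : ℕ) = ∏ l ∈ t, f l := by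
  refine Finset.prod_bij (fun l _ => (l : ℕ)) (fun l hl => ?_) (fun a _ b _ h => Subtype.ext h)
    (fun l hl => ⟨⟨l, ht l hl⟩, Finset.mem_image.2 ⟨⟨l, hl⟩, Finset.mem_attach _ _, rfl⟩, rfl⟩)
    (fun l _ => rfl)
  obtain ⟨⟨m, hm⟩, -, rfl⟩ := Finset.mem_image.1 hl
  exact hm

variable [Finite G]

theorem card_sup_of_perm {A B : Subgroup G} (h : (A : Set G) * B = (B : Set G) * A)
    (hcop : (Nat.card A).Coprime (Nat.card B)) : Nat.card ↥(A ⊔ B) = Nat.card A * Nat.card B := by
  have h1 : Nat.card ↥(A ⊔ B) = Nat.card ((A : Set G) * (B : Set G) : Set G) :=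
    Nat.card_congr (Equiv.setCongr (coe_sup_of_perm h))
  have hinf : B ⊓ A = ⊥ := inf_eq_bot_of_coprime hcop.symm
  rw [h1, Cfsg.Lib.Solv.card_mul_set, ← inf_relIndex_right, hinf, relIndex_bot_left, mul_comm]

/-- A family of pairwise permutable Sylow subgroups, joined over a finite set of primes. -/
theorem perm_sup_finset (S : (p : Nat.Primes) → Sylow (p : ℕ) G)
    (hS : ∀ p q : Nat.Primes, (S p : Set G) * (S q : Set G) = (S q : Set G) * (S p : Set G))
    (s : Finset Nat.Primes) :
    (∀ r : Nat.Primes,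
      ((Finset.sup s (fun p => (S p : Subgroup G)) : Subgroup G) : Set G) * (S r : Set G) =
      (S r : Set G) * ((Finset.sup s (fun p => (S p : Subgroup G)) : Subgroup G) : Set G)) ∧
    Nat.card ↥(Finset.sup s (fun p => (S p : Subgroup G)) : Subgroup G) =
      ∏ p ∈ s, (p : ℕ) ^ (Nat.card G).factorization p := by
  classical
  induction s using Finset.induction_on with
  | empty =>
    refine ⟨fun r => ?_, by simp⟩
    simp
  | insert q s hq ih =>
    obtain ⟨ih1, ih2⟩ := ih
    rw [Finset.sup_insert]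
    set T := s.sup fun p => (S p : Subgroup G)
    have hqT : ((S q : Subgroup G) : Set G) * (T : Set G) = (T : Set G) * ((S q : Subgroup G) : Set G) :=
      (ih1 q).symm
    have hcoe := coe_sup_of_perm hqT
    refine ⟨fun r => ?_, ?_⟩
    · rw [hcoe, mul_assoc, ih1 r, ← mul_assoc, ← mul_assoc]
      congr 1
      exact hS q r
    · haveI : Fact (q : ℕ).Prime := ⟨q.2⟩
      rw [card_sup_of_perm hqT ?_, Finset.prod_insert hq, ih2, (S q).card_eq_multiplicity]
      rw [ih2, (S q).card_eq_multiplicity]
      refine Nat.Coprime.prod_right fun p hp => Nat.Coprime.pow _ _ ?_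
      exact (Nat.coprime_primes q.2 p.2).2 fun h => hq (Subtype.ext h ▸ hp)

/-- Converse of Hall's theorem: Hall complements for all primes force solvability. -/
theorem solvable_of_complements_aux : ∀ (n : ℕ) (G : Type u) [Group G] [Finite G], Nat.card G ≤ n →
    (∀ p : ℕ, p.Prime → ∃ H : Subgroup G, H.index = p ^ (Nat.card G).factorization p) →
    Group.IsSolvable G := by
  intro n
  induction n with
  | zero => intro G _ _ h; exact absurd h (Nat.not_le.2 Nat.card_pos)
  | succ n ih =>
    intro G _ _ hn h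
    by_cases h2 : (Nat.card G).primeFactors.card ≤ 2
    · exact Cfsg.Lib.ThreeSolvable.of_card_primeFactors_le_two h2
    obtain ⟨p, q, r, hp, hq, hr, hpq, hpr, hqr⟩ :
        ∃ p q r, p ∈ (Nat.card G).primeFactors ∧ q ∈ (Nat.card G).primeFactors ∧
          r ∈ (Nat.card G).primeFactors ∧ p ≠ q ∧ p ≠ r ∧ q ≠ r :=
      Finset.two_lt_card_iff.1 (by omega)
    have key : ∀ p ∈ (Nat.card G).primeFactors, ∀ H : Subgroup G,
        H.index = p ^ (Nat.card G).factorization p → Group.IsSolvable H := by
      intro p hp H hH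
      have hpp := Nat.prime_of_mem_primeFactors hp
      have hpos : 0 < (Nat.card G).factorization p := by
        rw [Nat.pos_iff_ne_zero, ← Finsupp.mem_support_iff, Nat.support_factorization]; exact hp
      have hne : H ≠ ⊤ := fun ht => by
        rw [ht, index_top] at hH
        exact absurd hH.symm (Nat.one_lt_pow hpos.ne' hpp.one_lt).ne'
      have hcard := H.card_mul_index
      have hfac : ∀ l, l ≠ p → (Nat.card H).factorization l = (Nat.card G).factorization l := by
        intro l hl
        rw [← hcard, Nat.factorization_mul Nat.card_pos.ne' index_ne_zero_of_finite, hH,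
          hpp.factorization_pow]
        simp [hl]
      refine ih H (by have := Cfsg.Lib.Core.lt_card_of_ne_top hne; omega) fun l hl => ?_
      by_cases hlp : l = p
      · subst hlp
        refine ⟨⊤, ?_⟩
        have : (Nat.card H).factorization l = 0 := by
          have h1 : (Nat.card G).factorization l = (Nat.card H).factorization l + (Nat.card G).factorization l := by
            conv_lhs => rw [← hcard, Nat.factorization_mul Nat.card_pos.ne' index_ne_zero_of_finite, hH,
              hpp.factorization_pow]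
            simp
          omega
        rw [this, pow_zero, index_top]
      · obtain ⟨L, hL⟩ := h l hl
        refine ⟨L.subgroupOf H, ?_⟩
        have hc : H.index.Coprime L.index := by
          rw [hH, hL]; exact ((Nat.coprime_primes hpp hl).2 (Ne.symm hlp)).pow _ _
        show L.relIndex H = _
        rw [Cfsg.Lib.ThreeSolvable.relIndex_eq_index_of_mul (Cfsg.Agent.S0007.result H L hc).2, hL,
          hfac l hlp]
    obtain ⟨Hp, hHp⟩ := h p (Nat.prime_of_mem_primeFactors hp)
    obtain ⟨Hq, hHq⟩ := h q (Nat.prime_of_mem_primeFactors hq)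
    obtain ⟨Hr, hHr⟩ := h r (Nat.prime_of_mem_primeFactors hr)
    have hc : ∀ {a b i j : ℕ}, a.Prime → b.Prime → a ≠ b → (a ^ i).Coprime (b ^ j) :=
      fun ha hb hab => ((Nat.coprime_primes ha hb).2 hab).pow _ _
    exact Cfsg.Lib.ThreeSolvable.of_coprime_indices Hp Hq Hr (key p hp Hp hHp) (key q hq Hq hHq)
      (key r hr Hr hHr)
      (hHp ▸ hHq ▸ hc (Nat.prime_of_mem_primeFactors hp) (Nat.prime_of_mem_primeFactors hq) hpq)
      (hHp ▸ hHr ▸ hc (Nat.prime_of_mem_primeFactors hp) (Nat.prime_of_mem_primeFactors hr) hpr)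
      (hHq ▸ hHr ▸ hc (Nat.prime_of_mem_primeFactors hq) (Nat.prime_of_mem_primeFactors hr) hqr)

theorem solvable_of_complements {G : Type u} [Group G] [Finite G]
    (h : ∀ p : ℕ, p.Prime → ∃ H : Subgroup G, H.index = p ^ (Nat.card G).factorization p) :
    Group.IsSolvable G :=
  solvable_of_complements_aux _ G le_rfl h

theorem solvable_of_sylow_system (S : (p : Nat.Primes) → Sylow (p : ℕ) G)
    (hS : ∀ p q : Nat.Primes, (S p : Set G) * (S q : Set G) = (S q : Set G) * (S p : Set G)) :
    Group.IsSolvable G := by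
  classical
  refine solvable_of_complements fun p hp => ?_
  have hN : Nat.card G ≠ 0 := Nat.card_pos.ne'
  set s : Finset Nat.Primes :=
    (((Nat.card G).primeFactors.erase p).attach.image fun l =>
      (⟨l.1, Nat.prime_of_mem_primeFactors (Finset.mem_of_mem_erase l.2)⟩ : Nat.Primes))
  refine ⟨s.sup fun q => (S q : Subgroup G), ?_⟩
  have h1 := (perm_sup_finset S hS s).2
  have h2 := (s.sup fun q => (S q : Subgroup G)).card_mul_index
  have h3 : ∏ l ∈ s, (l : ℕ) ^ (Nat.card G).factorization l =
      ∏ l ∈ (Nat.card G).primeFactors.erase p, l ^ (Nat.card G).factorization l :=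
    prod_primes_image _ (fun l hl => Nat.prime_of_mem_primeFactors (Finset.mem_of_mem_erase hl))
      fun l => l ^ (Nat.card G).factorization l
  rw [h1, h3] at h2
  conv_rhs at h2 => rw [← Nat.prod_factorization_pow_eq_self hN]
  rw [Finsupp.prod, Nat.support_factorization] at h2
  by_cases hp' : p ∈ (Nat.card G).primeFactors
  · rw [← Finset.mul_prod_erase _ _ hp', mul_comm (p ^ _)] at h2
    refine Nat.eq_of_mul_eq_mul_left (Finset.prod_pos fun l hl => ?_) h2
    exact pow_pos (Nat.prime_of_mem_primeFactors (Finset.mem_of_mem_erase hl)).pos _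
  · rw [Finset.erase_eq_of_notMem hp'] at h2
    have h4 : (Nat.card G).factorization p = 0 := by
      rw [← Finsupp.notMem_support_iff, Nat.support_factorization]; exact hp'
    rw [h4, pow_zero]
    have h5 : 0 < ∏ l ∈ (Nat.card G).primeFactors, l ^ (Nat.card G).factorization l :=
      Finset.prod_pos fun l hl => pow_pos (Nat.prime_of_mem_primeFactors hl).pos _
    exact (Nat.mul_eq_left h5.ne').1 h2

/-! ### Complement systems -/

open Cfsg

theorem exists_complementSystem [Group.IsSolvable G] :
    ∃ K : Nat.Primes → Subgroup G, IsComplementSystem K := by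
  suffices h : ∀ p : Nat.Primes, ∃ K : Subgroup G, K.index = (p : ℕ) ^ (Nat.card G).factorization p by
    choose K hK using h
    exact ⟨K, hK⟩
  intro p
  set N := Nat.card G
  obtain ⟨H, hH⟩ := Cfsg.Lib.Solv.hall_exists (G := G) (m := N / (p : ℕ) ^ N.factorization p)
    (k := (p : ℕ) ^ N.factorization p) (Nat.div_mul_cancel (Nat.ordProj_dvd _ _)).symm
    ((Nat.coprime_ordCompl p.2 Nat.card_pos.ne').pow_left _).symm
  refine ⟨H, Nat.eq_of_mul_eq_mul_left (Nat.card_pos (α := H)) ?_⟩
  rw [H.card_mul_index, hH]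
  exact (Nat.div_mul_cancel (Nat.ordProj_dvd _ _)).symm

theorem index_inf_finset {K : Nat.Primes → Subgroup G} (hK : IsComplementSystem K)
    (s : Finset Nat.Primes) :
    (s.inf K).index = ∏ p ∈ s, (p : ℕ) ^ (Nat.card G).factorization p := by
  classical
  induction s using Finset.induction_on with
  | empty => simp
  | insert q s hq ih =>
    rw [Finset.inf_insert, Finset.prod_insert hq, ← ih, ← hK q]
    refine (Cfsg.Agent.S0007.result _ _ ?_).1
    rw [hK q, ih]
    refine Nat.Coprime.prod_right fun p hp => Nat.Coprime.pow _ _ ?_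
    exact (Nat.coprime_primes q.2 p.2).2 fun h => hq (Subtype.ext h ▸ hp)

theorem index_iInf_ne {K : Nat.Primes → Subgroup G} (hK : IsComplementSystem K) (p : Nat.Primes) :
    (⨅ q : {q : Nat.Primes // q ≠ p}, K q).index * (p : ℕ) ^ (Nat.card G).factorization p =
      Nat.card G := by
  classical
  set P : Finset Nat.Primes := (Nat.card G).primeFactors.attach.image fun l =>
    (⟨l.1, Nat.prime_of_mem_primeFactors l.2⟩ : Nat.Primes)
  have hout : ∀ q : Nat.Primes, q ∉ P → K q = ⊤ := by
    intro q hq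
    rw [← index_eq_one, hK q]
    have : (Nat.card G).factorization q = 0 := by
      rw [← Finsupp.notMem_support_iff, Nat.support_factorization]
      exact fun h => hq (Finset.mem_image.2 ⟨⟨q, h⟩, Finset.mem_attach _ _, rfl⟩)
    rw [this, pow_zero]
  have heq : (⨅ q : {q : Nat.Primes // q ≠ p}, K q) = (P.erase p).inf K := by
    refine le_antisymm (Finset.le_inf fun q hq => iInf_le (fun r : {q : Nat.Primes // q ≠ p} => K r)
      ⟨q, (Finset.mem_erase.1 hq).1⟩) (le_iInf fun q => ?_)
    by_cases h : (q : Nat.Primes) ∈ P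
    · exact Finset.inf_le (Finset.mem_erase.2 ⟨q.2, h⟩)
    · rw [hout q h]; exact le_top
  rw [heq, index_inf_finset hK]
  have hprod : ∏ l ∈ P, (l : ℕ) ^ (Nat.card G).factorization l = Nat.card G := by
    conv_rhs => rw [← Nat.prod_factorization_pow_eq_self (Nat.card_pos (α := G)).ne']
    rw [Finsupp.prod, Nat.support_factorization]
    exact prod_primes_image _ (fun l hl => Nat.prime_of_mem_primeFactors hl)
      fun l => l ^ (Nat.card G).factorization l
  by_cases hp : p ∈ P
  · rw [Finset.prod_erase_mul _ _ hp, hprod]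
  · rw [Finset.erase_eq_of_notMem hp, hprod]
    have : (Nat.card G).factorization p = 0 := by
      rw [← Finsupp.notMem_support_iff, Nat.support_factorization]
      exact fun h => hp (Finset.mem_image.2 ⟨⟨p, h⟩, Finset.mem_attach _ _, rfl⟩)
    rw [this, pow_zero, mul_one]

theorem card_iInf_ne {K : Nat.Primes → Subgroup G} (hK : IsComplementSystem K) (p : Nat.Primes) :
    Nat.card ↥(⨅ q : {q : Nat.Primes // q ≠ p}, K q) = (p : ℕ) ^ (Nat.card G).factorization p := by
  have h1 := index_iInf_ne hK p
  have h2 := (⨅ q : {q : Nat.Primes // q ≠ p}, K q).card_mul_index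
  refine Nat.eq_of_mul_eq_mul_right (Nat.pos_of_ne_zero
    (index_ne_zero_of_finite (H := ⨅ q : {q : Nat.Primes // q ≠ p}, K q))) ?_
  rw [h2, mul_comm, h1]

theorem exists_sylow_system [Group.IsSolvable G] :
    ∃ S : (p : Nat.Primes) → Sylow (p : ℕ) G,
      ∀ p q : Nat.Primes, (S p : Set G) * (S q : Set G) = (S q : Set G) * (S p : Set G) := by
  classical
  obtain ⟨K, hK⟩ := exists_complementSystem (G := G)
  let T : Nat.Primes → Subgroup G := fun p => ⨅ q : {q : Nat.Primes // q ≠ p}, K q
  have hS : ∀ p : Nat.Primes, ∃ S : Sylow (p : ℕ) G, (S : Subgroup G) = T p := fun p => by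
    haveI : Fact (p : ℕ).Prime := ⟨p.2⟩
    exact ⟨Sylow.ofCard (T p) (card_iInf_ne hK p), rfl⟩
  choose S hST using hS
  refine ⟨S, fun p q => ?_⟩
  by_cases hpq : p = q
  · subst hpq; rfl
  show ((S p : Subgroup G) : Set G) * ((S q : Subgroup G) : Set G) =
    ((S q : Subgroup G) : Set G) * ((S p : Subgroup G) : Set G)
  rw [hST, hST]
  set N := Nat.card G
  let U := ⨅ r : {r : Nat.Primes // r ≠ p ∧ r ≠ q}, K r
  have hTU : ∀ a b : Nat.Primes, (a = p ∧ b = q) ∨ (a = q ∧ b = p) → T a ≤ U ∧ T a = U ⊓ K b := by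
    intro a b hab
    have h1 : T a ≤ U := le_iInf fun r => iInf_le (fun x : {x : Nat.Primes // x ≠ a} => K x)
      ⟨r.1, by rcases hab with ⟨rfl, rfl⟩ | ⟨rfl, rfl⟩; exacts [r.2.1, r.2.2]⟩
    refine ⟨h1, le_antisymm (le_inf h1 (iInf_le (fun x : {x : Nat.Primes // x ≠ a} => K x) ⟨b, ?_⟩)) ?_⟩
    · rcases hab with ⟨rfl, rfl⟩ | ⟨rfl, rfl⟩; exacts [Ne.symm hpq, hpq]
    · refine le_iInf fun r => ?_
      by_cases hr : (r : Nat.Primes) = b
      · rw [hr]; exact inf_le_right
      · refine inf_le_left.trans (iInf_le (fun x : {x : Nat.Primes // x ≠ p ∧ x ≠ q} => K x) ⟨r.1, ?_⟩)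
        rcases hab with ⟨rfl, rfl⟩ | ⟨rfl, rfl⟩; exacts [⟨r.2, hr⟩, ⟨hr, r.2⟩]
  obtain ⟨hpU, hpeq⟩ := hTU p q (Or.inl ⟨rfl, rfl⟩)
  obtain ⟨hqU, hqeq⟩ := hTU q p (Or.inr ⟨rfl, rfl⟩)
  have hUc : Nat.card U = Nat.card (T p) * Nat.card (T q) := by
    have e1 := Cfsg.Lib.Core.card_mul_relIndex hpU
    have hdvd : (p : ℕ) ^ N.factorization p * (q : ℕ) ^ N.factorization q ∣ Nat.card U := by
      refine Nat.Coprime.mul_dvd_of_dvd_of_dvd (((Nat.coprime_primes p.2 q.2).2
        fun h => hpq (Subtype.ext h)).pow _ _) ?_ ?_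
      · rw [← card_iInf_ne hK p]; exact card_dvd_of_le hpU
      · rw [← card_iInf_ne hK q]; exact card_dvd_of_le hqU
    have h2 : (U ⊓ K q).relIndex U ∣ (q : ℕ) ^ N.factorization q := by
      rw [inf_relIndex_left, ← hK q]
      have hc : U.index.Coprime (K q).index := by
        rw [hK q]
        refine Nat.Coprime.pow_right _ (Nat.Coprime.symm ?_)
        have hU : ∃ s : Finset Nat.Primes, q ∉ s ∧ U = s.inf K := by
          refine ⟨((Nat.card G).primeFactors.attach.image fun l =>
            (⟨l.1, Nat.prime_of_mem_primeFactors l.2⟩ : Nat.Primes)).filter fun r => r ≠ p ∧ r ≠ q,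
            fun h => (Finset.mem_filter.1 h).2.2 rfl, le_antisymm (Finset.le_inf fun r hr => iInf_le
              (fun x : {x : Nat.Primes // x ≠ p ∧ x ≠ q} => K x) ⟨r, (Finset.mem_filter.1 hr).2⟩)
              (le_iInf fun r => ?_)⟩
          by_cases h : (r : ℕ) ∈ (Nat.card G).primeFactors
          · exact Finset.inf_le (Finset.mem_filter.2
              ⟨Finset.mem_image.2 ⟨⟨r.1, h⟩, Finset.mem_attach _ _, rfl⟩, r.2⟩)
          · have : K r = ⊤ := by
              rw [← index_eq_one, hK]
              have h0 : (Nat.card G).factorization (r : ℕ) = 0 := by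
                rw [← Finsupp.notMem_support_iff, Nat.support_factorization]; exact h
              rw [h0, pow_zero]
            rw [this]; exact le_top
        obtain ⟨s, hs, hU⟩ := hU
        rw [hU, index_inf_finset hK]
        exact Nat.Coprime.prod_right fun r hr => Nat.Coprime.pow_right _
          ((Nat.coprime_primes q.2 r.2).2 fun h => hs (Subtype.ext h ▸ hr))
      rw [Cfsg.Lib.ThreeSolvable.relIndex_eq_index_of_mul (Cfsg.Agent.S0007.result U (K q) hc).2]
    rw [← hpeq] at h2
    refine Nat.dvd_antisymm ?_ (by rw [card_iInf_ne hK p, card_iInf_ne hK q]; exact hdvd)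
    rw [← e1]
    exact mul_dvd_mul_left _ ((card_iInf_ne hK q).symm ▸ h2)
  have hset : ∀ A B : Subgroup G, A ≤ U → B ≤ U → Nat.card A * Nat.card B = Nat.card U →
      (Nat.card A).Coprime (Nat.card B) → (A : Set G) * B = (U : Set G) := by
    intro A B hA hB hc hcop
    refine Set.eq_of_subset_of_ncard_le ?_ ?_
    · rintro _ ⟨a, ha, b, hb, rfl⟩
      exact U.mul_mem (hA ha) (hB hb)
    · rw [← Nat.card_coe_set_eq, ← Nat.card_coe_set_eq, Cfsg.Lib.Solv.card_mul_set,
        ← inf_relIndex_right, inf_eq_bot_of_coprime hcop.symm, relIndex_bot_left,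
        mul_comm, hc]
      exact le_rfl
  have hcop : (Nat.card (T p)).Coprime (Nat.card (T q)) := by
    rw [card_iInf_ne hK p, card_iInf_ne hK q]
    exact ((Nat.coprime_primes p.2 q.2).2 fun h => hpq (Subtype.ext h)).pow _ _
  rw [hset _ _ hpU hqU hUc.symm hcop, hset _ _ hqU hpU (by rw [mul_comm, hUc]) hcop.symm]

theorem complementSystems_conj [Group.IsSolvable G] {K L : Nat.Primes → Subgroup G}
    (hK : IsComplementSystem K) (hL : IsComplementSystem L) :
    ∃ g : G, ∀ p : Nat.Primes, (K p).map (MulAut.conj g).toMonoidHom = L p := by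
  classical
  set P : Finset Nat.Primes := (Nat.card G).primeFactors.attach.image fun l =>
    (⟨l.1, Nat.prime_of_mem_primeFactors l.2⟩ : Nat.Primes)
  suffices h : ∀ s : Finset Nat.Primes,
      ∃ g : G, ∀ p ∈ s, (K p).map (MulAut.conj g).toMonoidHom = L p by
    obtain ⟨g, hg⟩ := h P
    refine ⟨g, fun p => ?_⟩
    by_cases hp : p ∈ P
    · exact hg p hp
    · have h0 : (Nat.card G).factorization p = 0 := by
        rw [← Finsupp.notMem_support_iff, Nat.support_factorization]
        exact fun h => hp (Finset.mem_image.2 ⟨⟨p, h⟩, Finset.mem_attach _ _, rfl⟩)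
      have h1 : K p = ⊤ := by rw [← index_eq_one, hK p, h0, pow_zero]
      have h2 : L p = ⊤ := by rw [← index_eq_one, hL p, h0, pow_zero]
      rw [h1, h2, ← MonoidHom.range_eq_map, MonoidHom.range_eq_top]
      exact (MulAut.conj g).surjective
  intro s
  induction s using Finset.induction_on with
  | empty => exact ⟨1, fun p hp => absurd hp (Finset.notMem_empty p)⟩
  | insert q s hq ih =>
    obtain ⟨g, hg⟩ := ih
    set Y := (K q).map (MulAut.conj g).toMonoidHom
    have hYi : Y.index = (L q).index := by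
      exact (index_map_equiv (K q) (MulAut.conj g)).trans ((hK q).trans (hL q).symm)
    have hYc : Nat.card Y = Nat.card (L q) := by
      have h1 := Y.card_mul_index
      have h2 := (L q).card_mul_index
      rw [hYi, ← h2] at h1
      exact Nat.eq_of_mul_eq_mul_right (Nat.pos_of_ne_zero index_ne_zero_of_finite) h1
    obtain ⟨y, hy⟩ := Cfsg.Lib.Solv.hall_conj (G := G) (m := Nat.card (L q)) (k := (L q).index)
      (L q).card_mul_index.symm (by
        refine Nat.Coprime.symm ?_
        rw [hL q]
        refine Nat.Coprime.pow_left _ ((q.2.coprime_iff_not_dvd).2 fun hd => ?_)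
        have h1 := (L q).card_mul_index
        rw [hL q] at h1
        have h2 : (q : ℕ) ^ ((Nat.card G).factorization q + 1) ∣ Nat.card G := by
          conv_rhs => rw [← h1]
          rw [pow_succ']
          exact mul_dvd_mul_right hd _
        exact Nat.pow_succ_factorization_not_dvd Nat.card_pos.ne' q.2 h2) rfl hYc
    rw [Cfsg.Lib.Core.conj_smul_eq_map] at hy
    have hcop : (s.inf L).index.Coprime (L q).index := by
      rw [index_inf_finset hL, hL q]
      exact Nat.Coprime.prod_left fun r hr => Nat.Coprime.pow _ _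
        ((Nat.coprime_primes r.2 q.2).2 fun h => hq (Subtype.ext h ▸ hr))
    obtain ⟨a, ha, b, hb, hab⟩ := (Cfsg.Agent.S0007.result _ _ hcop).2 y
    refine ⟨a⁻¹ * g, fun p hp => ?_⟩
    have hcomp : ∀ X : Subgroup G, X.map (MulAut.conj (a⁻¹ * g)).toMonoidHom =
        (X.map (MulAut.conj g).toMonoidHom).map (MulAut.conj a⁻¹).toMonoidHom := by
      intro X
      rw [Subgroup.map_map]
      congr 1
      ext x
      simp [mul_assoc]
    rw [hcomp]
    rcases Finset.mem_insert.1 hp with rfl | hps
    · show Y.map _ = _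
      rw [← hy, Subgroup.map_map]
      have : (MulAut.conj a⁻¹).toMonoidHom.comp (MulAut.conj y).toMonoidHom =
          (MulAut.conj b).toMonoidHom := by
        ext x
        simp [hab, mul_assoc]
      rw [this]
      exact Cfsg.Lib.Core.map_conj_eq_of_mem_normalizer (le_normalizer hb)
    · rw [hg p hps]
      exact Cfsg.Lib.Core.map_conj_eq_of_mem_normalizer
        (inv_mem (le_normalizer (Finset.inf_le (f := L) hps ha)))

end Cfsg.Lib.SylowSystem
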