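import Cfsg.Agent.Lib.Solv.SylowSystem

/-!
# Complement systems modulo a normal subgroup
-/

set_option autoImplicit false

namespace Cfsg.Lib.SylowSystem

open Subgroup Cfsg
open scoped Pointwise

universe u

variable {G : Type u} [Group G] [Finite G]

theorem coprime_card_index {K : Nat.Primes → Subgroup G} (hK : IsComplementSystem K) (p : Nat.Primes) :
    (Nat.card (K p)).Coprime (K p).index := by
  rw [hK p]
  refine Nat.Coprime.pow_right _ ((p.2.coprime_iff_not_dvd).2 fun hd => ?_).symm
  have h1 := (K p).card_mul_index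
  rw [hK p] at h1
  have h2 : (p : ℕ) ^ ((Nat.card G).factorization p + 1) ∣ Nat.card G := by
    conv_rhs => rw [← h1]
    rw [pow_succ']
    exact mul_dvd_mul_right hd _
  exact Nat.pow_succ_factorization_not_dvd Nat.card_pos.ne' p.2 h2

/-- In a complement system the members for the other primes meet in a group supplementing `K p`
in every normal subgroup. -/
theorem exists_mul_of_mem_normal {K : Nat.Primes → Subgroup G} (hK : IsComplementSystem K)
    (N : Subgroup G) [N.Normal] (p : Nat.Primes) {x : G} (hx : x ∈ N) :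
    ∃ t ∈ N, (∀ q : Nat.Primes, q ≠ p → t ∈ K q) ∧ ∃ k ∈ N, k ∈ K p ∧ x = t * k := by
  set T := ⨅ q : {q : Nat.Primes // q ≠ p}, K q
  have hcop : T.index.Coprime (K p).index := by
    have h1 := T.card_mul_index
    have h2 := card_iInf_ne hK p
    have h3 := hK p
    rw [h2] at h1
    rw [h3]
    refine Nat.Coprime.pow_right _ ((p.2.coprime_iff_not_dvd).2 fun hd => ?_).symm
    have h4 : (p : ℕ) ^ ((Nat.card G).factorization p + 1) ∣ Nat.card G := by
      conv_rhs => rw [← h1]
      rw [pow_succ]
      exact mul_dvd_mul_left _ hd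
    exact Nat.pow_succ_factorization_not_dvd Nat.card_pos.ne' p.2 h4
  have hc : (T.subgroupOf N).index.Coprime ((K p).subgroupOf N).index :=
    (hcop.coprime_dvd_left (ThreeSolvable.relIndex_normal_dvd_index N T)).coprime_dvd_right
      (ThreeSolvable.relIndex_normal_dvd_index N (K p))
  obtain ⟨t, ht, k, hk, htk⟩ := (Cfsg.Agent.S0007.result _ _ hc).2 (⟨x, hx⟩ : N)
  exact ⟨t, t.2, fun q hq => (Subgroup.mem_iInf.1 (mem_subgroupOf.1 ht)) ⟨q, hq⟩, k, k.2,
    mem_subgroupOf.1 hk, congrArg Subtype.val htk⟩

/-- Two complement systems with the same image modulo `N` are conjugate under `N`. -/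
theorem conj_mem_normal [Group.IsSolvable G] {K L : Nat.Primes → Subgroup G}
    (hK : IsComplementSystem K) (hL : IsComplementSystem L) (N : Subgroup G) [N.Normal]
    (hKL : ∀ p, K p ⊔ N = L p ⊔ N) :
    ∃ n ∈ N, ∀ p : Nat.Primes, (K p).map (MulAut.conj n).toMonoidHom = L p := by
  classical
  set P : Finset Nat.Primes := (Nat.card G).primeFactors.attach.image fun l =>
    (⟨l.1, Nat.prime_of_mem_primeFactors l.2⟩ : Nat.Primes)
  suffices h : ∀ s : Finset Nat.Primes,
      ∃ n ∈ N, ∀ p ∈ s, (K p).map (MulAut.conj n).toMonoidHom = L p by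
    obtain ⟨n, hn, hg⟩ := h P
    refine ⟨n, hn, fun p => ?_⟩
    by_cases hp : p ∈ P
    · exact hg p hp
    · have h0 : (Nat.card G).factorization p = 0 := by
        rw [← Finsupp.notMem_support_iff, Nat.support_factorization]
        exact fun h => hp (Finset.mem_image.2 ⟨⟨p, h⟩, Finset.mem_attach _ _, rfl⟩)
      have h1 : K p = ⊤ := by rw [← index_eq_one, hK p, h0, pow_zero]
      have h2 : L p = ⊤ := by rw [← index_eq_one, hL p, h0, pow_zero]
      rw [h1, h2, ← MonoidHom.range_eq_map, MonoidHom.range_eq_top]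
      exact (MulAut.conj n).surjective
  intro s
  induction s using Finset.induction_on with
  | empty => exact ⟨1, N.one_mem, fun p hp => absurd hp (Finset.notMem_empty p)⟩
  | insert q s hq ih =>
    obtain ⟨n, hn, hg⟩ := ih
    set Y := (K q).map (MulAut.conj n).toMonoidHom
    set X := L q ⊔ N
    have hYi : Y.index = (L q).index :=
      (index_map_equiv (K q) (MulAut.conj n)).trans ((hK q).trans (hL q).symm)
    have hYc : Nat.card Y = Nat.card (L q) := by
      have h1 := Y.card_mul_index
      have h2 := (L q).card_mul_index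
      rw [hYi, ← h2] at h1
      exact Nat.eq_of_mul_eq_mul_right (Nat.pos_of_ne_zero index_ne_zero_of_finite) h1
    have hnX : n ∈ X := mem_sup_right hn
    have hYX : Y ≤ X := by
      rintro _ ⟨y, hy, rfl⟩
      have hy' : y ∈ X := by rw [show X = K q ⊔ N from (hKL q).symm]; exact mem_sup_left hy
      exact mul_mem (mul_mem hnX hy') (inv_mem hnX)
    haveI : Group.IsSolvable X := inferInstance
    obtain ⟨y, hy⟩ := Cfsg.Lib.Solv.hall_conj (G := X) (m := Nat.card (L q))
      (k := ((L q).subgroupOf X).index) (H := (L q).subgroupOf X) (K := Y.subgroupOf X)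
      (by
        conv_lhs => rw [← ((L q).subgroupOf X).card_mul_index]
        rw [Nat.card_congr (subgroupOfEquivOfLe (le_sup_left : L q ≤ X)).toEquiv])
      ((coprime_card_index hL q).coprime_dvd_right (relIndex_dvd_index_of_le le_sup_left))
      (Nat.card_congr (subgroupOfEquivOfLe (le_sup_left : L q ≤ X)).toEquiv)
      ((Nat.card_congr (subgroupOfEquivOfLe hYX).toEquiv).trans hYc)
    rw [Cfsg.Lib.Core.conj_smul_eq_map] at hy
    have hy' : (L q).map (MulAut.conj (y : G)).toMonoidHom = Y := by
      have h1 := congrArg (Subgroup.map X.subtype) hy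
      rw [map_subgroupOf_eq_of_le hYX, Subgroup.map_map,
        show X.subtype.comp (MulAut.conj y).toMonoidHom =
          (MulAut.conj (y : G)).toMonoidHom.comp X.subtype from MonoidHom.ext fun _ => rfl,
        ← Subgroup.map_map, map_subgroupOf_eq_of_le le_sup_left] at h1
      exact h1
    obtain ⟨m, hm, l, hl, hml⟩ := mem_sup_of_normal_left.1
      (show (y : G) ∈ N ⊔ L q from sup_comm (L q) N ▸ y.2)
    obtain ⟨t, htN, htK, k, -, hk, rfl⟩ := exists_mul_of_mem_normal hL N q hm
    refine ⟨t⁻¹ * n, mul_mem (inv_mem htN) hn, fun p hp => ?_⟩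
    have hcomp : ∀ U : Subgroup G, U.map (MulAut.conj (t⁻¹ * n)).toMonoidHom =
        (U.map (MulAut.conj n).toMonoidHom).map (MulAut.conj t⁻¹).toMonoidHom := by
      intro U
      rw [Subgroup.map_map]
      congr 1
      ext x
      simp [mul_assoc]
    rw [hcomp]
    rcases Finset.mem_insert.1 hp with rfl | hps
    · show Y.map _ = _
      rw [← hy', Subgroup.map_map]
      have : (MulAut.conj t⁻¹).toMonoidHom.comp (MulAut.conj (y : G)).toMonoidHom =
          (MulAut.conj (k * l)).toMonoidHom := by
        ext x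
        simp [← hml, mul_assoc]
      rw [this]
      exact Cfsg.Lib.Core.map_conj_eq_of_mem_normalizer (le_normalizer (mul_mem hk hl))
    · rw [hg p hps]
      exact Cfsg.Lib.Core.map_conj_eq_of_mem_normalizer
        (inv_mem (le_normalizer (htK p fun h => hq (h ▸ hps))))

theorem isComplementSystem_map {K : Nat.Primes → Subgroup G} (hK : IsComplementSystem K)
    (N : Subgroup G) [N.Normal] : IsComplementSystem (fun p => (K p).map (QuotientGroup.mk' N)) := by
  intro p
  show ((K p).map (QuotientGroup.mk' N)).index = _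
  rw [index_map, QuotientGroup.ker_mk', MonoidHom.range_eq_top.2 (QuotientGroup.mk'_surjective N),
    index_top, mul_one, ← index_eq_card]
  set S := K p ⊔ N
  have e1 : N.relIndex S * S.index = N.index := relIndex_mul_index le_sup_right
  have e2 : N.relIndex S = N.relIndex (K p) := relIndex_sup_right _ _
  have hcop : ¬ (p : ℕ) ∣ N.relIndex S := by
    rw [e2]
    intro hd
    have h1 := hd.trans (relIndex_dvd_card N (K p))
    have h2 := coprime_card_index hK p
    rw [hK p] at h2
    by_cases h0 : (Nat.card G).factorization p = 0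
    · have h3 : (p : ℕ) ∣ Nat.card G := h1.trans (card_subgroup_dvd_card _)
      exact absurd h0 (p.2.factorization_pos_of_dvd Nat.card_pos.ne' h3).ne'
    · exact p.2.ne_one (Nat.eq_one_of_dvd_coprimes h2 h1 (dvd_pow_self _ h0))
  obtain ⟨j, -, hj⟩ := (Nat.dvd_prime_pow p.2).1 (hK p ▸ index_dvd_of_le (le_sup_left : K p ≤ S))
  have hS0 : N.relIndex S ≠ 0 := fun h => hcop (h ▸ dvd_zero _)
  rw [← e1, Nat.factorization_mul hS0 index_ne_zero_of_finite, Finsupp.add_apply,
    Nat.factorization_eq_zero_of_not_dvd hcop, zero_add, hj, p.2.factorization_pow, Finsupp.single_eq_same]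

theorem systemNormalizer_map [Group.IsSolvable G] {K : Nat.Primes → Subgroup G}
    (hK : IsComplementSystem K) (N : Subgroup G) [N.Normal] :
    systemNormalizer (fun p => (K p).map (QuotientGroup.mk' N)) =
      (systemNormalizer K).map (QuotientGroup.mk' N) := by
  have hf := QuotientGroup.mk'_surjective N
  refine le_antisymm (fun z hz => ?_) ?_
  · obtain ⟨g, rfl⟩ := hf z
    let L : Nat.Primes → Subgroup G := fun p => (K p).map (MulAut.conj g).toMonoidHom
    have hL : IsComplementSystem L := fun p => (index_map_equiv (K p) (MulAut.conj g)).trans (hK p)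
    have hKL : ∀ p, L p ⊔ N = K p ⊔ N := by
      intro p
      have h1 : QuotientGroup.mk' N g ∈ Subgroup.normalizer (((K p).map (QuotientGroup.mk' N) : Subgroup _) : Set _) :=
        (Subgroup.mem_iInf.1 hz) p
      have h3 : g ∈ Subgroup.normalizer (((((K p).map (QuotientGroup.mk' N))).comap (QuotientGroup.mk' N) : Subgroup G) : Set G) := by
        rw [← comap_normalizer_eq_of_surjective _ hf]
        exact h1
      rw [comap_map_eq, QuotientGroup.ker_mk'] at h3
      have h2 := Cfsg.Lib.Core.map_conj_eq_of_mem_normalizer h3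
      rw [Subgroup.map_sup] at h2
      rwa [Cfsg.Lib.Core.map_conj_eq_of_mem_normalizer
        (by rw [normalizer_eq_top]; exact mem_top g : g ∈ Subgroup.normalizer (N : Set G))] at h2
    obtain ⟨n, hn, hmap⟩ := conj_mem_normal hL hK N hKL
    refine ⟨n * g, Subgroup.mem_iInf.2 fun p => Cfsg.Lib.Core.mem_normalizer_iff_map_conj.2 ?_, ?_⟩
    · have h1 := hmap p
      rw [Subgroup.map_map] at h1
      rw [show (MulAut.conj (n * g)).toMonoidHom =
        (MulAut.conj n).toMonoidHom.comp (MulAut.conj g).toMonoidHom from MonoidHom.ext fun x => by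
          simp [mul_assoc]]
      exact h1
    · rw [map_mul, show QuotientGroup.mk' N n = 1 from (QuotientGroup.eq_one_iff n).2 hn, one_mul]
  · rintro _ ⟨g, hg, rfl⟩
    exact Subgroup.mem_iInf.2 fun p => le_normalizer_map _ ⟨g, (Subgroup.mem_iInf.1 hg) p, rfl⟩

end Cfsg.Lib.SylowSystem
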